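import Cfsg.Agent.D4F.Two

/-!
The automorphism group of `U K` modulo a normal `p`-subgroup.  `RFS/AutS`, `U5F/AutS` are the same file for `²F₄`, `SU₅`.
Read the headers and signatures of `D4F/U`, `U5F/Gen`, `D4F/Def`.  `k` is the fixed field of `θ`.  Tools: `simp only [mem_X, UC, UV, h..]` (`UE`, `TE`
unfold `T N χ B`) then `ring`, `field_simp`, `grind`; `afn_mul`, `afn_mem`, `afn_cm`, `afn_dv`, `afn_res`, `homOn_afn`, `cjQ`, `cjR`, `congQ`,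
`congR`, `mem_OQ`, `mem_OR`, `dv_Z1`, `dv_Z2`, `dv_Z3`, `dv_Z4`, `cm_c`, `cm_d4`, `cm_e3`, `cm_z2`, `cm_dR`, `cm_zR3`, `cm_zQ`, `decomp`.
Signatures of `D4F/Lin`, `D4F/Two`.
-/

set_option autoImplicit false
set_option linter.unusedSectionVars false
set_option linter.unusedSimpArgs false
set_option linter.unnecessarySeqFocus false

namespace Cfsg.Agent.D4F

open Subgroup Cfsg.Agent.RFS Cfsg.Agent.U5F Cfsg.Agent.Fus

variable {K : Type*} [Field K] [Tri K] {A₀ : Subgroup (MulAut (U K))}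
  {A : Subgroup (MulAut (Qs : Subgroup (U K)))} {B₀ : Subgroup (MulAut (Rs : Subgroup (U K)))}

theorem aS_cm (φ : MulAut (U K)) (g h : U K) : φ (cm g h) = cm (φ g) (φ h) := by
  simp only [cm, map_mul, map_inv]

theorem aS_a (φ : MulAut (U K)) {u v : U K} (h : u.a = v.a) : (φ u).a = (φ v).a := by
  have : (φ (v⁻¹ * u)).a = 0 := chr_mem (L := Qs) φ (show (v⁻¹ * u).a = 0 by simp only [UC, h]; ring)
  rw [map_mul, map_inv] at this
  simp only [UC] at this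
  linear_combination this

theorem aS_b (φ : MulAut (U K)) {u v : U K} (h : u.b = v.b) : (φ u).b = (φ v).b := by
  have : (φ (v⁻¹ * u)).b = 0 := chr_mem (L := Rs) φ (show (v⁻¹ * u).b = 0 by simp only [UC, h]; ring)
  rw [map_mul, map_inv] at this
  simp only [UC] at this
  linear_combination this

theorem aS_dv3 {u v : U K} (hu : u ∈ Z4) (hv : v ∈ Z4) : u⁻¹ * v ∈ Z3 ↔ v.c = u.c :=
  (dv_Z3 hu.2 hv.2).trans (and_iff_right (hv.1.trans hu.1.symm))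

theorem aS_dv1 {u v : U K} (hu : u ∈ Z2) (hv : v ∈ Z2) : u⁻¹ * v ∈ Z1 ↔ v.e = u.e :=
  (dv_Z1 hu.1 hv.1).trans ⟨fun h => h.2.2.2, fun h =>
    ⟨hv.2.1.trans hu.2.1.symm, hv.2.2.1.trans hu.2.2.1.symm, hv.2.2.2.trans hu.2.2.2.symm, h⟩⟩

theorem aS_c (φ : MulAut (U K)) {u v : U K} (hu : u ∈ Z4) (hv : v ∈ Z4) (h : u.c = v.c) : (φ u).c = (φ v).c := by
  rw [← aS_dv3 (chr_mem φ hv) (chr_mem φ hu), ← map_inv, ← map_mul]
  exact chr_mem φ ((aS_dv3 hv hu).2 h)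

theorem aS_d (φ : MulAut (U K)) {u v : U K} (hu : u ∈ Z3) (hv : v ∈ Z3) (h : u.d = v.d) : (φ u).d = (φ v).d := by
  rw [← dv_Z2 (chr_mem φ hv) (chr_mem φ hu), ← map_inv, ← map_mul]
  exact chr_mem φ ((dv_Z2 hv hu).2 h)

theorem aS_e (φ : MulAut (U K)) {u v : U K} (hu : u ∈ Z2) (hv : v ∈ Z2) (h : u.e = v.e) : (φ u).e = (φ v).e := by
  rw [← aS_dv1 (chr_mem φ hv) (chr_mem φ hu), ← map_inv, ← map_mul]
  exact chr_mem φ ((aS_dv1 hv hu).2 h)

theorem aS_Z1 {u v : U K} (hu : u ∈ Z1) (hv : v ∈ Z1) (h : u.z = v.z) : u = v := by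
  rw [mem_Z1] at hu hv
  ext <;> simp only [hu, hv, h]

/-- An element of the centre is a commutator. -/
theorem aS_z (φ : MulAut (U K)) {u : U K} (hu : u ∈ Z1) :
    (φ u).z = (φ (Xb u.z u.hz)).b * (φ (Xe 1 θ1)).e := by
  have z2 : Xe (1 : K) θ1 ∈ Z2 := ⟨rfl, rfl, rfl, rfl⟩
  rw [aS_Z1 hu (cm_S_Z2 (Xb u.z u.hz) z2) (by simp only [cm_z2 _ z2, UC]), aS_cm, cm_z2 _ (chr_mem φ z2)]
  simp only [cm_z2 _ z2, UC]

theorem aS_a1 (φ : MulAut (U K)) {u : U K} (h : u.a ≠ 0) : (φ u).a ≠ 0 := fun e => by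
  have : (φ.symm (φ u)).a = 0 := chr_mem (L := Qs) φ.symm e
  rw [MulEquiv.symm_apply_apply] at this
  exact h this

theorem aS_b1 (φ : MulAut (U K)) {u : U K} (h : u.b ≠ 0) : (φ u).b ≠ 0 := fun e => by
  have : (φ.symm (φ u)).b = 0 := chr_mem (L := Rs) φ.symm e
  rw [MulEquiv.symm_apply_apply] at this
  exact h this

/-- In characteristic two: `simp only [pow_succ, UE]`, then `grind` or `linear_combination _ * h2`; first compute `g * g ∈ Z4`: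
`c = g.b g.a`, `d = χ g.a g.b + B g.a g.c`; for `n ∈ Z4`, `n * n = Xz (T (n.c * n.d))`. -/
theorem pow_four (h2 : (2 : K) = 0) (g : U K) : g ^ 4 ∈ Z1 ∧ (g ^ 4).z = g.b ^ 2 * N g.a := by
  have e : g ^ 4 = (g * g) * (g * g) := by rw [show 4 = 2 + 2 from rfl, pow_add, pow_two]
  have ha : (g * g).a = 0 := by simp only [UC]; linear_combination g.a * h2
  have hb : (g * g).b = 0 := by simp only [UC]; linear_combination g.b * h2
  have hc : (g * g).c = g.b * g.a := by simp only [UC]; linear_combination (g.c - g.b * g.a) * h2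
  have hd : (g * g).d = χ g.a * g.b + B g.a g.c := by simp only [UC]; linear_combination (g.d - B g.a g.c) * h2
  rw [e]
  generalize g * g = n at ha hb hc hd
  refine ⟨⟨?_, ?_, ?_, ?_, ?_⟩, ?_⟩
  · simp only [UC, ha]
  · simp only [UC, hb]
  · simp only [UC, ha, hb]; linear_combination n.c * h2
  · simp only [UC, ha, hb]; linear_combination n.d * h2
  · simp only [UC, ha, hb]; linear_combination n.e * h2
  · simp only [UC, ha, hb, hc, hd]
    simp only [TE]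
    linear_combination (n.z - 2 * g.b ^ 2 * (g.a * θ g.a * θ (θ g.a)) - g.b * (θ g.a * θ (θ g.a) * g.c +
      θ (θ g.a) * g.a * θ g.c + g.a * θ g.a * θ (θ g.c))) * h2

/-- PROOF.  `Qs, Rs, Z1 .. Z4` are characteristic (`chr_mem`).  `F t = (φ (Xa t)).a`, `G s = (φ (Xb s _)).b` (`dite`), `H t = (φ (Xc t)).c`,
`D t = (φ (Xd t)).d`; `(φ u).a = F u.a`, `(φ u).b = G u.b`, `(φ u).c = H u.c` on `Z4`, `(φ u).d = D u.d` on `Z3`; all are additive,
`F 1 ≠ 0 ≠ G 1 = g` (use `φ⁻¹`).  `cm_c` for `cm (Xb s _) (Xa t)`: `H (s t) = G s F t`; so `H = g F`, `F (s t) = (G s / g) F t`, `G / g` is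
multiplicative on `k`, `= f₀` (`exists_ext`).  `F₀ = F ∘ f₀⁻¹` is `k`-linear (`θf`).  `cm_d4` for `cm (Xa t) (Xc u)`: `D (B t u) = g B (F t) (F u)`;
`D₀ = g⁻¹ D ∘ f₀⁻¹` has `D₀ (B t u) = B (F₀ t) (F₀ u)` (`fB`) and is `k`-linear (`exists_B`, `B_smul`).  If `2 ≠ 0`: `semi_odd`.  If `2 = 0`:
`Xz s = cm (Xb s _) (Xe 1 θ1)` gives `(φ (Xz s)).z = G s * ε` (`cm_z2`), `pow_four` for `Xa t * Xb 1 θ1` and its image gives
`G (N t) ε = g² N (F t)`, so `N (F₀ t) = c N t` (`fN`); `semi_norm`.  So `F₀ = r f₁`, `f = f₁ * f₀`; `F (s * 1) = f₀ s F 1` shows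
`f s = f₀ s` on `k`. -/
theorem autS (hq : ∃ s : K, θ s = s ∧ s ≠ 0 ∧ s ≠ 1) (φ : MulAut (U K)) :
    ∃ (r : Kˣ) (s : ku K) (f : K ≃+* K), ∀ u, (φ u).a = r * f u.a ∧ (φ u).b = kv s * f u.b := by
  classical
  have z4 : ∀ t : K, Xc t ∈ Z4 := fun t => ⟨rfl, rfl⟩
  have z3 : ∀ t : K, Xd t ∈ Z3 := fun t => ⟨rfl, rfl, rfl⟩
  obtain ⟨F, hF⟩ : ∃ F : K → K, ∀ u, (φ u).a = F u.a := ⟨fun t => (φ (Xa t)).a, fun u => aS_a φ rfl⟩
  obtain ⟨G, hG⟩ : ∃ G : K → K, ∀ u, (φ u).b = G u.b :=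
    ⟨fun s => if h : θ s = s then (φ (Xb s h)).b else 0, fun u => by beta_reduce; rw [dif_pos u.hb]; exact aS_b φ rfl⟩
  obtain ⟨H, hH⟩ : ∃ H : K → K, ∀ u ∈ Z4, (φ u).c = H u.c :=
    ⟨fun t => (φ (Xc t)).c, fun u hu => aS_c φ hu (z4 _) rfl⟩
  obtain ⟨D, hD⟩ : ∃ D : K → K, ∀ u ∈ Z3, (φ u).d = D u.d :=
    ⟨fun t => (φ (Xd t)).d, fun u hu => aS_d φ hu (z3 _) rfl⟩
  have Fa : ∀ s t, F (s + t) = F s + F t := fun s t => by
    have := hF (Xa s * Xa t)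
    rw [map_mul] at this
    simpa only [UC, hF] using this.symm
  have Ga : ∀ s t, θ s = s → θ t = t → G (s + t) = G s + G t := fun s t hs ht => by
    have := hG (Xb s hs * Xb t ht)
    rw [map_mul] at this
    simpa only [UC, hG] using this.symm
  have Da : ∀ s t, D (s + t) = D s + D t := fun s t => by
    have := hD _ (mul_mem (z3 s) (z3 t))
    rw [map_mul] at this
    simpa only [UC, hD _ (z3 _), (chr_mem φ (z3 s)).1] using this.symm
  have D0 : D 0 = 0 := by simpa only [map_one, UC] using (hD 1 (one_mem _)).symm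
  have Dn : ∀ s, D (-s) = -D s := fun s => by
    have := Da s (-s)
    rw [add_neg_cancel, D0] at this
    linear_combination -this
  have F0 : F 0 = 0 := by simpa only [map_one, UC] using (hF 1).symm
  have F1 : F 1 ≠ 0 := by simpa only [hF, UC] using aS_a1 φ (u := Xa 1) one_ne_zero
  have G1 : G 1 ≠ 0 := by simpa only [hG, UC] using aS_b1 φ (u := Xb 1 θ1) one_ne_zero
  have Gk : ∀ s, θ s = s → θ (G s) = G s := fun s hs => by simpa only [hG, UC] using (φ (Xb s hs)).hb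
  have HGF : ∀ s t, θ s = s → H (s * t) = G s * F t := fun s t hs => by
    have := hH _ (cm_S_S (Xb s hs) (Xa t))
    rw [aS_cm] at this
    simpa only [cm_c, hF, hG, UC, F0] using this.symm
  have HF : ∀ t, H t = G 1 * F t := fun t => by rw [← HGF 1 t θ1, one_mul]
  have FG : ∀ s t, θ s = s → F (s * t) = G s / G 1 * F t := fun s t hs => by
    have := HGF s t hs
    rw [HF] at this
    field_simp
    linear_combination this
  obtain ⟨f₀, hf⟩ := exists_ext (G := fun s => G s / G 1) (fun s hs => by rw [map_div₀, Gk s hs, Gk 1 θ1])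
    (fun s t hs ht => by rw [Ga s t hs ht, add_div]) (fun s t hs ht => by
      have h1 := FG (s * t) 1 (by rw [map_mul, hs, ht])
      rw [mul_assoc, FG s _ hs, FG t _ ht, ← mul_assoc] at h1
      exact (mul_right_cancel₀ F1 h1).symm) (div_self G1)
  have DB : ∀ t u, D (B t u) = G 1 * B (F t) (F u) := fun t u => by
    have := hD _ (cm_S_Z4 (Xa t) (z4 u))
    rw [aS_cm, cm_d4 _ (chr_mem φ (z4 u)), cm_d4 _ (z4 u), hH _ (z4 u), HF, B_smul (Gk 1 θ1), Dn, hF] at this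
    exact (neg_injective this).symm
  have Fa' : ∀ s t, F (f₀.symm (s + t)) = F (f₀.symm s) + F (f₀.symm t) := fun s t => by rw [map_add, Fa]
  have Fm' : ∀ s t, θ s = s → F (f₀.symm (s * t)) = s * F (f₀.symm t) := fun s t hs => by
    rw [map_mul, FG _ _ (θf _ hs), hf _ (θf _ hs), RingEquiv.apply_symm_apply]
  have F1' : F (f₀.symm 1) ≠ 0 := by rwa [map_one]
  obtain ⟨r, f₁, h₁⟩ : ∃ (r : Kˣ) (f₁ : K ≃+* K), ∀ t, F (f₀.symm t) = r * f₁ t := by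
    by_cases h2 : (2 : K) = 0
    · refine semi_norm (F := fun t => F (f₀.symm t)) (fun h3 => one_ne_zero (α := K) (by linear_combination h3 - h2)) hq
        Fa' Fm' F1' (c := (φ (Xe 1 θ1)).e / G 1) fun t => ?_
      have k1 := pow_four h2 (Xa (f₀.symm t) * Xb 1 θ1)
      have k2 := (pow_four h2 (φ (Xa (f₀.symm t) * Xb 1 θ1))).2
      rw [← map_pow, aS_z φ k1.1, hG, hG, hF] at k2
      have k3 := hf _ (θN (f₀.symm t))
      rw [fN, RingEquiv.apply_symm_apply] at k3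
      simp only [UC, k1.2, one_pow] at k2
      field_simp at k3 ⊢
      rw [k3] at k2
      refine mul_left_cancel₀ G1 ?_
      linear_combination -k2
    · have DB' : ∀ t u, D (f₀.symm (B t u)) / G 1 = B (F (f₀.symm t)) (F (f₀.symm u)) := fun t u => by
        rw [fB, DB, mul_div_cancel_left₀ _ G1]
      refine semi_odd (F := fun t => F (f₀.symm t)) (D := fun t => D (f₀.symm t) / G 1) h2 Fa' Fm' F1'
        (fun s t => by rw [map_add, Da, add_div]) (fun s t hs => ?_) DB'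
      obtain ⟨x, y, rfl⟩ := exists_B t
      rw [← B_smul hs, DB', DB', Fm' _ _ hs, B_smul hs]
  have fk : ∀ s, θ s = s → f₁ s = s := fun s hs => by
    have := Fm' s 1 hs
    rw [h₁, h₁, mul_one, map_one, mul_one, mul_comm] at this
    exact mul_right_cancel₀ r.ne_zero this
  refine ⟨r, mkk (G 1) G1 (Gk 1 θ1), f₀.trans f₁, fun u => ⟨?_, ?_⟩⟩
  · rw [hF, RingEquiv.trans_apply, ← h₁, RingEquiv.symm_apply_apply]
  · rw [hG, RingEquiv.trans_apply, fk _ (θf _ u.hb), ← hf _ u.hb]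
    simp only [UV]
    field_simp

variable (K) in
/-- The kernel of the action on `S / Z4`. -/
def OS : Subgroup (MulAut (U K)) where
  carrier := {φ | ∀ u, (φ u).a = u.a ∧ (φ u).b = u.b}
  one_mem' _ := ⟨rfl, rfl⟩
  mul_mem' {_ β} hα hβ u := ⟨(hα (β u)).1.trans (hβ u).1, (hα (β u)).2.trans (hβ u).2⟩
  inv_mem' {α} hα u := by
    have := hα (α⁻¹ u)
    rw [MulAut.apply_inv_self] at this
    exact ⟨this.1.symm, this.2.symm⟩

instance OS.normal : (OS K).Normal := by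
  refine ⟨fun β hβ α u => ?_⟩
  have h1 := aS_a α (hβ (α⁻¹ u)).1
  have h2 := aS_b α (hβ (α⁻¹ u)).2
  rw [MulAut.apply_inv_self] at h1 h2
  exact ⟨h1, h2⟩

/-- PROOF.  `AC.isPGroup_of_coprime`, `AC.eq_one_of_chain` with `⊥ < Z1 < Z2 < Z3 < Z4 < ⊤`.  For `φ ∈ OS K`: `n ∈ Z4` is
`cm (Xb 1 θ1) (Xa n.c)` modulo `Z3` (`cm_c`), `n ∈ Z3` is `cm (Xa t) (Xc u)` modulo `Z2` (`cm_d4`, `exists_B`), `n ∈ Z2` is `cm (Xa 1) (Xd t)`
modulo `Z1` (`cm_e3`, `exists_T`), `n ∈ Z1` is `cm (Xb 1 θ1) (Xe n.z _)` (`cm_z2`). -/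
theorem isPGroup_OS : IsPGroup (Tri.p K) (OS K) := by
  refine AC.isPGroup_of_coprime fun φ hφ ho => ?_
  have ha : ∀ u, (φ u).a = u.a := fun u => (hφ u).1
  have hb : ∀ u, (φ u).b = u.b := fun u => (hφ u).2
  have hc : ∀ n ∈ Z4, (φ n).c = n.c := fun n hn => by
    rw [aS_c φ hn (cm_S_S (Xb 1 θ1) (Xa n.c)) (by simp only [cm_c, UC]), aS_cm, cm_c]
    simp only [ha, hb, UC]
  have hd : ∀ n ∈ Z3, (φ n).d = n.d := fun n hn => by
    obtain ⟨t, u, e⟩ := exists_B (-n.d)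
    have z4 : Xc u ∈ Z4 := ⟨rfl, rfl⟩
    rw [aS_d φ hn (cm_S_Z4 (Xa t) z4) (by simp only [cm_d4 _ z4, UC, e]), aS_cm, cm_d4 _ (chr_mem φ z4), hc _ z4]
    simp only [ha, UC, e]
  have he : ∀ n ∈ Z2, (φ n).e = n.e := fun n hn => by
    obtain ⟨t, e⟩ := exists_T (one_ne_zero (α := K)) n.he
    have z3 : Xd t ∈ Z3 := ⟨rfl, rfl, rfl⟩
    rw [aS_e φ hn (cm_S_Z3 (Xa 1) z3) (by rw [cm_e3 _ z3, ← e]; rfl), aS_cm, cm_e3 _ (chr_mem φ z3), hd _ z3, ha, ← e]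
    rfl
  have hz : ∀ z ∈ Z1, φ z = z := fun z h => aS_Z1 (chr_mem φ h) h (by
    rw [aS_z φ h, hb, he _ ⟨rfl, rfl, rfl, rfl⟩]
    simp only [UC])
  refine AC.eq_one_of_chain isPGroup_U ho
    (fun i => match i with | 0 => ⊥ | 1 => Z1 | 2 => Z2 | 3 => Z3 | 4 => Z4 | _ => ⊤) 5 rfl
    bot_le (fun i hi x hx => ?_) fun i hi y h => ?_
  · interval_cases i
    · exact (mem_bot.1 hx) ▸ mem_bot.2 (map_one φ)
    · exact chr_mem (L := Z1) φ hx
    · exact chr_mem (L := Z2) φ hx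
    · exact chr_mem (L := Z3) φ hx
    · exact chr_mem (L := Z4) φ hx
  · interval_cases i
    · exact mem_bot.2 (by rw [hz y h, inv_mul_cancel])
    · exact (aS_dv1 h (chr_mem (L := Z2) φ h)).2 (he y h)
    · exact (dv_Z2 h (chr_mem (L := Z3) φ h)).2 (hd y h)
    · exact (aS_dv3 h (chr_mem (L := Z4) φ h)).2 (hc y h)
    · exact dv_Z4.2 (hφ y)

/-- Copy of `U5F.sz`; the hypothesis is only needed for the elements of `A`. -/
theorem sz' {X : Type*} [Group X] [Finite X] {p : ℕ} [Fact p.Prime] {O T A N : Subgroup X} [O.Normal] [N.Normal]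
    (hO : IsPGroup p O) (hX : ∀ x ∈ A, ∃ o ∈ O, ∃ t ∈ T, x = o * t) (hN : N ≤ A) (hs : SylIn p N A) :
    ∃ γ, ∀ a ∈ A, ∃ n ∈ N, ∃ t ∈ T, γ * a * γ⁻¹ = n * t := by
  obtain ⟨C, hK⟩ := exists_right_complement'_of_coprime (N := N.subgroupOf A)
    (cop (isPGroup_subgroupOf A (hs.isPGroup hN)) hs.not_dvd_relIndex).symm
  have hc : ¬ p ∣ Nat.card (C.map A.subtype) := by
    rw [card_map_of_injective A.subtype_injective, ← hK.symm.index_eq_card]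
    exact hs.not_dvd_relIndex
  obtain ⟨k, -, hk⟩ := Solv.exists_conj_mem_of_coprime (C.map A.subtype) O T
    (le_normalizer_of_normal) (cop hO hc) (Or.inr (solv hO)) fun a ha => by
      obtain ⟨o, ho, t, ht, rfl⟩ := hX a (map_subtype_le C ha)
      exact ⟨o, ho, by rwa [inv_mul_cancel_left]⟩
  refine ⟨k⁻¹, fun a ha => ?_⟩
  obtain ⟨⟨n, h⟩, e⟩ := (hK.existsUnique ⟨a, ha⟩).exists
  have e' : ((n : A) : X) * ((h : A) : X) = a := congrArg Subtype.val e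
  refine ⟨k⁻¹ * ((n : A) : X) * k⁻¹⁻¹, ‹N.Normal›.conj_mem _ n.2 _, _, hk _ ⟨h, h.2, rfl⟩, ?_⟩
  rw [← e', coe_subtype]; group

variable (K) in
/-- The action on `S / Qs`. -/
def ρa : MulAut (U K) →* Equiv.Perm K := MonoidHom.toHomPerm
  { toFun := fun φ t => (φ (Xa t)).a
    map_one' := rfl
    map_mul' := fun φ _ => funext fun _ => aS_a φ rfl }

theorem ρa_apply (φ : MulAut (U K)) (u : U K) : ρa K φ u.a = (φ u).a := aS_a φ rfl

/-- PROOF (`q = 2`).  `ρ : MulAut (U K) →* Equiv.Perm K`, `ρ φ t = (φ (Xa t)).a` (`MonoidHom.toHomPerm` or directly; `(φ u).a = ρ φ u.a`),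
`ρ (tf r s f) = sl r f`, `ρ (conj g) = 1`.  `H = A₀.map ρ` has odd order (`h.syl.not_dvd_relIndex`: `#H = ρ.ker.relIndex A₀` divides
`conj.range.relIndex A₀`; `qq_two`).  `two_conj` with `Γ = ρ.range`.  Every `φ` fixes the coordinate `b ∈ {0, 1}` (`chr_Rs` for `φ`, `φ⁻¹`). -/
theorem exists_pre (h2 : ∀ s : K, θ s = s → s = 0 ∨ s = 1) (h : SA (Tri.p K) A₀) :
    ∃ γ : MulAut (U K), ∀ φ ∈ A₀, ∃ o ∈ OS K, ∃ t ∈ TF K, γ * φ * γ⁻¹ = o * t := by
  have hb : ∀ (φ : MulAut (U K)) u, (φ u).b = u.b := fun φ u => by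
    rcases h2 _ u.hb with e | e
    · exact (chr_mem (L := Rs) φ e).trans e.symm
    · exact ((h2 _ (φ u).hb).resolve_left (aS_b1 φ (e ▸ one_ne_zero))).trans e.symm
  have ht : ∀ r f, ρa K (tf r 1 f) = sl r f := fun r f => Equiv.ext fun _ => rfl
  obtain ⟨_, ⟨γ, rfl⟩, hγ⟩ := two_conj h2 (Γ := (ρa K).range) (H := A₀.map (ρa K)) (by
    rintro _ ⟨φ, rfl⟩ x y
    have := ρa_apply φ (Xa x * Xa y)
    rw [map_mul] at this
    exact this) (fun r f => ⟨_, ht r f⟩) (map_le_range _ _) fun hd => h.syl.not_dvd_relIndex (by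
      rw [← relIndex_ker, ← (qq_two h2).2.1] at hd
      refine hd.trans (relIndex_dvd_of_le_left _ ?_)
      rintro _ ⟨g, rfl⟩
      refine Equiv.ext fun t => ?_
      change (g * Xa t * g⁻¹).a = t
      simp only [UC]
      ring)
  refine ⟨γ, fun φ hφ => ?_⟩
  obtain ⟨r, f, e⟩ := hγ _ ⟨φ, hφ, rfl⟩
  refine ⟨γ * φ * γ⁻¹ * (tf r 1 f)⁻¹, fun u => ⟨?_, hb _ u⟩, _, ⟨r, 1, f, rfl⟩, by group⟩
  rw [← ρa_apply, map_mul, map_mul, map_mul, map_inv, map_inv, e, ht, mul_inv_cancel]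
  rfl

/-- PROOF.  In both cases (`autS` with `γ₀ = 1`, `exists_pre`) there is `γ₀` as in `exists_pre`.  `sz'` for `A = A₀.map (conj γ₀)`,
`O = OS K`, `T = TF K`, `N = MulAut.conj.range` (normal, so `SylIn` is transported: `sylIn_map_iff_of_injective`; or apply `sz'` to
`A₀` and `T = (TF K).comap (MulAut.conj γ₀)`). -/
theorem exists_form (h : SA (Tri.p K) A₀) : ∃ γ : MulAut (U K), Form (A₀.map (MulAut.conj γ).toMonoidHom) := by
  have hN : (MulAut.conj (G := U K)).range.Normal := ⟨by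
    rintro _ ⟨g, rfl⟩ α
    exact ⟨α g, MulEquiv.ext fun x => by simp⟩⟩
  obtain ⟨γ₀, h₀⟩ : ∃ γ : MulAut (U K), ∀ φ ∈ A₀, ∃ o ∈ OS K, ∃ t ∈ TF K, γ * φ * γ⁻¹ = o * t := by
    by_cases hq : ∃ s : K, θ s = s ∧ s ≠ 0 ∧ s ≠ 1
    · refine ⟨1, fun φ _ => ?_⟩
      obtain ⟨a, b, f, e⟩ := autS hq φ
      refine ⟨φ * (tf a b f)⁻¹, fun u => ?_, _, ⟨a, b, f, rfl⟩, by group⟩
      have h1 := e ((tf a b f)⁻¹ u)
      have h2 := MulAut.apply_inv_self _ (tf a b f) u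
      exact ⟨h1.1.trans (congrArg U.a h2), h1.2.trans (congrArg U.b h2)⟩
    · exact exists_pre (fun s hs => by_contra fun c => hq ⟨s, hs, not_or.1 c⟩) h
  obtain ⟨γ, hγ⟩ := sz' (T := (TF K).comap (MulAut.conj γ₀).toMonoidHom) isPGroup_OS (fun φ hφ => by
    obtain ⟨o, ho, t, ht, e⟩ := h₀ φ hφ
    refine ⟨γ₀⁻¹ * o * γ₀⁻¹⁻¹, OS.normal.conj_mem _ ho _, γ₀⁻¹ * t * γ₀, ?_, ?_⟩
    · change γ₀ * (γ₀⁻¹ * t * γ₀) * γ₀⁻¹ ∈ TF K
      convert ht using 1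
      group
    · calc φ = γ₀⁻¹ * (γ₀ * φ * γ₀⁻¹) * γ₀ := by group
        _ = _ := by rw [e]; group)
    (by rintro _ ⟨g, rfl⟩; exact h.conj g) h.syl
  refine ⟨γ₀ * γ, ?_⟩
  rintro _ ⟨φ, hφ, rfl⟩
  obtain ⟨n, hn, t, ⟨a, b, f, ht⟩, e⟩ := hγ φ hφ
  obtain ⟨g, hg⟩ := hN.conj_mem n hn γ₀
  refine ⟨g, a, b, f, ?_⟩
  rw [← ht, hg]
  change γ₀ * γ * φ * (γ₀ * γ)⁻¹ = γ₀ * n * γ₀⁻¹ * (γ₀ * t * γ₀⁻¹)
  calc _ = γ₀ * (γ * φ * γ⁻¹) * γ₀⁻¹ := by group
    _ = _ := by rw [e]; group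

end Cfsg.Agent.D4F
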