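import Cfsg.Agent.D4F.Ker

/-!
The torus has no fixed points in `OQ`, `OR`; the reflections lie in the automizers.  `U5F/Cen` is the same file for `SU₅`.
Read the headers and signatures of `D4F/U`, `U5F/Gen`, `D4F/Def`.  `k` is the fixed field of `θ`.  Tools: `simp only [mem_X, UC, UV, h..]` (`UE`, `TE`
unfold `T N χ B`) then `ring`, `field_simp`, `grind`; `afn_mul`, `afn_mem`, `afn_cm`, `afn_dv`, `afn_res`, `homOn_afn`, `cjQ`, `cjR`, `congQ`,
`congR`, `mem_OQ`, `mem_OR`, `dv_Z1`, `dv_Z2`, `dv_Z3`, `dv_Z4`, `cm_c`, `cm_d4`, `cm_e3`, `cm_z2`, `cm_dR`, `cm_zR3`, `cm_zQ`, `decomp`.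
Signatures of `D4F/Lin`, `D4F/Ker`.
-/

set_option autoImplicit false
set_option linter.unusedSectionVars false
set_option linter.unusedSimpArgs false
set_option linter.unnecessarySeqFocus false

namespace Cfsg.Agent.D4F

open Subgroup Cfsg.Agent.RFS Cfsg.Agent.U5F Cfsg.Agent.Fus

variable {K : Type*} [Field K] [Tri K] {A₀ : Subgroup (MulAut (U K))}
  {A : Subgroup (MulAut (Qs : Subgroup (U K)))} {B₀ : Subgroup (MulAut (Rs : Subgroup (U K)))}

theorem add_zero' {L : Type*} [Field L] {F : L → K} (hF : ∀ s t, F (s + t) = F s + F t) {d : L} (hd : d ≠ 1)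
    (h : ∀ t, F (d * t) = F t) (t : L) : F t = 0 := by
  obtain ⟨s, rfl⟩ : ∃ s, t = (d - 1) * s := ⟨t / (d - 1), by field_simp [sub_ne_zero.2 hd]⟩
  have := hF ((d - 1) * s) s
  rw [show (d - 1) * s + s = d * s by ring, h] at this
  exact right_eq_add.1 this

/-- The displacement of the last coordinate. -/
noncomputable def dz (o : MulAut (Qs : Subgroup (U K))) (u : U K) : K := (afn o u).z - u.z

section

variable {o : MulAut (Qs : Subgroup (U K))} (ho : o ∈ OQ K)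
include ho

theorem dz_add {u v : U K} (hu : u ∈ Qs) (hv : v ∈ Qs) : dz o (u * v) = dz o u + dz o v := by
  simp only [dz, homOn_afn o _ hu _ hv, UC, mem_OQ.1 ho u hu, mem_OQ.1 ho v hv, mem_Qs.1 hu, mem_Qs.1 (afn_mem o hu)]
  ring

theorem dz_cg {u v : U K} (hu : u ∈ Qs) (hv : v ∈ Qs) (e : v.b = u.b ∧ v.c = u.c ∧ v.d = u.d ∧ v.e = u.e) :
    dz o v = dz o u := by
  have z := (dv_Z1 hu hv).2 e
  rw [← mul_inv_cancel_left u v, dz_add ho hu (mul_mem (inv_mem hu) hv)]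
  simp only [dz, OQ_Z1 ho z, sub_self, add_zero]

theorem dz_dec {v : U K} (hv : v ∈ Qs) :
    dz o v = dz o (Xb v.b v.hb) + dz o (Xc v.c) + dz o (Xd v.d) + dz o (Xe v.e v.he) := by
  have m1 : Xb v.b v.hb * Xc v.c ∈ Qs := mul_mem rfl rfl
  have m2 : Xb v.b v.hb * Xc v.c * Xd v.d ∈ Qs := mul_mem m1 rfl
  rw [← dz_add ho rfl rfl, ← dz_add ho m1 rfl, ← dz_add ho m2 rfl]
  exact dz_cg ho (mul_mem m2 rfl) hv (by simp only [UC, and_self])

theorem dz_c (s t : K) : dz o (Xc (s + t)) = dz o (Xc s) + dz o (Xc t) := by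
  rw [← dz_add ho rfl rfl]
  exact dz_cg ho (mul_mem rfl rfl) rfl (by simp only [UC, and_self])

theorem dz_d (s t : K) : dz o (Xd (s + t)) = dz o (Xd s) + dz o (Xd t) := by
  rw [← dz_add ho rfl rfl]
  exact dz_cg ho (mul_mem rfl rfl) rfl (by simp only [UC, and_self])

theorem dz_b (s t : kk K) : dz o (Xb (s + t : kk K) (s + t).2) = dz o (Xb s s.2) + dz o (Xb t t.2) := by
  rw [← dz_add ho rfl rfl]
  exact dz_cg ho (mul_mem rfl rfl) rfl (by simp only [UC, Xb, Xe, Subfield.coe_add, and_self])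

theorem dz_e (s t : kk K) : dz o (Xe (s + t : kk K) (s + t).2) = dz o (Xe s s.2) + dz o (Xe t t.2) := by
  rw [← dz_add ho rfl rfl]
  exact dz_cg ho (mul_mem rfl rfl) rfl (by simp only [UC, Xb, Xe, Subfield.coe_add, and_self])

theorem dz_one {u : U K} (h : u.a = 0 ∧ u.b = 0 ∧ u.c = 0 ∧ u.d = 0 ∧ u.e = 0) : dz o u = 0 := by
  rw [dz, OQ_Z1 ho h, sub_self]

end

theorem θdz (o : MulAut (Qs : Subgroup (U K))) (u : U K) : θ (dz o u) = dz o u := by
  rw [dz, map_sub, U.hz, U.hz]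

/-- PROOF.  `δ v = (v⁻¹ * o v).z` (`v⁻¹ * o v ∈ Z1`) is additive on `Qs` (`com_Z1`), vanishes on `Z1` (`OQ_Z1`), and
`δ (ha t v) = δ v` (`ha t` has weight `1` on `z`).  With `N t = 1`, `t ^ 2 ≠ 1` (`exists_N_one`) the weights on `c, d` are `t², t⁻²`, so
`δ (Xc ((t² - 1) x)) = 0`, `δ (Xc _) = δ (Xd _) = 0`.  With `N t = s` (`exists_N`) the weights on `b, e` are `s⁻¹, s`, and `(s - 1) k = k`.
`decomp`. -/
theorem cenQ (hq : ∃ s : K, θ s = s ∧ s ≠ 0 ∧ s ≠ 1) {o : MulAut (Qs : Subgroup (U K))} (ho : o ∈ OQ K)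
    (h : ∀ t ∈ TH K, o * rQ t = rQ t * o) : o = 1 := by
  have eqv : ∀ (r : Kˣ) (s : ku K), N (r : K) * kv s ^ 2 = 1 → ∀ u ∈ Qs, dz o (tf r s 1 u) = dz o u := fun r s e u hu => by
    have := congrArg (fun α => afn α u) (h _ ⟨r, s, rfl⟩)
    simp only [afn_mul _ _ hu, afn_res _ hu, afn_res _ (afn_mem o hu)] at this
    simp only [dz, this]
    simp only [tf_apply, tfn, UV, e, one_mul]
  obtain ⟨t, t1, t2, -⟩ := exists_N_one (K := K)
  have t0 : t ≠ 0 := fun e => by rw [e, N_zero] at t1; exact zero_ne_one t1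
  have hc : ∀ x, dz o (Xc x) = 0 := add_zero' (dz_c ho) t2 fun x => by
    rw [← eqv (Units.mk0 t t0) 1 (by simp only [UV, t1, one_pow, mul_one]) (Xc x) rfl]
    exact dz_cg ho (chr_mem _ rfl) rfl (by simp only [tf_apply, tfn, UV, UC, and_self])
  have hd : ∀ x, dz o (Xd x) = 0 := add_zero' (dz_d ho) (d := χ t) (fun e => t2 (by
      rw [← mul_χ, e, mul_one] at t1; exact t1)) fun x => by
    rw [← eqv (Units.mk0 t t0) 1 (by simp only [UV, t1, one_pow, mul_one]) (Xd x) rfl]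
    exact dz_cg ho (chr_mem _ rfl) rfl (by simp only [tf_apply, tfn, UV, UC, and_self])
  obtain ⟨s, s1, s0, s2⟩ := hq
  obtain ⟨r, hr⟩ := exists_N (r := (s ^ 2)⁻¹) (by rw [map_inv₀, map_pow, s1])
  have r0 : r ≠ 0 := fun e => by rw [e, N_zero] at hr; exact inv_ne_zero (pow_ne_zero 2 s0) hr.symm
  have e1 := eqv (Units.mk0 r r0) (mkk s s0 s1) (by simp only [UV, hr]; exact inv_mul_cancel₀ (pow_ne_zero 2 s0))
  have hb : ∀ x : kk K, dz o (Xb x x.2) = 0 := add_zero' (dz_b ho) (d := ⟨s, s1⟩) (fun e => s2 (congrArg Subtype.val e)) fun x => by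
    rw [← e1 (Xb x x.2) rfl]
    exact dz_cg ho (chr_mem _ rfl) rfl (by simp only [tf_apply, tfn, UV, UC, Xb, Subfield.coe_mul, and_self])
  have he : ∀ x : kk K, dz o (Xe x x.2) = 0 := add_zero' (dz_e ho) (d := ⟨s, s1⟩⁻¹)
      (fun e => s2 (congrArg Subtype.val (inv_eq_one.1 e))) fun x => by
    rw [← e1 (Xe x x.2) rfl]
    refine dz_cg ho (chr_mem _ rfl) rfl ?_
    simp only [tf_apply, tfn, UV, UC, Xe, Subfield.coe_mul, Subfield.coe_inv, hr, true_and]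
    field_simp
  refine aut_ext fun u hu => ?_
  have e := dz_dec ho hu
  rw [hc, hd, hb ⟨_, u.hb⟩, he ⟨_, u.he⟩] at e
  obtain ⟨a, b, c, d⟩ := mem_OQ.1 ho u hu
  rw [afn_one]
  exact U.ext ((afn_mem o hu).trans hu.symm) a b c d (sub_eq_zero.1 (by simpa only [add_zero, dz] using e))

/-- PROOF (`q = 2`).  `δ` as above has values in `k = {0, 1}`; `δ (Xc t) = T (x t)`, `δ (Xd t) = T (y t)` (`exists_T_of_lin`),
`δ (Xb s) = s δ (Xb 1)`, `δ (Xe s) = s δ (Xe 1)`.  For `g ∈ Qs` with `b = δ (Xe 1)`, `c = y`, `d = -x`, `e = -δ (Xb 1)` we get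
`δ v = sf g v`, and `g v g⁻¹ = cm g v * v` (`cm_zQ`, `com_Z1`, `mem_Inn`). -/
theorem OQ_two (h2 : ∀ s : K, θ s = s → s = 0 ∨ s = 1) {o : MulAut (Qs : Subgroup (U K))} (ho : o ∈ OQ K) :
    o ∈ Inn (Qs : Subgroup (U K)) := by
  obtain ⟨x, hx⟩ := exists_T_of_lin (F := fun t => dz o (Xc t)) (dz_c ho) (fun s t hs => by
    rcases h2 s hs with rfl | rfl
    · rw [zero_mul, zero_mul]
      exact dz_one ho ⟨rfl, rfl, rfl, rfl, rfl⟩
    · rw [one_mul, one_mul]) fun t => θdz _ _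
  obtain ⟨y, hy⟩ := exists_T_of_lin (F := fun t => dz o (Xd t)) (dz_d ho) (fun s t hs => by
    rcases h2 s hs with rfl | rfl
    · rw [zero_mul, zero_mul]
      exact dz_one ho ⟨rfl, rfl, rfl, rfl, rfl⟩
    · rw [one_mul, one_mul]) fun t => θdz _ _
  have hb : ∀ s hs, dz o (Xb s hs) = s * dz o (Xb 1 θ1) := fun s hs => by
    rcases h2 s hs with rfl | rfl
    · rw [zero_mul]
      exact dz_one ho ⟨rfl, rfl, rfl, rfl, rfl⟩
    · rw [one_mul]
  have he : ∀ s hs, dz o (Xe s hs) = s * dz o (Xe 1 θ1) := fun s hs => by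
    rcases h2 s hs with rfl | rfl
    · rw [zero_mul]
      exact dz_one ho ⟨rfl, rfl, rfl, rfl, rfl⟩
    · rw [one_mul]
  let g : U K := ⟨0, dz o (Xe 1 θ1), y, -x, -dz o (Xb 1 θ1), 0, θdz _ _, by rw [map_neg, θdz], map_zero _⟩
  have hg : g ∈ Qs := rfl
  refine mem_Inn.2 ⟨g, hg, fun v hv => ?_⟩
  have e := dz_dec ho hv
  rw [hb, he, hx, hy, dz] at e
  have z := mem_Z1.1 (cm_Qs_Qs hg hv)
  obtain ⟨a, b, c, d⟩ := mem_OQ.1 ho v hv
  rw [show g * v * g⁻¹ = cm g v * v by rw [cm, inv_mul_cancel_right]]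
  ext <;> simp only [UC, z, a, b, c, d, mem_Qs.1 hv, mem_Qs.1 (afn_mem o hv), cm_zQ hg hv]
  simp only [sf, g, neg_mul, mul_neg, T_neg, mul_comm v.c]
  linear_combination e

theorem homR {φ : U K → K} (add : ∀ u ∈ Rs, ∀ v ∈ Rs, φ (u * v) = φ u + φ v) (h3 : ∀ n ∈ Z3, φ n = 0)
    (hw : ∀ F : K → U K, (∀ x, F x ∈ Rs) → (∀ x y, F (x + y) = F x * F y) → (∀ (r : Kˣ) x, tf r 1 1 (F x) = F (r * x)) →
      ∀ x, φ (F x) = 0) : ∀ v ∈ Rs, φ v = 0 := fun v hv => by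
  have m : Xc v.c * Xa v.a ∈ Rs := mul_mem rfl rfl
  have n := (dv_Z3 m hv).2 (by simp only [UC, and_self])
  rw [← mul_inv_cancel_left (Xc v.c * Xa v.a) v, add _ m _ n.2.1, h3 _ n, add _ rfl _ rfl,
    hw Xc (fun _ => rfl) (fun _ _ => by ext <;> simp only [UC]) (fun _ _ => by ext <;> simp only [tf_apply, tfn, UV, UC]),
    hw Xa (fun _ => rfl) (fun _ _ => by ext <;> simp only [UC]) (fun _ _ => by ext <;> simp only [tf_apply, tfn, UV, UC]),
    add_zero, add_zero]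

theorem homR' {φ : U K → K} (add : ∀ u ∈ Rs, ∀ v ∈ Rs, φ (u * v) = φ u + φ v) (h2 : ∀ n ∈ Z2, φ n = 0)
    (hw : ∀ (r : Kˣ), ∀ u ∈ Rs, φ (tf r 1 1 u) = N (r : K) * φ u) : ∀ v ∈ Rs, φ v = 0 := by
  have inv : ∀ u ∈ Rs, φ u⁻¹ = -φ u := fun u hu => by
    have := add _ hu _ (inv_mem hu)
    rw [mul_inv_cancel, h2 _ (one_mem _)] at this
    exact eq_neg_of_add_eq_zero_right this.symm
  refine homR add (fun n hn => ?_) fun F m hF e => ?_
  · obtain ⟨t, u, e⟩ := exists_B n.d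
    have m1 : (Xc u : U K) ∈ Rs := rfl
    have m2 : (Xa t : U K) ∈ Rs := rfl
    have y := cm_Rs_Rs m1 m2
    have k := (dv_Z2 y hn).2 (by simp only [cm_dR m1 m2, UC, e])
    rw [← mul_inv_cancel_left (cm (Xc u) (Xa t)) n, add _ y.2.1 _ k.2.1, h2 _ k, cm,
      add _ (mul_mem (mul_mem m1 m2) (inv_mem m1)) _ (inv_mem m2), add _ (mul_mem m1 m2) _ (inv_mem m1), add _ m1 _ m2,
      inv _ m1, inv _ m2]
    ring
  · obtain ⟨t, t1, t2, -⟩ := exists_N_one (K := K)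
    have t0 : t ≠ 0 := fun e => by rw [e, N_zero] at t1; exact zero_ne_one t1
    refine add_zero' (F := fun x => φ (F x)) (fun x y => by rw [hF, add _ (m x) _ (m y)]) t2 fun x => ?_
    have := hw (Units.mk0 t t0) _ (m x)
    rwa [e, Units.val_mk0, t1, one_mul] at this

/-- PROOF.  Only `t = tf r 1 1` is used: it maps `Xa x`, `Xc x` to `Xa (r x)`, `Xc (r x)`.  For `v ∈ Rs`: `o v = v * δ v`, `δ v ∈ Z3`,
`δ (t v) = t (δ v)`.  (1) `v ↦ (δ v).d` is additive (`cm_S_Z3`), zero on `Z3` (`OR_Z3`); `D x = (δ (Xa x)).d` has `D r = χ r * D 1` (also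
for `r = 0`), so `B 1 s * D 1 = 0` for all `s` (`χ_add`), `D = 0` (`eq_zero_of_B`); the same for `Xc`.  So `δ v ∈ Z2` is central in `Rs`
(`decomp`).  (2) `δ` is multiplicative, `o` fixes all commutators and `Z2` (`OR_Z2`), so `Z3` (`exists_B`, `dv_Z2`).  `E x = (δ (Xa x)).e` is
additive with `E r = N r * E 1`; for `N t = 1 ≠ t`: `N (t - 1) * E 1 = E t - E 1 = 0`.  The same for the coordinate `z` and for `Xc`. -/
theorem cenR {o : MulAut (Rs : Subgroup (U K))} (ho : o ∈ OR K) (h : ∀ t ∈ TH K, o * rR t = rR t * o) : o = 1 := by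
  have eqv : ∀ (r : Kˣ), ∀ u ∈ Rs, afn o (tf r 1 1 u) = tf r 1 1 (afn o u) := fun r u hu => by
    have := congrArg (fun α => afn α u) (h _ ⟨r, 1, rfl⟩)
    simpa only [afn_mul _ _ hu, afn_res _ hu, afn_res _ (afn_mem o hu)] using this
  have addd : ∀ u ∈ Rs, ∀ v ∈ Rs, (afn o (u * v)).d - (u * v).d = ((afn o u).d - u.d) + ((afn o v).d - v.d) :=
    fun u hu v hv => by
      simp only [homOn_afn o _ hu _ hv, UC, mem_OR.1 ho u hu, mem_OR.1 ho v hv, mem_Rs.1 hv, mem_Rs.1 (afn_mem o hv)]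
      ring
  have hd : ∀ v ∈ Rs, (afn o v).d = v.d := fun v hv => sub_eq_zero.1 (homR (φ := fun u => (afn o u).d - u.d) addd
    (fun n hn => sub_eq_zero.2 (OR_Z3 ho hn)) (fun F m hF e => by
      have a : ∀ x y, (afn o (F (x + y))).d - (F (x + y)).d = ((afn o (F x)).d - (F x).d) + ((afn o (F y)).d - (F y).d) :=
        fun x y => by rw [hF, addd _ (m x) _ (m y)]
      have b : ∀ x, (afn o (F x)).d - (F x).d = χ x * ((afn o (F 1)).d - (F 1).d) := fun x => by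
        by_cases x0 : x = 0
        · have := a 0 0
          rw [add_zero] at this
          rw [x0, χ_zero, zero_mul]
          exact left_eq_add.1 this
        · have := e (Units.mk0 x x0) 1
          rw [Units.val_mk0, mul_one] at this
          rw [← this, eqv _ _ (m 1)]
          simp only [tf_apply, tfn, UV]
          ring
      intro x
      rw [b]
      refine mul_eq_zero_of_right _ (by_contra fun c => one_ne_zero (eq_zero_of_B (a := (1 : K)) fun s => ?_))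
      have := a 1 s
      rw [b (1 + s), b s, χ_add, χ_one] at this
      exact mul_right_cancel₀ c (by linear_combination this)) v hv)
  have he : ∀ v ∈ Rs, (afn o v).e - v.e = 0 := homR' (φ := fun u => (afn o u).e - u.e) (fun u hu v hv => by
      simp only [homOn_afn o _ hu _ hv, UC, mem_OR.1 ho u hu, mem_OR.1 ho v hv, mem_Rs.1 hv, mem_Rs.1 (afn_mem o hv), hd v hv]
      ring) (fun n hn => by rw [OR_Z2 ho hn, sub_self]) fun r u hu => by
    rw [eqv r u hu]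
    simp only [tf_apply, tfn, UV]
    ring
  have hz : ∀ v ∈ Rs, (afn o v).z - v.z = 0 := homR' (φ := fun u => (afn o u).z - u.z) (fun u hu v hv => by
      simp only [homOn_afn o _ hu _ hv, UC, mem_OR.1 ho u hu, mem_OR.1 ho v hv, mem_Rs.1 hv, mem_Rs.1 (afn_mem o hv), hd u hu]
      ring) (fun n hn => by rw [OR_Z2 ho hn, sub_self]) fun r u hu => by
    rw [eqv r u hu]
    simp only [tf_apply, tfn, UV]
    ring
  refine aut_ext fun u hu => ?_
  rw [afn_one]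
  exact U.ext (mem_OR.1 ho u hu).1 ((afn_mem o hu).trans hu.symm) (mem_OR.1 ho u hu).2 (hd u hu) (sub_eq_zero.1 (he u hu))
    (sub_eq_zero.1 (hz u hu))

/-- `fc` with `O = OQ K`, `N = Inn Qs`, `H = (TH K).map rQ` (`not_dvd_TH`, `card_map_dvd`, `ωQ_tf`, `Lc.mem_inn`); for `q = 2` use
`OQ_two`, `inn_le_Tn`, `Lc.Tn_le`. -/
theorem ω_mem_of (h₀ : SA (Tri.p K) A₀) (L : Lc (Tri.p K) A₀ Qs A) (hT : TH K ≤ A₀)
    (h : ∃ a ∈ A, (ωQ K)⁻¹ * a ∈ OQ K) : ωQ K ∈ A := by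
  by_cases hq : ∃ s : K, θ s = s ∧ s ≠ 0 ∧ s ≠ 1
  · refine fc (H := (TH K).map rQ) isPGroup_OQ inn_le_OQ (inn_le_Tn.trans (L.Tn_le h₀))
      (fun e => not_dvd_TH (e.trans (card_map_dvd _ _))) ?_ (fun a ha => L.mem_inn isPGroup_OQ ha) ?_
      (fun o ho e => cenQ hq ho fun t ht => e _ ⟨t, ht, rfl⟩) h
    · rintro _ ⟨t, ht, rfl⟩
      exact L.res _ (hT ht)
    · rintro _ ⟨_, ⟨a, b, rfl⟩, rfl⟩
      rw [ωQ_tf]
      exact ⟨_, ⟨_, _, rfl⟩, rfl⟩
  · obtain ⟨a, ha, e⟩ := h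
    have := L.Tn_le h₀ (inn_le_Tn (OQ_two (fun s hs => by
      by_contra! c
      exact hq ⟨s, hs, c⟩) e))
    exact (inv_mem_iff (x := ωQ K)).1 ((mul_mem_cancel_right ha).1 this)

theorem ψ_mem_of (h₀ : SA (Tri.p K) A₀) (L : Lc (Tri.p K) A₀ Rs B₀) (hT : TH K ≤ A₀)
    (h : ∃ b ∈ B₀, (ψR K)⁻¹ * b ∈ OR K) : ψR K ∈ B₀ := by
  refine fc (H := (TH K).map rR) isPGroup_OR inn_le_OR (inn_le_Tn.trans (L.Tn_le h₀))
    (fun e => not_dvd_TH (e.trans (card_map_dvd _ _))) ?_ (fun a ha => L.mem_inn isPGroup_OR ha) ?_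
    (fun o ho e => cenR ho fun t ht => e _ ⟨t, ht, rfl⟩) h
  · rintro _ ⟨t, ht, rfl⟩
    exact L.res _ (hT ht)
  · rintro _ ⟨_, ⟨a, b, rfl⟩, rfl⟩
    rw [ψR_tf]
    exact ⟨_, ⟨_, _, rfl⟩, rfl⟩

end Cfsg.Agent.D4F
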