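import Cfsg.Agent.D4F.U

/-!
More commutator formulas in `U K`, the subgroups `P s t`, and the wedge product.
-/

set_option autoImplicit false
set_option linter.unusedSectionVars false
set_option linter.unusedSimpArgs false

namespace Cfsg.Agent.D4F

open Subgroup Cfsg.Agent.RFS

variable {K : Type*} [Field K] [Tri K]

/-- `wd a c = 0` iff `a, c` are dependent over `k`; `wd a c` spans the `T`-orthogonal of `a, c`. -/
def wd (a c : K) : K := θ a * θ (θ c) - θ (θ a) * θ c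

theorem T_wd_left (a c : K) : T (a * wd a c) = 0 := by simp only [wd, TE]; ring
theorem T_wd_right (a c : K) : T (c * wd a c) = 0 := by simp only [wd, TE]; ring
theorem T_B_self (a c : K) : T (a * B a c) = 2 * T (χ a * c) := by simp only [TE]; ring
theorem T_mul_χ (a : K) : T (a * χ a) = 3 * N a := by simp only [TE]; ring
theorem χχ (a : K) : χ (χ a) = N a * a := by simp only [TE]; ring
theorem B_smul_left {r : K} (h : θ r = r) (s t : K) : B (r * s) t = r * B s t := by simp only [TE, h]; ring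
theorem χ_smul {r : K} (h : θ r = r) (s : K) : χ (r * s) = r ^ 2 * χ s := by simp only [TE, h]; ring
theorem N_smul {r : K} (h : θ r = r) (s : K) : N (r * s) = r ^ 3 * N s := by simp only [TE, h]; ring
theorem B_eq_wd (h : (2 : K) = 0) (a c : K) : B a c = wd a c := by
  simp only [wd, TE]; linear_combination θ (θ a) * θ c * h

theorem cm_e4 (g : U K) {n : U K} (h : n ∈ Z4) : (cm g n).e = T (g.a * n.d) - T (χ g.a * n.c) := by
  simp only [cm, UE, h.1, h.2]; ring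

theorem cm_z3 (g : U K) {n : U K} (h : n ∈ Z3) : (cm g n).z = g.b * n.e + g.b * T (g.a * n.d) + T (g.c * n.d) := by
  simp only [cm, UE, h.1, h.2.1, h.2.2]; ring

theorem cm_z4 {g n : U K} (hg : g ∈ Z4) (h : n ∈ Z4) : (cm g n).z = T (g.c * n.d) - T (n.c * g.d) := by
  simp only [cm, UE, h.1, h.2, hg.1, hg.2]; ring

theorem cm_eR {g h : U K} (hg : g ∈ Rs) (hh : h ∈ Rs) : (cm g h).e = T (g.a * h.d) - T (h.a * g.d) - T (χ g.a * h.c) +
    T (χ h.a * g.c) := by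
  simp only [cm, UE, mem_Rs.1 hg, mem_Rs.1 hh]; ring

theorem cm_zR {g h : U K} (hg : g ∈ Rs) (hh : h ∈ Rs) : (cm g h).z = T (g.c * h.d) - T (h.c * g.d) + T (χ h.c * g.a) -
    T (χ g.c * h.a) + T ((g.c + h.c) * (cm g h).d) := by
  simp only [cm, UE, mem_Rs.1 hg, mem_Rs.1 hh]; ring

theorem cm_dab {g h : U K} (hg : g ∈ Rs) (hh : h ∈ Qs) : (cm g h).d = χ g.a * h.b - B g.a h.c := by
  simp only [cm, UE, mem_Rs.1 hg, mem_Qs.1 hh]; ring

theorem sq_c (g : U K) : (g * g).c = 2 * g.c - g.b * g.a := by simp only [UC]; ring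

theorem sq_dR {g : U K} (hg : g ∈ Rs) : (g * g).d = 2 * g.d - B g.a g.c := by simp only [UC, mem_Rs.1 hg]; ring

theorem sq_eR {g : U K} (hg : g ∈ Rs) : (g * g).e = 2 * g.e - T (χ g.a * g.c) + T (g.a * g.d) := by
  simp only [UC, mem_Rs.1 hg]; ring

theorem sq_zR {g : U K} (hg : g ∈ Rs) : (g * g).z = 2 * g.z + T (χ g.c * g.a) - T (g.c * g.d) := by
  simp only [UC, mem_Rs.1 hg]; ring

theorem sq_zQ {g : U K} (hg : g ∈ Qs) : (g * g).z = 2 * g.z - g.e * g.b - T (g.c * g.d) := by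
  simp only [UC, mem_Qs.1 hg]; ring

/-- The action of `S` on `Qs / Z1`. -/
theorem cj_Q (g : U K) {v : U K} (hv : v ∈ Qs) : (g * v * g⁻¹).b = v.b ∧ (g * v * g⁻¹).c = v.c - v.b * g.a ∧
    (g * v * g⁻¹).d = v.d + χ g.a * v.b - B g.a v.c ∧
    (g * v * g⁻¹).e = v.e + N g.a * v.b - T (χ g.a * v.c) + T (g.a * v.d) := by
  simp only [UE, mem_Qs.1 hv]
  refine ⟨?_, ?_, ?_, ?_⟩ <;> ring

/-- The action of `S` on `Rs / Z3`. -/
theorem cj_R (g : U K) {v : U K} (hv : v ∈ Rs) : (g * v * g⁻¹).a = v.a ∧ (g * v * g⁻¹).c = v.c + g.b * v.a := by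
  simp only [UE, mem_Rs.1 hv]
  refine ⟨?_, ?_⟩ <;> ring

/-- The elements of `Rs` with `(a, c) ∈ (s, t) ⊗ K`; `P 0 1 = Z4`. -/
def P (s t : K) : Subgroup (U K) where
  carrier := {g | g.b = 0 ∧ t * g.a = s * g.c}
  mul_mem' {g h} hg hh := by
    simp only [Set.mem_ofPred_eq, UC, hg.1, hh.1, true_and]; linear_combination hg.2 + hh.2
  one_mem' := by simp only [Set.mem_ofPred_eq, UC, and_self]
  inv_mem' {g} hg := by simp only [Set.mem_ofPred_eq, UC, hg.1, true_and]; linear_combination -hg.2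

theorem mem_P {s t : K} {g : U K} : g ∈ P s t ↔ g.b = 0 ∧ t * g.a = s * g.c := Iff.rfl

/-- The line `k (s, t)` of `Z2`; `Ln 0 1 = Z1`. -/
def Ln (s t : K) : Subgroup (U K) where
  carrier := {g | g ∈ Z2 ∧ t * g.e = s * g.z}
  mul_mem' {g h} hg hh := ⟨mul_mem hg.1 hh.1, by
    have a := mem_Z2.1 hg.1
    have b := mem_Z2.1 hh.1
    simp only [UC, a, b]; linear_combination hg.2 + hh.2⟩
  one_mem' := ⟨one_mem _, by simp only [UC]⟩
  inv_mem' {g} hg := ⟨inv_mem hg.1, by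
    have a := mem_Z2.1 hg.1
    simp only [UC, a]; linear_combination -hg.2⟩

theorem mem_Ln {s t : K} {g : U K} : g ∈ Ln s t ↔ g ∈ Z2 ∧ t * g.e = s * g.z := Iff.rfl

/-- The element of `Rs` with coordinates `a, c, d`. -/
def Xr (a c d : K) : U K := ⟨a, 0, c, d, 0, 0, by simp, by simp, by simp⟩

theorem Xr_co (a c d : K) : (Xr a c d).a = a ∧ (Xr a c d).b = 0 ∧ (Xr a c d).c = c ∧ (Xr a c d).d = d ∧ (Xr a c d).e = 0 ∧
    (Xr a c d).z = 0 := ⟨rfl, rfl, rfl, rfl, rfl, rfl⟩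

/-- Commutators in `P s t`. -/
theorem cm_P {s t y y' : K} (hs : θ s = s) (ht : θ t = t) {g h : U K} (hg : g.b = 0 ∧ g.a = s * y ∧ g.c = t * y)
    (hh : h.b = 0 ∧ h.a = s * y' ∧ h.c = t * y') : (cm g h).d = 0 ∧
    (cm g h).e = s * (T (y * h.d) - T (y' * g.d) + s * t * (T (χ y' * y) - T (χ y * y'))) ∧
    (cm g h).z = t * (T (y * h.d) - T (y' * g.d) + s * t * (T (χ y' * y) - T (χ y * y'))) := by
  simp only [cm, UE, hg, hh, hs, ht]
  refine ⟨?_, ?_, ?_⟩ <;> ring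

theorem mem_Z3_of_comm {g : U K} (h : ∀ n ∈ Z3, g * n = n * g) : g ∈ Z3 := by
  have a : g.a = 0 := eq_zero_of_T fun s => by
    have := cm_e3 g (n := Xd s) ⟨rfl, rfl, rfl⟩
    rw [cm_eq_one.2 (h _ ⟨rfl, rfl, rfl⟩)] at this
    exact this.symm
  have b : g.b = 0 := by
    have := cm_z2 g (n := Xe 1 (map_one _)) ⟨rfl, rfl, rfl, rfl⟩
    rw [cm_eq_one.2 (h _ ⟨rfl, rfl, rfl⟩)] at this
    simpa only [UC] using this.symm
  exact ⟨a, b, eq_zero_of_T fun s => by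
    have := cm_zR3 (g := g) b (n := Xd s) ⟨rfl, rfl, rfl⟩
    rw [cm_eq_one.2 (h _ ⟨rfl, rfl, rfl⟩)] at this
    exact this.symm⟩

theorem mem_Rs_of_comm {g : U K} (h : ∀ n ∈ Z2, g * n = n * g) : g ∈ Rs := by
  have := cm_z2 g (n := Xe 1 (map_one _)) ⟨rfl, rfl, rfl, rfl⟩
  rw [cm_eq_one.2 (h _ ⟨rfl, rfl, rfl, rfl⟩)] at this
  simpa only [UC, mem_Rs] using this.symm

/-- An element of `Z1` is determined by `z`, an element of `Z2` by `e, z`. -/
theorem eq_one_of_Z1 {g : U K} (h : g ∈ Z1) (hz : g.z = 0) : g = 1 := by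
  rw [mem_Z1] at h; ext <;> simp only [UC, h, hz]

theorem pow_p_Z3 {g : U K} (h : g ∈ Z3) : g ^ Tri.p K = 1 := by
  have k : ∀ n : ℕ, g ^ n ∈ Z3 ∧ (g ^ n).d = n * g.d ∧ (g ^ n).e = n * g.e ∧ (g ^ n).z = n * g.z := fun n => by
    induction n with
    | zero => simp only [pow_zero, one_mem, Nat.cast_zero, UC, and_self]
    | succ n ih =>
      have a := mem_Z3.1 ih.1
      have b := mem_Z3.1 h
      refine ⟨pow_mem h _, ?_⟩
      simp only [pow_succ, UC, a, b, ih.2, Nat.cast_succ]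
      refine ⟨?_, ?_, ?_⟩ <;> ring
  obtain ⟨a, b⟩ := k (Tri.p K)
  rw [mem_Z3] at a
  have c : ((Tri.p K : ℕ) : K) = 0 := ((Tri.ch (K := K)).cast_eq_zero_iff _).2 dvd_rfl
  ext <;> simp only [UC, a, b, c]

theorem two_eq_zero_iff : (2 : K) = 0 ↔ Tri.p K = 2 := by
  have := (Tri.ch (K := K)).cast_eq_zero_iff 2
  rw [Nat.cast_ofNat, Nat.prime_dvd_prime_iff_eq Tri.pp Nat.prime_two] at this
  exact this

end Cfsg.Agent.D4F
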