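import Cfsg.Agent.D4F.Ex

/-!
`Dc` (`D4F/Ex`): existence, and the chain lemmas.  Models: `U5F/FF` (`disc_of_essential`), `U5F/Gen` (`St`, `isPGroup_St`, `inv_pres`).
-/

set_option autoImplicit false
set_option linter.unusedSectionVars false
set_option linter.unusedSimpArgs false

namespace Cfsg.Agent.D4F

open Subgroup Cfsg.Agent.RFS Cfsg.Agent.U5F Cfsg.Agent.Fus Cfsg.FusionSystem

variable {Ω : Type*} [Group Ω] [Finite Ω] {E L M N Top : Subgroup Ω} {p : ℕ} [Fact p.Prime] {G M₀ : Subgroup (MulAut E)}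

/-- PROOF.  Copy `disc_of_essential`: `G = F.autGroup E`, `M₀` the preimage in `G` of the strongly `p`-embedded subgroup of
`G ⧸ Inn` containing the image of `autInducedBy ⊤ E` (`(M.comap π).map (subtype _)`).  `cen`: `SpF.mem_of_comm`; `ind`: `conjAut` /
`mem_normalizerIn_of_conj`, or `E.normalizerMonoidHom`; `rad`: `radical_le_inn (radical_of_essential hS hE)`. -/
theorem dc_of_essential {F : FusionSystem (⊤ : Subgroup Ω)} (hS : IsPGroup p (⊤ : Subgroup Ω)) (hE : F.IsEssential p E) :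
    ∃ M₀, Dc p E (F.autGroup E) M₀ := by
  have hrad := radical_of_essential hS hE
  have hcen : ∀ x, (∀ y ∈ E, y * x = x * y) → x ∈ E := fun x hx => SpF.mem_of_comm hE hx
  obtain ⟨hc, -, _, M₁, hM₀⟩ := hE
  have hA := autInducedBy_le_autGroup F (le_top (a := E))
  let π := QuotientGroup.mk' ((Inn E).subgroupOf (F.autGroup E))
  have pm : ∀ N : Subgroup (MulAut E), IsPGroup p N → IsPGroup p ((N.subgroupOf (F.autGroup E)).map π) :=
    fun N hN => (hN.comap_subtype (K := F.autGroup E)).map π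
  obtain ⟨P, -, hP, -⟩ := PLocal.SPE.exists_sylow_le hM₀
  obtain ⟨Q, hQ⟩ := (pm _ (isPGroup_autInducedBy hS E)).exists_le_sylow
  obtain ⟨g, rfl⟩ := MulAction.exists_smul_eq (F.autGroup E ⧸ (Inn E).subgroupOf (F.autGroup E)) P Q
  have hM := PLocal.SPE.map_conj hM₀ g
  have hT := hQ.trans (show _ ≤ M₁.map (MulAut.conj g).toMonoidHom from map_mono hP)
  generalize M₁.map (MulAut.conj g).toMonoidHom = M at hM hT
  have mm : ∀ β (h : β ∈ F.autGroup E), β ∈ (M.comap π).map (F.autGroup E).subtype ↔ π ⟨β, h⟩ ∈ M := fun β h =>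
    ⟨fun ⟨γ, k, e⟩ => by rwa [show (⟨β, h⟩ : F.autGroup E) = γ from Subtype.ext e.symm], fun k => ⟨_, k, rfl⟩⟩
  have key : ∀ (t : MulAut E) (x : Ω), x ∉ E → Ind t x → ∃ h : t ∈ F.autGroup E, π ⟨t, h⟩ ∈ M ∧ π ⟨t, h⟩ ≠ 1 ∧
      ∃ k, orderOf (π ⟨t, h⟩) = p ^ k := fun t x hx e => by
    have h1 : t ∈ autInducedBy ⊤ E := mem_autInducedBy.2 ⟨x, trivial, e⟩
    have h2 : π ⟨t, hA h1⟩ ∈ _ := mem_map_of_mem π (K := (autInducedBy ⊤ E).subgroupOf _) h1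
    have h3 : π ⟨t, hA h1⟩ ≠ 1 := fun k => by
      obtain ⟨y, hy, k⟩ := mem_Inn.1 (mem_subgroupOf.1 ((QuotientGroup.eq_one_iff _).1 k))
      exact hx (mem_of_conj_inner le_top (isCentric_self hc) trivial hy fun z hz => (e z hz).symm.trans (k z hz))
    obtain ⟨k, hk⟩ := IsPGroup.iff_orderOf.1 (pm _ (isPGroup_autInducedBy hS E)) ⟨_, h2⟩
    rw [← orderOf_coe] at hk
    exact ⟨hA h1, hT h2, h3, k, hk⟩
  refine ⟨(M.comap π).map (F.autGroup E).subtype, hS.to_le le_top, hcen, map_subtype_le _, fun hle => ?_, fun x hx => ?_,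
    fun β hβ nβ t x hx e r => ?_, fun β hβ nβ t x hx e N hN tN r => ?_, fun N hN h1 h2 => radical_le_inn hrad hN h1 h2⟩
  · obtain ⟨z, -, hz⟩ := SetLike.exists_of_lt (lt_top_iff_ne_top.2 (PLocal.SPE.ne_top hM))
    obtain ⟨⟨β, h⟩, rfl⟩ := QuotientGroup.mk'_surjective _ z
    exact hz ((mm β h).1 (hle h))
  · have hn := (mem_normalizerIn_of_conj (S := ⊤) (P := E) trivial hx).2
    have e : Ind (E.normalizerMonoidHom ⟨x, hn⟩) x := fun y hy => afn_apply _ hy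
    have h1 : E.normalizerMonoidHom ⟨x, hn⟩ ∈ autInducedBy ⊤ E := mem_autInducedBy.2 ⟨x, trivial, e⟩
    exact ⟨_, (mm _ (hA h1)).2 (hT (mem_map_of_mem π (K := (autInducedBy ⊤ E).subgroupOf _) h1)), e⟩
  · obtain ⟨h, h2, h3, k, hk⟩ := key t x hx e
    have r' := (mm _ (mul_mem (mul_mem (inv_mem hβ) h) hβ)).1 r
    exact nβ ((mm β hβ).2 (inv_mem_iff.1 (PLocal.SPE.mem_of_conj_mem hM hk h3 h2 (by rw [inv_inv]; exact r'))))
  · obtain ⟨h, h2, h3, k, hk⟩ := key t x hx e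
    have h4 := PLocal.SPE.le_of_inf_ne_bot hM (pm N hN) fun r' =>
      h3 (mem_bot.1 (r' ▸ (⟨mem_map_of_mem π (K := N.subgroupOf _) tN, h2⟩ : π ⟨t, h⟩ ∈ _ ⊓ M)))
    exact nβ ((mm β hβ).2 (PLocal.SPE.mem_of_conj_mem hM hk h3 h2 (h4 (mem_map_of_mem π (K := N.subgroupOf _)
      (x := ⟨β, hβ⟩ * ⟨t, h⟩ * ⟨β, hβ⟩⁻¹) r))))

/-- PROOF.  `M₀ = A₀.map (MulAut.characteristic E)`, `T = Tn E ≤ M₀` is normalised by `M₀` (`res_conj`) and Sylow in `A`, so every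
`p`-element of `M₀` lies in `T` (`T ⊔ zpowers` is a `p`-group, `SylIn.eq_of_le`).  `Ind t x` gives `t = characteristic E (conj x)`
(`aut_ext`, `afn_res`).  `ti`: if `β⁻¹ t β ∈ M₀` it lies in `T`, so `β⁻¹ ∈ M₀` by `hti`.  `np`: `N ⊓ A` is conjugate into `T` by some
`γ ∈ A` (`Fus/SylIn`); `hti` gives `γ ∈ M₀`, `γ β ∈ M₀`.  `rad`: `N ⊔ T` is a `p`-group (`T ≤ G` normalises `N`), so `N ≤ T`; an element
of `N` is induced by some `x`; if `x ∉ E`, `hti` applies to any `β ∈ G \ M₀`; so `x ∈ E` (`mem_Inn'`). -/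
theorem dc_of_ti [E.Characteristic] (hΩ : IsPGroup p Ω) (hc : ∀ x, (∀ y ∈ E, y * x = x * y) → x ∈ E)
    {A₀ : Subgroup (MulAut Ω)} {A : Subgroup (MulAut E)} (h₀ : SA p A₀) (L : Lc p A₀ E A)
    (hti : ∀ α ∈ A, ∀ g ∉ E, α * MulAut.characteristic E (MulAut.conj g) * α⁻¹ ∈ Tn E →
      ∃ φ ∈ A₀, MulAut.characteristic E φ = α)
    (h1 : G ≤ A) (h2 : A₀.map (MulAut.characteristic E) ≤ G) (h3 : ¬ G ≤ A₀.map (MulAut.characteristic E)) :
    Dc p E G (A₀.map (MulAut.characteristic E)) := by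
  have TA := L.Tn_le h₀
  have pT := L.syl.isPGroup TA
  have MA : A₀.map (MulAut.characteristic E) ≤ A := h2.trans h1
  have TM : Tn E ≤ A₀.map (MulAut.characteristic E) := by
    rintro _ ⟨g, rfl⟩
    exact ⟨_, h₀.conj g, rfl⟩
  have ie : ∀ (t : MulAut E) (x : Ω), Ind t x → t = MulAut.characteristic E (MulAut.conj x) := fun t x e =>
    aut_ext fun y hy => by rw [afn_res _ hy, e y hy]; rfl
  have sup : ∀ N : Subgroup (MulAut E), N ≤ A → IsPGroup p (Tn E ⊔ N :) → N ≤ Tn E := fun N hN hp =>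
    le_sup_right.trans (L.syl.eq_of_le TA hp le_sup_left (sup_le TA hN)).le
  have ti' : ∀ α ∈ A, ∀ g ∉ E, α * MulAut.characteristic E (MulAut.conj g) * α⁻¹ ∈ Tn E →
      α ∈ A₀.map (MulAut.characteristic E) := fun α hα g hg k => hti α hα g hg k
  refine ⟨hΩ.to_subgroup E, hc, h2, h3, fun x _ => ⟨_, TM ⟨x, rfl⟩, fun y hy => afn_res _ hy⟩,
    fun β hβ nβ t x hx e r => ?_, fun β hβ nβ t x hx e N hN tN r => ?_, fun N hN k1 k2 κ hκ => ?_⟩
  · obtain rfl := ie t x e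
    refine nβ (inv_mem_iff.1 (ti' _ (inv_mem (h1 hβ)) x hx ?_))
    rw [inv_inv]
    obtain ⟨k, hk⟩ := pT ⟨_, x, rfl⟩
    have hk' : MulAut.characteristic E (MulAut.conj x) ^ p ^ k = 1 := congrArg Subtype.val hk
    have pz : IsPGroup p (zpowers (β⁻¹ * MulAut.characteristic E (MulAut.conj x) * β)) := by
      refine IsPGroup.of_card_dvd_pow (n := k) ?_
      rw [Nat.card_zpowers]
      refine orderOf_dvd_of_pow_eq_one ?_
      have := conj_pow (a := β⁻¹) (b := MulAut.characteristic E (MulAut.conj x)) (i := p ^ k)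
      rw [inv_inv] at this
      rw [this, hk', mul_one, inv_mul_cancel]
    refine sup _ ((zpowers_le.2 r).trans MA) (pT.to_sup_of_normal_left' pz ?_) (mem_zpowers _)
    refine (zpowers_le.2 r).trans (Subgroup.le_normalizer_iff.2 ?_)
    rintro _ ⟨φ, -, rfl⟩ _ ⟨g, rfl⟩
    exact ⟨φ g, (res_conj φ g).symm⟩
  · obtain rfl := ie t x e
    have tA := L.cj h₀ x
    obtain ⟨γ, hγ, k⟩ := L.syl.exists_conj (B := N ⊓ A) (hN.to_le inf_le_left) inf_le_right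
    have g1 := ti' γ hγ x hx (k _ ⟨tN, tA⟩)
    have g2 := ti' (γ * β) (mul_mem hγ (h1 hβ)) x hx (by
      have := k _ ⟨r, A.mul_mem (A.mul_mem (h1 hβ) tA) (A.inv_mem (h1 hβ))⟩
      simpa only [mul_assoc, mul_inv_rev] using this)
    exact nβ ((mul_mem_cancel_left g1).1 g2)
  · have NT := sup N (k1.trans h1) (pT.to_sup_of_normal_right' hN
      (Subgroup.le_normalizer_iff.2 fun t ht => k2 t (h2 (TM ht))))
    obtain ⟨x, e⟩ := mem_Tn.1 (NT hκ)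
    refine mem_Inn'.2 ⟨x, by_contra fun hx => ?_, e⟩
    obtain ⟨β, hβ, nβ⟩ := SetLike.not_le_iff_exists.1 h3
    exact nβ (ti' β (h1 hβ) x hx (e ▸ NT (k2 β hβ κ hκ)))

theorem fix_of_fix (hE : IsPGroup p E) {α : MulAut E} (hc : (orderOf α).Coprime p) {x : Ω} (hx : x ∈ E)
    (h : afn α (x⁻¹ * afn α x) = x⁻¹ * afn α x) : afn α x = x := by
  have hm := mul_mem (inv_mem hx) (afn_mem α hx)
  have e : ∀ n : ℕ, afn (α ^ n) x = x * (x⁻¹ * afn α x) ^ n := fun n => by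
    induction n with
    | zero => rw [pow_zero, pow_zero, afn_one, mul_one]
    | succ n ih =>
      rw [pow_succ', afn_mul _ _ hx, ih, homOn_afn α _ hx _ (pow_mem hm n), (homOn_afn α).map_pow hm, h, pow_succ',
        ← mul_assoc, mul_inv_cancel_left]
  have e1 := e (orderOf α)
  rw [pow_orderOf_eq_one, afn_one, left_eq_mul] at e1
  obtain ⟨k, hk⟩ := hE ⟨_, hm⟩
  have hk' : (x⁻¹ * afn α x) ^ p ^ k = 1 := congrArg Subtype.val hk
  have := pow_gcd_eq_one.2 ⟨e1, hk'⟩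
  rw [(hc.pow_right k).gcd_eq_one, pow_one, inv_mul_eq_one] at this
  exact this.symm

theorem iv_cons {l : List (Subgroup Ω)} (hl : ∀ i, Iv G (l.getD i ⊤)) (i : ℕ) : Iv G ((⊥ :: l).getD i ⊤) := by
  rcases i with _ | i
  exacts [iv_of_ch Ch.bot G, hl i]

/-- PROOF.  `AC.isPGroup_of_coprime`: let `α ∈ H` have order prime to `p`.  It is trivial on `Top ⊓ E` (`AC.eq_one_of_chain` as in
`isPGroup_St`, for the restriction of `α` to `(Top ⊓ E).subgroupOf E`; or show by induction on the chain that `α` fixes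
`l.getD i ⊤ ⊓ Top ⊓ E` pointwise: `α x = x c` with `c` fixed gives `c ^ orderOf α = 1`).  For `g ∈ E`, `y ∈ Top ⊓ E`:
`α (g y g⁻¹) = g y g⁻¹` gives that `g⁻¹ α g` centralises `Top ⊓ E`, so it lies in `Top` and is fixed by `α`; again `α g = g`. -/
theorem pg_top (hE : IsPGroup p E) (nT : ∀ g ∈ E, ∀ y ∈ E, y ∈ Top → g * y * g⁻¹ ∈ Top) (hT : Sc E Top)
    (l : List (Subgroup Ω)) (H : Subgroup (MulAut E))
    (h : ∀ α ∈ H, ∀ i, ∀ x ∈ E, x ∈ Top → x ∈ l.getD i ⊤ → x⁻¹ * afn α x ∈ Top ∧ x⁻¹ * afn α x ∈ (⊥ :: l).getD i ⊤) :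
    IsPGroup p H := by
  refine AC.isPGroup_of_coprime fun α hα hc => ?_
  have k1 : ∀ i, ∀ x ∈ E, x ∈ Top → x ∈ (⊥ :: l).getD i ⊤ → afn α x = x := fun i => by
    induction i with
    | zero => intro x _ _ k; rw [mem_bot.1 k, (homOn_afn α).map_one]
    | succ i ih =>
      intro x hx k k'
      obtain ⟨a, b⟩ := h α hα i x hx k k'
      exact fix_of_fix hE hc hx (ih _ (mul_mem (inv_mem hx) (afn_mem α hx)) a b)
  have k2 : ∀ x ∈ E, x ∈ Top → afn α x = x := fun x hx k => k1 (l.length + 1) x hx k (by simp)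
  refine aut_ext fun g hg => ?_
  have hm := mul_mem (inv_mem hg) (afn_mem α hg)
  rw [afn_one]
  refine fix_of_fix hE hc hg (k2 _ hm (hT _ hm fun y hy hy' => ?_))
  have e := k2 _ (mul_mem (mul_mem hg hy) (inv_mem hg)) (nT g hg y hy hy')
  rw [(homOn_afn α).map_conj hg hy, k2 y hy hy'] at e
  calc g⁻¹ * afn α g * y = g⁻¹ * (afn α g * y * (afn α g)⁻¹) * afn α g := by group
    _ = y * (g⁻¹ * afn α g) := by rw [e]; group

namespace Dc

/-- `Iv G L` makes `L ⊓ E` normal in `E` (`ind`, `le`). -/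
theorem conj_mem (h : Dc p E G M₀) (hL : Iv G L) {x y : Ω} (hx : Nm E x) (hy : y ∈ E) (hy' : y ∈ L) : x * y * x⁻¹ ∈ L := by
  obtain ⟨t, ht, e⟩ := h.ind x hx
  exact e y hy ▸ hL t (h.le ht) y hy hy'

/-- PROOF.  The `α ∈ G` with the property `hγ` form a subgroup `H` (as `St`/`Ker` in `U5F/Gen`, using `Iv`), normalised by `G`, and a
`p`-group by `pg_top`; `rad`. -/
theorem inn (h : Dc p E G M₀) (hT : Iv G Top) (sT : Sc E Top) (l : List (Subgroup Ω)) (hl : ∀ i, Iv G (l.getD i ⊤))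
    {γ : MulAut E} (hG : γ ∈ G) (hγ : ∀ i, ∀ x ∈ E, x ∈ Top → x ∈ l.getD i ⊤ → x⁻¹ * afn γ x ∈ (⊥ :: l).getD i ⊤) :
    γ ∈ Inn E := by
  let H : Subgroup (MulAut E) :=
    { carrier := {α | α ∈ G ∧ ∀ i, ∀ x ∈ E, x ∈ Top → x ∈ l.getD i ⊤ → x⁻¹ * afn α x ∈ (⊥ :: l).getD i ⊤}
      one_mem' := ⟨one_mem _, fun i x _ _ _ => by rw [afn_one, inv_mul_cancel]; exact one_mem _⟩
      mul_mem' := fun {α β} hα hβ => ⟨mul_mem hα.1 hβ.1, fun i x hx k k' => by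
        have : x⁻¹ * afn (α * β) x = x⁻¹ * afn β x * ((afn β x)⁻¹ * afn α (afn β x)) := by rw [afn_mul _ _ hx]; group
        rw [this]
        exact mul_mem (hβ.2 i x hx k k') (hα.2 i _ (afn_mem β hx) (hT β hβ.1 x hx k) (hl i β hβ.1 x hx k'))⟩
      inv_mem' := fun {α} hα => ⟨inv_mem hα.1, fun i x hx k k' => by
        have := inv_mem (hα.2 i _ (afn_mem α⁻¹ hx) (hT _ (inv_mem hα.1) x hx k) (hl i _ (inv_mem hα.1) x hx k'))
        rwa [afn_afn_inv _ hx, mul_inv_rev, inv_inv] at this⟩ }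
  refine h.rad H (pg_top h.pE (fun g hg y hy k => h.conj_mem hT (fun z hz => mul_mem (mul_mem hg hz) (inv_mem hg)) hy k)
    sT l H fun α hα i x hx k k' => ⟨mul_mem (inv_mem k) (hT α hα.1 x hx k), hα.2 i x hx k k'⟩) (fun α hα => hα.1)
    (fun α hα κ hκ => ⟨mul_mem (mul_mem hα hκ.1) (inv_mem hα), fun i x hx k k' => ?_⟩) (⟨hG, hγ⟩ : γ ∈ H)
  have h1 := afn_mem α⁻¹ hx
  have h3 := afn_mem κ h1
  have h2 := hκ.2 i _ h1 (hT _ (inv_mem hα) x hx k) (hl i _ (inv_mem hα) x hx k')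
  have e := afn_dv α h1 h3
  rw [afn_afn_inv _ hx] at e
  rw [afn_mul _ _ hx, afn_mul _ _ h1, ← e]
  exact iv_cons hl i α hα _ (mul_mem (inv_mem h1) h3) h2

/-- PROOF.  `ind`, `inn` (`y⁻¹ * (x y x⁻¹) = y⁻¹ * cm x y * y`, `conj_mem`), `mem_Inn`, `cen`. -/
theorem chain (h : Dc p E G M₀) (hT : Iv G Top) (sT : Sc E Top) (l : List (Subgroup Ω)) (hl : ∀ i, Iv G (l.getD i ⊤))
    {x : Ω} (hx : Nm E x) (hs : ∀ i, ∀ y ∈ E, y ∈ Top → y ∈ l.getD i ⊤ → cm x y ∈ (⊥ :: l).getD i ⊤) : x ∈ E := by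
  obtain ⟨t, ht, e⟩ := h.ind x hx
  obtain ⟨g, hg, e'⟩ := mem_Inn.1 (h.inn hT sT l hl (h.le ht) fun i y hy k k' => by
    have := h.conj_mem (iv_cons hl i) (x := y⁻¹) (fun z hz => mul_mem (mul_mem (inv_mem hy) hz) (inv_mem (inv_mem hy)))
      (show cm x y ∈ E from mul_mem (hx y hy) (inv_mem hy)) (hs i y hy k k')
    rw [e y hy]
    convert this using 1
    simp only [cm]; group)
  refine (mul_mem_cancel_left (inv_mem hg)).1 (h.cen _ fun y hy => ?_)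
  have := (e y hy).symm.trans (e' y hy)
  calc y * (g⁻¹ * x) = g⁻¹ * (g * y * g⁻¹) * x := by group
    _ = g⁻¹ * x * y := by rw [← this]; group

theorem t1 (h : Dc p E G M₀) (hL : Iv G L) (hT : Iv G Top) (sT : Sc E Top) {x : Ω} (hx : Nm E x)
    (h0 : ∀ y ∈ E, y ∈ L → x * y = y * x) (h1 : ∀ y ∈ E, y ∈ Top → cm x y ∈ L) : x ∈ E := by
  refine h.chain hT sT [L] (fun i => ?_) hx fun i y hy k k' => ?_
  · rcases i with _ | i
    exacts [hL, iv_of_ch Ch.top G]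
  · rcases i with _ | _ | i
    exacts [mem_bot.2 (cm_eq_one.2 (h0 y hy k')), h1 y hy k, trivial]

theorem t2 (h : Dc p E G M₀) (hL : Iv G L) (hM : Iv G M) (hT : Iv G Top) (sT : Sc E Top) {x : Ω} (hx : Nm E x)
    (h0 : ∀ y ∈ E, y ∈ L → x * y = y * x) (h1 : ∀ y ∈ E, y ∈ M → cm x y ∈ L) (h2 : ∀ y ∈ E, y ∈ Top → cm x y ∈ M) :
    x ∈ E := by
  refine h.chain hT sT [L, M] (fun i => ?_) hx fun i y hy k k' => ?_
  · rcases i with _ | _ | i
    exacts [hL, hM, iv_of_ch Ch.top G]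
  · rcases i with _ | _ | _ | i
    exacts [mem_bot.2 (cm_eq_one.2 (h0 y hy k')), h1 y hy k', h2 y hy k, trivial]

/-- The characteristic versions with `Top = ⊤`. -/
theorem c1 (h : Dc p E G M₀) (hL : Ch E L) {x : Ω} (hx : Nm E x) (h0 : ∀ y ∈ E, y ∈ L → x * y = y * x)
    (h1 : ∀ y ∈ E, cm x y ∈ L) : x ∈ E :=
  h.t1 (iv_of_ch hL G) (iv_of_ch Ch.top G) sc_top hx h0 fun y hy _ => h1 y hy

theorem c2 (h : Dc p E G M₀) (hL : Ch E L) (hM : Ch E M) {x : Ω} (hx : Nm E x) (h0 : ∀ y ∈ E, y ∈ L → x * y = y * x)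
    (h1 : ∀ y ∈ E, y ∈ M → cm x y ∈ L) (h2 : ∀ y ∈ E, cm x y ∈ M) : x ∈ E :=
  h.t2 (iv_of_ch hL G) (iv_of_ch hM G) (iv_of_ch Ch.top G) sc_top hx h0 h1 fun y hy _ => h2 y hy

end Dc

end Cfsg.Agent.D4F
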