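import Cfsg.Agent.D4F.Dc1

/-!
Quadratic sections: the maximal intersection argument.  Model: `ff_aux` in `U5F/FF` (there `M = ⊥`, `L = Z(E)`).
Throughout `C = Cq E B M L`; `t b ∈ M₀` is the automorphism induced by `b` (`Dc.ind`).  `M ⊓ E`, `L ⊓ E` are normal in `E` (`Dc.conj_mem`), and
every subgroup between them is normal in `L ⊓ E` (`Sec.ab`).
-/

set_option autoImplicit false
set_option linter.unusedSectionVars false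
set_option linter.unusedSimpArgs false

namespace Cfsg.Agent.D4F

open Subgroup Cfsg.Agent.RFS Cfsg.Agent.U5F Cfsg.Agent.Fus Cfsg.FusionSystem

variable {Ω : Type*} [Group Ω] [Finite Ω] {E B M L Top : Subgroup Ω} {p : ℕ} [Fact p.Prime] {G M₀ : Subgroup (MulAut E)}

/-- The centraliser of `B` in the section. -/
def Cq (E B M L : Subgroup Ω) (y : Ω) : Prop := y ∈ E ∧ y ∈ L ∧ ∀ b ∈ B, cm b y ∈ M

theorem dc2_inv {t : MulAut E} {x : Ω} (h : Ind t x) : Ind t⁻¹ x⁻¹ := fun y hy => by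
  have := h _ (afn_mem t⁻¹ hy)
  rw [afn_afn_inv _ hy] at this
  calc afn t⁻¹ y = x⁻¹ * (x * afn t⁻¹ y * x⁻¹) * x⁻¹⁻¹ := by group
    _ = _ := by rw [← this]

theorem dc2_mul {t t' : MulAut E} {x x' : Ω} (h : Ind t x) (h' : Ind t' x') : Ind (t * t') (x * x') := fun y hy => by
  rw [afn_mul _ _ hy, h _ (afn_mem t' hy), h' y hy]; group

theorem dc2_uniq {t t' : MulAut E} {x : Ω} (h : Ind t x) (h' : Ind t' x) : t = t' :=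
  aut_ext fun y hy => (h y hy).trans (h' y hy).symm

theorem dc2_nm {x : Ω} (hx : x ∈ E) : Nm E x := fun _ hy => mul_mem (mul_mem hx hy) (inv_mem hx)

theorem dc2_cmE (s : Sec G B M L Top) {b y : Ω} (hb : b ∈ B) (hy : y ∈ E) : cm b y ∈ E :=
  mul_mem (s.nm b hb y hy) (inv_mem hy)

theorem dc2_cmL (h : Dc p E G M₀) (s : Sec G B M L Top) {b y : Ω} (hb : b ∈ B) (hy : y ∈ E) (hy' : y ∈ L) : cm b y ∈ L :=
  mul_mem (h.conj_mem s.iL (s.nm b hb) hy hy') (inv_mem hy')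

theorem dc2_cj (x y : Ω) : x * y * x⁻¹ = cm x y * y := by simp only [cm]; group

/-- `K` lies between `M ⊓ E` and `L ⊓ E`. -/
def Dc2B (E M L K : Subgroup Ω) : Prop := (∀ y ∈ E, y ∈ M → y ∈ K) ∧ ∀ y ∈ K, y ∈ E ∧ y ∈ L

theorem Dc2B.nrm {K : Subgroup Ω} (hK : Dc2B E M L K) (s : Sec G B M L Top) {v k : Ω} (hv : v ∈ E) (hv' : v ∈ L)
    (hk : k ∈ K) : v * k * v⁻¹ ∈ K := by
  rw [dc2_cj]
  exact mul_mem (hK.1 _ (cm_mem hv (hK.2 k hk).1) (s.ab v hv hv' k (hK.2 k hk).1 (hK.2 k hk).2)) hk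

theorem Dc2B.le {K : Subgroup Ω} (hK : Dc2B E M L K) : K ≤ E := fun y hy => (hK.2 y hy).1

theorem Dc2B.le' {K : Subgroup Ω} (hK : Dc2B E M L K) : K ≤ E ⊓ L := fun y hy => hK.2 y hy

theorem Dc2B.cj {K : Subgroup Ω} (hK : Dc2B E M L K) (s : Sec G B M L Top) {b z : Ω} (hb : b ∈ B) (hz : Cq E B M L z)
    (hk : z ∈ K) : b * z * b⁻¹ ∈ K := by
  rw [dc2_cj]
  exact mul_mem (hK.1 _ (dc2_cmE s hb hz.1) (hz.2.2 b hb)) hk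

theorem dc2_cqM (s : Sec G B M L Top) {y : Ω} (hy : y ∈ E) (hy' : y ∈ M) : Cq E B M L y :=
  ⟨hy, s.ML y hy hy', fun b hb => by rw [cm_eq_one.2 (s.h0 b hb y hy hy')]; exact one_mem _⟩

theorem dc2_cqcm (h : Dc p E G M₀) (s : Sec G B M L Top) {b y : Ω} (hb : b ∈ B) (hy : y ∈ E) (hy' : y ∈ L) :
    Cq E B M L (cm b y) :=
  ⟨dc2_cmE s hb hy, dc2_cmL h s hb hy hy', fun b' hb' => s.h1 b hb b' hb' y hy hy'⟩

theorem dc2_exC (h : Dc p E G M₀) (s : Sec G B M L Top) :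
    ∃ C : Subgroup Ω, (∀ y, y ∈ C ↔ Cq E B M L y) ∧ Dc2B E M L C := by
  refine ⟨⟨⟨⟨{y | Cq E B M L y}, fun {y y'} hy hy' => ⟨mul_mem hy.1 hy'.1, mul_mem hy.2.1 hy'.2.1, fun b hb => ?_⟩⟩,
    dc2_cqM s (one_mem _) (one_mem _)⟩, fun {y} hy => ⟨inv_mem hy.1, inv_mem hy.2.1, fun b hb => ?_⟩⟩,
    fun _ => Iff.rfl, fun y hy hy' => dc2_cqM s hy hy', fun y hy => ⟨hy.1, hy.2.1⟩⟩
  · rw [show cm b (y * y') = cm b y * (y * cm b y' * y⁻¹) by simp only [cm]; group]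
    exact mul_mem (hy.2.2 b hb) (h.conj_mem s.iM (dc2_nm hy.1) (dc2_cmE s hb hy'.1) (hy'.2.2 b hb))
  · rw [show cm b y⁻¹ = y⁻¹ * (cm b y)⁻¹ * y⁻¹⁻¹ by simp only [cm]; group]
    exact h.conj_mem s.iM (dc2_nm (inv_mem hy.1)) (inv_mem (dc2_cmE s hb hy.1)) (inv_mem (hy.2.2 b hb))

/-- The image of `K ≤ E` under `α`. -/
noncomputable def dc2P (α : MulAut E) (K : Subgroup Ω) : Subgroup Ω := (homOn_afn α⁻¹).pre K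

theorem mem_dc2P {α : MulAut E} {K : Subgroup Ω} {x : Ω} : x ∈ dc2P α K ↔ x ∈ E ∧ afn α⁻¹ x ∈ K := Iff.rfl

theorem dc2_card (α : MulAut E) {K : Subgroup Ω} (hK : K ≤ E) : Nat.card (dc2P α K) = Nat.card K :=
  Nat.card_congr ⟨fun y => ⟨afn α⁻¹ y, y.2.2⟩,
    fun y => ⟨afn α y, afn_mem _ (hK y.2), by rw [afn_inv_afn _ (hK y.2)]; exact y.2⟩,
    fun y => Subtype.ext (afn_afn_inv _ y.2.1), fun y => Subtype.ext (afn_inv_afn _ (hK y.2))⟩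

theorem Dc2B.img {K : Subgroup Ω} (hK : Dc2B E M L K) (s : Sec G B M L Top) {γ : MulAut E} (hγ : γ ∈ G) :
    Dc2B E M L (dc2P γ K) :=
  ⟨fun y hy hy' => ⟨hy, hK.1 _ (afn_mem _ hy) (s.iM _ (inv_mem hγ) y hy hy')⟩, fun y hy => ⟨hy.1, by
    have := s.iL γ hγ _ (afn_mem γ⁻¹ hy.1) (hK.2 _ hy.2).2
    rwa [afn_afn_inv _ hy.1] at this⟩⟩

theorem dc2_cardq {C : Subgroup Ω} (mC : ∀ y, y ∈ C ↔ Cq E B M L y) (γ : MulAut E) :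
    Nat.card {y // Cq E B M L y ∧ Cq E B M L (afn γ⁻¹ y)} = Nat.card (C ⊓ dc2P γ C :) :=
  Nat.card_congr (Equiv.subtypeEquivRight fun y =>
    ⟨fun k => ⟨(mC y).2 k.1, k.1.1, (mC _).2 k.2⟩, fun k => ⟨(mC y).1 k.1, (mC _).1 k.2.2⟩⟩)

theorem dc2_claim (h : Dc p E G M₀) (s : Sec G B M L Top) {C : Subgroup Ω} (mC : ∀ y, y ∈ C ↔ Cq E B M L y)
    (bC : Dc2B E M L C) {β : MulAut E} (hβ : β ∈ G) (nβ : β ∉ M₀)
    (mx : ∀ γ ∈ G, γ ∉ M₀ → Nat.card (C ⊓ dc2P γ C :) ≤ Nat.card (C ⊓ dc2P β C :))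
    {e : Ω} (he : e ∈ dc2P β C) (ne : e ∉ C) {b : Ω} (hb : b ∈ B) (k : cm b e ∈ dc2P β C) : b ∈ E := by
  by_contra nb
  obtain ⟨t, ht, it⟩ := h.ind b (s.nm b hb)
  have h1 := mx _ (mul_mem (mul_mem (inv_mem hβ) (h.le ht)) hβ) (h.ti β hβ nβ t b nb it)
  rw [← dc2_card β⁻¹ (K := C ⊓ dc2P β C) (inf_le_left.trans bC.le)] at h1
  have e1 : ∀ y ∈ E, afn (β⁻¹ * t * β)⁻¹ y = afn β⁻¹ (b⁻¹ * afn β y * b⁻¹⁻¹) := fun y hy => by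
    rw [show (β⁻¹ * t * β)⁻¹ = β⁻¹ * (t⁻¹ * β) by group, afn_mul _ _ hy, afn_mul _ _ hy, dc2_inv it _ (afn_mem _ hy)]
  have h2 : dc2P β⁻¹ (C ⊓ dc2P β C) ≤ C ⊓ dc2P (β⁻¹ * t * β) C := fun y hy => by
    obtain ⟨a0, a1, a2⟩ := mem_dc2P.1 hy
    rw [inv_inv] at a1 a2
    refine ⟨?_, a0, ?_⟩
    · have := a2.2
      rwa [afn_inv_afn _ a0] at this
    · rw [e1 y a0]
      exact ((bC.img s hβ).cj s (inv_mem hb) ((mC _).1 a1) a2).2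
  have h3 := eq_of_le_of_card_ge h2 h1
  have a1 : b * e * b⁻¹ ∈ dc2P β C := by rw [dc2_cj]; exact mul_mem k he
  have a2 : afn β⁻¹ (b * e * b⁻¹) ∈ C ⊓ dc2P (β⁻¹ * t * β) C := ⟨a1.2, afn_mem _ a1.1, by
    rw [e1 _ (afn_mem _ a1.1), afn_afn_inv _ a1.1, show b⁻¹ * (b * e * b⁻¹) * b⁻¹⁻¹ = e by group]
    exact he.2⟩
  rw [← h3] at a2
  have a3 := (mem_dc2P.1 a2).2.1
  rw [inv_inv, afn_afn_inv _ a1.1, dc2_cj] at a3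
  exact ne ((mul_mem_cancel_left ((mC _).2 (dc2_cqcm h s hb he.1 ((bC.img s hβ).2 e he).2))).1 a3)

/-- Automorphisms that map `A ⊓ E` to itself and are trivial on it modulo `A'`. -/
def dc2S (E A A' : Subgroup Ω) : Subgroup (MulAut E) where
  carrier := {β | ∀ x ∈ E, x ∈ A → afn β x ∈ A ∧ x⁻¹ * afn β x ∈ A'}
  one_mem' x _ h := by simpa [afn_one] using h
  mul_mem' {α β} hα hβ x hx h := by
    have h1 := hα _ (afn_mem β hx) (hβ x hx h).1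
    have : x⁻¹ * afn (α * β) x = x⁻¹ * afn β x * ((afn β x)⁻¹ * afn α (afn β x)) := by rw [afn_mul _ _ hx]; group
    rw [this, afn_mul _ _ hx]
    exact ⟨h1.1, mul_mem (hβ x hx h).2 h1.2⟩
  inv_mem' {α} hα x hx h := by
    have h1 := inv_pres (fun y hy k => (hα y hy k).1) x hx h
    have := inv_mem (hα _ (afn_mem α⁻¹ hx) h1).2
    rw [afn_afn_inv _ hx, mul_inv_rev, inv_inv] at this
    exact ⟨h1, this⟩

theorem dc2S_conj {A A' : Subgroup Ω} {α β : MulAut E} (hA : ∀ x ∈ E, x ∈ A → afn α x ∈ A)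
    (hA' : ∀ x ∈ E, x ∈ A' → afn α x ∈ A') (hβ : β ∈ dc2S E A A') : α * β * α⁻¹ ∈ dc2S E A A' := by
  intro x hx k
  have h1 := afn_mem α⁻¹ hx
  have h2 := hβ _ h1 (inv_pres hA x hx k)
  have h3 := afn_mem β h1
  rw [afn_mul _ _ hx, afn_mul _ _ h1]
  refine ⟨hA _ h3 h2.1, ?_⟩
  have := hA' _ (mul_mem (inv_mem h1) h3) h2.2
  rwa [afn_dv _ h1 h3, afn_afn_inv _ hx] at this

theorem dc2_ex (h : Dc p E G M₀) (s : Sec G B M L Top) {C : Subgroup Ω} (mC : ∀ y, y ∈ C ↔ Cq E B M L y)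
    (bC : Dc2B E M L C) {β : MulAut E} (hβ : β ∈ G) (nβ : β ∉ M₀) : ∃ e ∈ dc2P β C, e ∉ C := by
  by_contra! r
  obtain ⟨b, hb, nb⟩ := SetLike.not_le_iff_exists.1 s.nle
  obtain ⟨t, ht, it⟩ := h.ind b (s.nm b hb)
  have e1 : ∀ x, x⁻¹ * (b * x * b⁻¹) = x⁻¹ * cm b x * x⁻¹⁻¹ := fun x => by simp only [cm]; group
  have hN : t ∈ dc2S E M ⊥ ⊓ dc2S E C M ⊓ dc2S E L C ⊓ dc2S E Top L := by
    refine ⟨⟨⟨fun x hx k => ?_, fun x hx k => ?_⟩, fun x hx k => ?_⟩, fun x hx k => ?_⟩ <;> rw [it x hx]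
    · rw [s.h0 b hb x hx k, mul_inv_cancel_right, inv_mul_cancel]
      exact ⟨k, one_mem _⟩
    · rw [e1]
      exact ⟨bC.cj s hb ((mC x).1 k) k, h.conj_mem s.iM (dc2_nm (inv_mem hx)) (dc2_cmE s hb hx) (((mC x).1 k).2.2 b hb)⟩
    · rw [e1]
      exact ⟨h.conj_mem s.iL (s.nm b hb) hx k, bC.nrm s (inv_mem hx) (inv_mem k) ((mC _).2 (dc2_cqcm h s hb hx k))⟩
    · rw [e1]
      exact ⟨h.conj_mem s.iT (s.nm b hb) hx k, h.conj_mem s.iL (dc2_nm (inv_mem hx)) (dc2_cmE s hb hx) (s.h2 b hb x hx k)⟩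
  have pC : ∀ x ∈ E, x ∈ C → afn β x ∈ C := fun x hx k => r _ ⟨afn_mem _ hx, by rwa [afn_inv_afn _ hx]⟩
  refine h.np β hβ nβ t b nb it (dc2S E M ⊥ ⊓ dc2S E C M ⊓ dc2S E L C ⊓ dc2S E Top L)
    (pg_top h.pE (fun g hg y hy k => h.conj_mem s.iT (dc2_nm hg) hy k) s.top [M, C, L] _ fun α hα i x hx xT k => ?_) hN
    ⟨⟨⟨dc2S_conj (s.iM β hβ) (Ch.bot β) hN.1.1.1, dc2S_conj pC (s.iM β hβ) hN.1.1.2⟩, dc2S_conj (s.iL β hβ) pC hN.1.2⟩,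
      dc2S_conj (s.iT β hβ) (s.iL β hβ) hN.2⟩
  refine ⟨mul_mem (inv_mem xT) (hα.2 x hx xT).1, ?_⟩
  rcases i with _ | _ | _ | _ | i
  exacts [(hα.1.1.1 x hx k).2, (hα.1.1.2 x hx k).2, (hα.1.2 x hx k).2, (hα.2 x hx xT).2, trivial]

theorem dc2_max (h : Dc p E G M₀) (C : Subgroup Ω) : ∃ β ∈ G, β ∉ M₀ ∧
    ∀ γ ∈ G, γ ∉ M₀ → Nat.card (C ⊓ dc2P γ C :) ≤ Nat.card (C ⊓ dc2P β C :) := by
  obtain ⟨β₀, a, b⟩ := SetLike.not_le_iff_exists.1 h.ne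
  obtain ⟨β, hβ, mx⟩ := Set.exists_max_image {β | β ∈ G ∧ β ∉ M₀} (fun γ => Nat.card (C ⊓ dc2P γ C :)) (Set.toFinite _)
    ⟨β₀, a, b⟩
  exact ⟨β, hβ.1, hβ.2, fun γ a b => mx γ ⟨a, b⟩⟩

theorem dc2_inj (h : Dc p E G M₀) (s : Sec G B M L Top) {C K : Subgroup Ω} (mC : ∀ y, y ∈ C ↔ Cq E B M L y)
    (bK : Dc2B E M L K) {e : Ω} (he : e ∈ E) (he' : e ∈ L) (cl : ∀ b ∈ B, cm b e ∈ K → b ∈ E) :
    E.relIndex B ≤ K.relIndex C ∧ (K.relIndex C ≤ E.relIndex B → ∀ c ∈ C, ∃ b ∈ B, (cm b e)⁻¹ * c ∈ K) := by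
  have m1 : ∀ b : B, cm (b : Ω) e ∈ C := fun b => (mC _).2 (dc2_cqcm h s b.2 he he')
  let φ : B ⧸ E.subgroupOf B → C ⧸ K.subgroupOf C := fun q => ((⟨_, m1 q.out⟩ : C) : C ⧸ K.subgroupOf C)
  have φi : Function.Injective φ := fun q q' r => by
    rw [← q.out_eq', ← q'.out_eq']
    have a1 : (cm (q.out : Ω) e)⁻¹ * cm (q'.out : Ω) e ∈ K := mem_subgroupOf.1 (QuotientGroup.eq.1 r)
    have a2 := (mC _).1 (m1 q.out)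
    have a3 := bK.nrm s a2.1 a2.2.1 a1
    have a4 : cm (q.out : Ω) e * ((cm (q.out : Ω) e)⁻¹ * cm (q'.out : Ω) e) * (cm (q.out : Ω) e)⁻¹ ∈ C :=
      mul_mem (mul_mem (m1 _) (mul_mem (inv_mem (m1 _)) (m1 _))) (inv_mem (m1 _))
    have a5 := bK.cj s (inv_mem q.out.2) ((mC _).1 a4) a3
    refine QuotientGroup.eq.2 (cl ((q.out : Ω)⁻¹ * q'.out) (q.out⁻¹ * q'.out).2 ?_)
    convert a5 using 1
    simp only [cm]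
    group
  have j : E.relIndex B ≤ K.relIndex C := Nat.card_le_card_of_injective φ φi
  refine ⟨j, fun k c hc => ?_⟩
  obtain ⟨q, hq⟩ := ((Nat.bijective_iff_injective_and_card φ).2 ⟨φi, le_antisymm j k⟩).2 (⟨c, hc⟩ : C)
  exact ⟨_, q.out.2, mem_subgroupOf.1 (QuotientGroup.eq.1 hq)⟩

theorem dc2_fac {H K V : Subgroup Ω} (hK : K ≤ V) (e : H.relIndex K = H.relIndex V) {v : Ω} (hv : v ∈ V) :
    ∃ c ∈ K, c⁻¹ * v ∈ H := by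
  obtain ⟨q, hq⟩ := ((Nat.bijective_iff_injective_and_card (quotientSubgroupOfEmbeddingOfLE H hK)).2
    ⟨(quotientSubgroupOfEmbeddingOfLE H hK).injective, e⟩).2 (⟨v, hv⟩ : V)
  obtain ⟨c, rfl⟩ := QuotientGroup.mk_surjective q
  rw [quotientSubgroupOfEmbeddingOfLE_apply_mk] at hq
  exact ⟨c, c.2, mem_subgroupOf.1 (QuotientGroup.eq.1 hq)⟩

theorem dc2_rel (K V : Subgroup Ω) : Nat.card (V ⊓ K :) * K.relIndex V = Nat.card V := by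
  rw [← card_mul_index (K.subgroupOf V), ← inf_subgroupOf_left, Nat.card_congr (subgroupOfEquivOfLe inf_le_left).toEquiv,
    inf_subgroupOf_left]
  rfl

namespace Dc

/-- PROOF.  `C = {y | Cq E B M L y}` is a subgroup (`cm b (y y') = cm b y * (y * cm b y' * y⁻¹)`), `M ⊓ E ≤ C`, `cm b y ∈ C` for
`y ∈ L ⊓ E` (`h1`).  Choose `β ∈ G \ M₀` with `D = C ⊓ β C` of maximal order, `C' = β C ≥ M ⊓ E`.
Claim: if `e ∈ C' \ C`, `b ∈ B`, `cm b e ∈ C'` then `b ∈ E`.  Otherwise `β' = β⁻¹ (t b) β ∈ G \ M₀` (`ti`) and `β (C ⊓ β' C) = C' ⊓ (t b) C'`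
contains `D` (`(t b)⁻¹ x ∈ x M`) and `b e b⁻¹ = cm b e * e ∉ C`.
If `C' ≤ C` then `C' = C`, and `t b₀`, `β (t b₀) β⁻¹` (`b₀ ∈ B \ E`) lie in the subgroup of `G` of the automorphisms that map `C` to `C`
and are trivial on `M`, `C / M`, `L / C`, `Top / L`, a `p`-group by `pg_top` with `l = [M, C, L]`; this contradicts `np`. -/
theorem core (h : Dc p E G M₀) (s : Sec G B M L Top) : ∃ β ∈ G, β ∉ M₀ ∧
    (∃ c, Cq E B M L c ∧ ¬ Cq E B M L (afn β c)) ∧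
    (∀ γ ∈ G, γ ∉ M₀ → Nat.card {y // Cq E B M L y ∧ Cq E B M L (afn γ⁻¹ y)} ≤
      Nat.card {y // Cq E B M L y ∧ Cq E B M L (afn β⁻¹ y)}) ∧
    ∀ c, Cq E B M L c → ¬ Cq E B M L (afn β c) → ∀ b ∈ B, Cq E B M L (afn β⁻¹ (cm b (afn β c))) → b ∈ E := by
  obtain ⟨C, mC, bC⟩ := dc2_exC h s
  obtain ⟨β, hβ, nβ, mx⟩ := dc2_max h C
  obtain ⟨e, he, ne⟩ := dc2_ex h s mC bC hβ nβ
  refine ⟨β, hβ, nβ, ⟨_, (mC _).1 he.2, fun k => ne ?_⟩, fun γ a b => ?_, fun c hc nc b hb k => ?_⟩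
  · rw [afn_afn_inv _ he.1] at k
    exact (mC _).2 k
  · rw [dc2_cardq mC, dc2_cardq mC]
    exact mx γ a b
  · exact dc2_claim h s mC bC hβ nβ mx (e := afn β c) ⟨afn_mem _ hc.1, by rw [afn_inv_afn _ hc.1]; exact (mC _).2 hc⟩
      (fun r => nc ((mC _).1 r)) hb ⟨dc2_cmE s hb (afn_mem _ hc.1), (mC _).2 k⟩

/-- From `core`: `e = β c`; `M ⊓ E ≤ C'`. -/
theorem m0 (h : Dc p E G M₀) (s : Sec G B M L Top) : ∃ e ∈ E, e ∈ L ∧ ∀ b ∈ B, cm b e ∈ M → b ∈ E := by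
  obtain ⟨β, hβ, -, ⟨c, hc, nc⟩, -, k⟩ := core h s
  have he := afn_mem β hc.1
  exact ⟨_, he, s.iL β hβ c hc.1 hc.2.1, fun b hb r => k c hc nc b hb
    (dc2_cqM s (afn_mem _ (dc2_cmE s hb he)) (s.iM _ (inv_mem hβ) _ (dc2_cmE s hb he) r))⟩

/-- PROOF.  As in `ff_aux`: for `e ∈ C' \ C` the map `b ↦ cm b e mod D` is injective on `B / B ⊓ E` (`cm (b'⁻¹ b) e =
b'⁻¹ (cm b e * (cm b' e)⁻¹) b'`), so `|B : B ⊓ E| ≤ |C : D| ≤ |L ⊓ E : C| ≤ |B : B ⊓ E|`, the last by `f`.  Hence (1) `f` is onto modulo `E`;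
(2) every `γ ∈ G \ M₀` has `|C ⊓ γ C| = |D|` (`|C : C ⊓ γ C| ≤ |L ⊓ E : C|`), so the claim in `core` holds for every such `γ`, and
`L ⊓ E = C (γ C)`; so `cm b v ∉ γ C` for `v ∈ L ⊓ E \ C`, `b ∈ B \ E` (`v = c e`, `cm b v = cm b c * (c * cm b e * c⁻¹)`);
(3) every `v ∈ L ⊓ E \ C` lies in some `(t b) C'` (`v = c e`, `c ∈ D * cm b e`);
(4) for `γ ∈ G \ M₀` there is `b ∈ B` with `γ⁻¹ (t b) β ∈ M₀`: take `v`, `b₀ ∈ B \ E`, `y = γ (cm b₀ v) ∉ C` by (2) for `γ⁻¹`, so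
`y ∈ (t b) β C`, and (2) forbids `γ⁻¹ (t b) β ∉ M₀`.
(5) if `m ∈ M₀` then `m (cm b v) ∈ C`: otherwise it lies in `(t b') β C` with `m⁻¹ (t b') β ∉ M₀`, and `b ∉ E`: (2). -/
theorem spread (h : Dc p E G M₀) (s : Sec G B M L Top) (f : Ω → Ω) (f1 : ∀ y ∈ E, y ∈ L → f y ∈ B)
    (f2 : ∀ y ∈ E, y ∈ L → ∀ y' ∈ E, y' ∈ L → (f y)⁻¹ * f y' ∈ E → ∀ b ∈ B, cm b (y⁻¹ * y') ∈ M) :
    (∀ b ∈ B, ∃ y ∈ E, y ∈ L ∧ (f y)⁻¹ * b ∈ E) ∧ ∃ β ∈ G, β ∉ M₀ ∧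
    (∀ γ ∈ G, γ ∉ M₀ → ∀ v ∈ E, v ∈ L → ∃ c e, Cq E B M L c ∧ Cq E B M L e ∧ v = c * afn γ e) ∧
    (∀ γ ∈ G, γ ∉ M₀ → ∀ v ∈ E, v ∈ L → ¬ Cq E B M L v → ∀ b ∈ B, Cq E B M L (afn γ⁻¹ (cm b v)) → b ∈ E) ∧
    (∀ γ ∈ G, γ ∉ M₀ → ∃ b ∈ B, ∀ t : MulAut E, Ind t b → γ⁻¹ * t * β ∈ M₀) ∧
    ∀ m ∈ M₀, ∀ b ∈ B, b ∉ E → ∀ v ∈ E, v ∈ L → Cq E B M L (afn m (cm b v)) := by
  obtain ⟨C, mC, bC⟩ := dc2_exC h s
  obtain ⟨β, hβ, nβ, mx⟩ := dc2_max h C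
  obtain ⟨e₀, he₀, ne₀⟩ := dc2_ex h s mC bC hβ nβ
  have bβ := bC.img s hβ
  have nz : ∀ K V : Subgroup Ω, K.relIndex V ≠ 0 := fun _ _ => index_ne_zero_of_finite
  have j1 := (dc2_inj h s mC bβ he₀.1 (bβ.2 _ he₀).2 fun b hb k => dc2_claim h s mC bC hβ nβ mx he₀ ne₀ hb k).1
  have j2 : ∀ γ ∈ G, (dc2P γ C).relIndex C ≤ (dc2P γ C).relIndex (E ⊓ L) := fun γ _ =>
    relIndex_le_of_le_right bC.le' (nz _ _)
  have j3 : ∀ γ ∈ G, (dc2P γ C).relIndex (E ⊓ L) = C.relIndex (E ⊓ L) := fun γ hγ => by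
    have a1 := dc2_rel (dc2P γ C) (E ⊓ L)
    have a2 := dc2_rel C (E ⊓ L)
    rw [inf_eq_right.2 (bC.img s hγ).le', dc2_card γ bC.le] at a1
    rw [inf_eq_right.2 bC.le'] at a2
    exact Nat.eq_of_mul_eq_mul_left Nat.card_pos (a1.trans a2.symm)
  let φ : (E ⊓ L :) ⧸ C.subgroupOf (E ⊓ L) → B ⧸ E.subgroupOf B := fun q =>
    ((⟨_, f1 _ q.out.2.1 q.out.2.2⟩ : B) : B ⧸ E.subgroupOf B)
  have φi : Function.Injective φ := fun q q' r => by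
    rw [← q.out_eq', ← q'.out_eq']
    exact QuotientGroup.eq.2 ((mC _).2 ⟨(q.out⁻¹ * q'.out).2.1, (q.out⁻¹ * q'.out).2.2,
      f2 _ q.out.2.1 q.out.2.2 _ q'.out.2.1 q'.out.2.2 (mem_subgroupOf.1 (QuotientGroup.eq.1 r))⟩)
  have j4 : C.relIndex (E ⊓ L) ≤ E.relIndex B := Nat.card_le_card_of_injective φ φi
  have j5 := j2 β hβ
  have j6 := j3 β hβ
  have mx' : ∀ γ ∈ G, γ ∉ M₀ → Nat.card (C ⊓ dc2P γ C :) = Nat.card (C ⊓ dc2P β C :) ∧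
      (dc2P γ C).relIndex C = (dc2P γ C).relIndex (E ⊓ L) := fun γ hγ nγ => by
    have a1 := (dc2_rel (dc2P γ C) C).trans (dc2_rel (dc2P β C) C).symm
    have a2 := j2 γ hγ
    have a3 := j3 γ hγ
    have a4 := mx γ hγ nγ
    have a5 : (dc2P γ C).relIndex C ≤ (dc2P β C).relIndex C := by omega
    have a6 : Nat.card (C ⊓ dc2P β C :) ≤ Nat.card (C ⊓ dc2P γ C :) :=
      Nat.le_of_mul_le_mul_right (a1.ge.trans (Nat.mul_le_mul_left _ a5)) (Nat.pos_of_ne_zero (nz _ _))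
    have a7 := le_antisymm a4 a6
    rw [a7] at a1
    have a8 := Nat.eq_of_mul_eq_mul_left Nat.card_pos a1
    exact ⟨a7, by omega⟩
  have k1 : ∀ γ ∈ G, γ ∉ M₀ → ∀ v ∈ E, v ∈ L → ∃ c ∈ C, c⁻¹ * v ∈ dc2P γ C := fun γ hγ nγ v hv hv' =>
    dc2_fac bC.le' (mx' γ hγ nγ).2 ⟨hv, hv'⟩
  have cl : ∀ γ ∈ G, γ ∉ M₀ → ∀ e ∈ dc2P γ C, e ∉ C → ∀ b ∈ B, cm b e ∈ dc2P γ C → b ∈ E := fun γ hγ nγ e he ne b hb k =>
    dc2_claim h s mC bC hγ nγ (fun δ a a' => (mx δ a a').trans (mx' γ hγ nγ).1.ge) he ne hb k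
  have k2 : ∀ γ ∈ G, γ ∉ M₀ → ∀ v ∈ E, v ∈ L → v ∉ C → ∀ b ∈ B, afn γ⁻¹ (cm b v) ∈ C → b ∈ E :=
    fun γ hγ nγ v hv hv' nv b hb k => by
    obtain ⟨c, hc, he⟩ := k1 γ hγ nγ v hv hv'
    have bγ := bC.img s hγ
    have a0 := (mC c).1 hc
    refine cl γ hγ nγ _ he (fun r => nv ((mul_mem_cancel_left (inv_mem hc)).1 r)) b hb ?_
    rw [show cm b (c⁻¹ * v) = cm b c⁻¹ * (c⁻¹ * cm b v * c⁻¹⁻¹) by simp only [cm]; group]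
    exact mul_mem (bγ.1 _ (dc2_cmE s hb (inv_mem a0.1)) (((mC _).1 (inv_mem hc)).2.2 b hb))
      (bγ.nrm s (inv_mem a0.1) (inv_mem a0.2.1) ⟨dc2_cmE s hb hv, k⟩)
  have k3 : ∀ v ∈ E, v ∈ L → v ∉ C → ∃ b ∈ B, b⁻¹ * v * b⁻¹⁻¹ ∈ dc2P β C := fun v hv hv' nv => by
    obtain ⟨c, hc, he⟩ := k1 β hβ nβ v hv hv'
    have ne : c⁻¹ * v ∉ C := fun r => nv ((mul_mem_cancel_left (inv_mem hc)).1 r)
    obtain ⟨b, hb, k⟩ := (dc2_inj h s mC bβ he.1 (bβ.2 _ he).2 (cl β hβ nβ _ he ne)).2 (by omega) c hc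
    have a1 := dc2_cqcm h s hb he.1 (bβ.2 _ he).2
    have a2 := bβ.nrm s a1.1 a1.2.1 k
    have a3 : cm b (c⁻¹ * v) * ((cm b (c⁻¹ * v))⁻¹ * c) * (cm b (c⁻¹ * v))⁻¹ ∈ C :=
      mul_mem (mul_mem ((mC _).2 a1) (mul_mem (inv_mem ((mC _).2 a1)) hc)) (inv_mem ((mC _).2 a1))
    refine ⟨b, hb, ?_⟩
    convert mul_mem (bβ.cj s (inv_mem hb) ((mC _).1 a3) a2) he using 1
    simp only [cm]
    group
  have k4 : ∀ γ ∈ G, ∀ b₀ ∈ B, b₀ ∉ E → ∀ v ∈ E, v ∈ L → v ∉ C → afn γ (cm b₀ v) ∉ C →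
      ∃ b ∈ B, ∀ t : MulAut E, Ind t b → γ⁻¹ * t * β ∈ M₀ := fun γ hγ b₀ hb₀ nb₀ v hv hv' nv ny => by
    have a1 := dc2_cmE s hb₀ hv
    obtain ⟨b, hb, k⟩ := k3 _ (afn_mem γ a1) (s.iL γ hγ _ a1 (dc2_cmL h s hb₀ hv hv')) ny
    refine ⟨b, hb, fun t it => by_contra fun r => nb₀ ?_⟩
    obtain ⟨t', ht, it'⟩ := h.ind b (s.nm b hb)
    obtain rfl := dc2_uniq it it'
    refine k2 _ (mul_mem (mul_mem (inv_mem hγ) (h.le ht)) hβ) r v hv hv' nv b₀ hb₀ ?_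
    rw [show (γ⁻¹ * t * β)⁻¹ = β⁻¹ * (t⁻¹ * γ) by group, afn_mul _ _ a1, afn_mul _ _ a1, dc2_inv it _ (afn_mem _ a1)]
    exact k.2
  refine ⟨fun b hb => ?_, β, hβ, nβ, fun γ hγ nγ v hv hv' => ?_,
    fun γ hγ nγ v hv hv' nv b hb k => k2 γ hγ nγ v hv hv' (fun r => nv ((mC _).1 r)) b hb ((mC _).2 k),
    fun γ hγ nγ => ?_, fun m hm b hb nb v hv hv' => by_contra fun r => ?_⟩
  · obtain ⟨q, hq⟩ := ((Nat.bijective_iff_injective_and_card φ).2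
      ⟨φi, le_antisymm j4 (j1.trans (j5.trans j6.le))⟩).2 (⟨b, hb⟩ : B)
    exact ⟨_, q.out.2.1, q.out.2.2, mem_subgroupOf.1 (QuotientGroup.eq.1 hq)⟩
  · obtain ⟨c, hc, he⟩ := k1 γ hγ nγ v hv hv'
    exact ⟨c, _, (mC _).1 hc, (mC _).1 he.2, by rw [afn_afn_inv _ he.1, mul_inv_cancel_left]⟩
  · obtain ⟨b₀, hb₀, nb₀⟩ := SetLike.not_le_iff_exists.1 s.nle
    refine k4 γ hγ b₀ hb₀ nb₀ e₀ he₀.1 (bβ.2 _ he₀).2 ne₀ fun r => nb₀ ?_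
    exact k2 γ⁻¹ (inv_mem hγ) (fun r' => nγ (inv_mem_iff.1 r')) e₀ he₀.1 (bβ.2 _ he₀).2 ne₀ b₀ hb₀ (by rwa [inv_inv])
  · have a1 := dc2_cmE s hb hv
    have nv : v ∉ C := fun k => r (dc2_cqM s (afn_mem _ a1) (s.iM m (h.le hm) _ a1 (((mC v).1 k).2.2 b hb)))
    obtain ⟨b', hb', k⟩ := k4 m (h.le hm) b hb nb v hv hv' nv fun k => r ((mC _).1 k)
    obtain ⟨t, ht, it⟩ := h.ind b' (s.nm b' hb')
    exact nβ ((mul_mem_cancel_left (mul_mem (inv_mem hm) ht)).1 (k t it))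

/-- PROOF.  Let `s ∈ M₀` be induced by `x`, `γ = s β` in (4) of `spread`: `β⁻¹ (s⁻¹ (t b)) β ∈ M₀`, and `s⁻¹ (t b)` is induced by `x⁻¹ b`;
`ti` gives `x⁻¹ b ∈ E`.  Then the first item of `spread`. -/
theorem ff (h : Dc p E G M₀) (s : Sec G B M L Top) (f : Ω → Ω) (f1 : ∀ y ∈ E, y ∈ L → f y ∈ B)
    (f2 : ∀ y ∈ E, y ∈ L → ∀ y' ∈ E, y' ∈ L → (f y)⁻¹ * f y' ∈ E → ∀ b ∈ B, cm b (y⁻¹ * y') ∈ M)
    {x : Ω} (hx : Nm E x) : ∃ y ∈ E, y ∈ L ∧ (f y)⁻¹ * x ∈ E := by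
  obtain ⟨k1, β, hβ, nβ, -, -, k4, -⟩ := spread h s f f1 f2
  obtain ⟨u, hu, iu⟩ := h.ind x hx
  obtain ⟨b, hb, k⟩ := k4 (u * β) (mul_mem (h.le hu) hβ) fun r => nβ ((mul_mem_cancel_left hu).1 r)
  obtain ⟨t, -, it⟩ := h.ind b (s.nm b hb)
  have a1 : x⁻¹ * b ∈ E := by_contra fun r => h.ti β hβ nβ _ _ r (dc2_mul (dc2_inv iu) it) (by
    have := k t it
    rwa [show (u * β)⁻¹ * t * β = β⁻¹ * (u⁻¹ * t) * β by group] at this)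
  obtain ⟨y, hy, hy', a2⟩ := k1 b hb
  refine ⟨y, hy, hy', ?_⟩
  rw [show (f y)⁻¹ * x = (f y)⁻¹ * b * (x⁻¹ * b)⁻¹ by group]
  exact mul_mem a2 (inv_mem a1)

end Dc

end Cfsg.Agent.D4F
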