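import Cfsg.Agent.D4F.Dc2

/-!
The central involution of `SL₂` on a quadratic section.
-/

set_option autoImplicit false
set_option linter.unusedSectionVars false
set_option linter.unusedSimpArgs false

namespace Cfsg.Agent.D4F

open Subgroup Cfsg.Agent.RFS Cfsg.Agent.U5F Cfsg.Agent.Fus Cfsg.FusionSystem

universe u

theorem dc3_abs {V : Type*} [AddCommGroup V] {C C' : AddSubgroup V} {T U S : V →+ V} (hU : ∀ v, U (T v) = v)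
    (T0 : ∀ c ∈ C, T c = c) (T1 : ∀ v, T v - v ∈ C) (S0 : ∀ c ∈ C', S c = c) (S1 : ∀ v, S v - v ∈ C')
    (hi : ∀ v ∈ C, v ∈ C' → v = 0) (hs : ∀ v, ∃ c ∈ C, ∃ c' ∈ C', v = c + c') (h1 : ∀ c ∈ C, ∃ c' ∈ C', S c = T c')
    (h2 : ∀ c' ∈ C', ∃ c ∈ C, S c = T c') (v : V) : U (S (U (U (S (U v))))) = -v := by
  have k : ∀ c ∈ C, ∀ c' ∈ C', S c = T c' → U (S (U c)) = c' ∧ U (S (U c')) = -c := fun c hc c' hc' e => by
    have u : U c = c := by rw [← T0 c hc, hU, T0 c hc]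
    have a := hi _ (sub_mem hc (T1 c')) (by
      rw [← e, show c - (S c - c') = c' - (S c - c) by abel]
      exact sub_mem hc' (S1 c))
    have b : T c' = c + c' := by rw [sub_eq_zero.1 a, sub_add_cancel]
    have d : U c' = c' - c := by rw [eq_sub_iff_add_eq, ← u, ← map_add, add_comm, ← b, hU]
    exact ⟨by rw [u, e, hU], by rw [d, map_sub, S0 c' hc', e, b, show c' - (c + c') = -c by abel, map_neg, u]⟩
  obtain ⟨c, hc, c', hc', rfl⟩ := hs v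
  obtain ⟨d', hd', e⟩ := h1 c hc
  obtain ⟨d, hd, e'⟩ := h2 c' hc'
  simp only [map_add, map_neg, k c hc d' hd' e, k d hd c' hc' e', neg_add]

theorem dc3_quot {Ω : Type u} [Group Ω] {E B M L Top : Subgroup Ω} {G : Subgroup (MulAut E)} (s : Sec G B M L Top) :
    ∃ (V : Type u) (_ : AddCommGroup V) (π : Ω → V) (ρ : MulAut E → V →+ V),
    (∀ y ∈ E, y ∈ L → ∀ y' ∈ E, y' ∈ L → π (y * y') = π y + π y') ∧ (∀ y ∈ E, y ∈ L → π y⁻¹ = -π y) ∧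
    (∀ y ∈ E, y ∈ L → (π y = 0 ↔ y ∈ M)) ∧ (∀ v, ∃ y ∈ E, y ∈ L ∧ π y = v) ∧
    (∀ α ∈ G, ∀ y ∈ E, y ∈ L → ρ α (π y) = π (afn α y)) ∧ (∀ α ∈ G, ∀ β ∈ G, ∀ v, ρ (α * β) v = ρ α (ρ β v)) ∧
    ∀ v, ρ 1 v = v := by
  classical
  have nN : (M.subgroupOf (E ⊓ L)).Normal := ⟨fun n hn a => by
    have := mul_mem (s.ab a a.2.1 a.2.2 n n.2.1 n.2.2) (mem_subgroupOf.1 hn)
    rw [cm, inv_mul_cancel_right] at this
    exact this⟩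
  let _ : CommGroup ((E ⊓ L :) ⧸ M.subgroupOf (E ⊓ L)) :=
    { QuotientGroup.Quotient.group _ with
      mul_comm := by
        rintro ⟨a⟩ ⟨b⟩
        refine QuotientGroup.eq.2 (mem_subgroupOf.2 ?_)
        have := s.ab _ b⁻¹.2.1 b⁻¹.2.2 _ a⁻¹.2.1 a⁻¹.2.2
        simpa [cm, mul_assoc] using this }
  let π : Ω → Additive ((E ⊓ L :) ⧸ M.subgroupOf (E ⊓ L)) := fun y =>
    if h : y ∈ E ⊓ L then Additive.ofMul (QuotientGroup.mk ⟨y, h⟩) else 0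
  have e : ∀ y (h : y ∈ E) (h' : y ∈ L), π y = Additive.ofMul (QuotientGroup.mk ⟨y, h, h'⟩) :=
    fun y h h' => dif_pos (show y ∈ E ⊓ L from ⟨h, h'⟩)
  have sj : ∀ v, ∃ y ∈ E, y ∈ L ∧ π y = v := by
    rintro ⟨y⟩
    exact ⟨y, y.2.1, y.2.2, e _ y.2.1 y.2.2⟩
  have : ∀ α ∈ G, ∃ r : _ →+ _, ∀ y ∈ E, y ∈ L → r (π y) = π (afn α y) := fun α hα => by
    let f : (E ⊓ L :) →* (E ⊓ L :) := MonoidHom.mk' (fun y => ⟨afn α y, afn_mem α y.2.1, s.iL α hα y y.2.1 y.2.2⟩)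
      fun a b => Subtype.ext (afn_map_mul α a.2.1 b.2.1)
    refine ⟨MonoidHom.toAdditive (QuotientGroup.map _ _ f fun y hy => s.iM α hα y y.2.1 hy), fun y h h' => ?_⟩
    rw [e y h h', e _ (afn_mem α h) (s.iL α hα y h h')]
    rfl
  choose! ρ hρ using this
  refine ⟨_, inferInstance, π, ρ, fun y h h' z k k' => ?_, fun y h h' => ?_, fun y h h' => ?_, sj, hρ,
    fun α hα β hβ v => ?_, fun v => ?_⟩
  · rw [e y h h', e z k k', e _ (mul_mem h k) (mul_mem h' k')]; rfl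
  · rw [e y h h', e _ (inv_mem h) (inv_mem h')]; rfl
  · rw [e y h h']
    exact QuotientGroup.eq_one_iff (N := M.subgroupOf (E ⊓ L)) _
  · obtain ⟨y, h, h', rfl⟩ := sj v
    rw [hρ _ (mul_mem hα hβ) y h h', hρ β hβ y h h', hρ α hα _ (afn_mem β h) (s.iL β hβ y h h'), afn_mul _ _ h]
  · obtain ⟨y, h, h', rfl⟩ := sj v
    rw [hρ _ (one_mem G) y h h', afn_one]

variable {Ω : Type*} [Group Ω] [Finite Ω] {E B M L Top : Subgroup Ω} {p : ℕ} [Fact p.Prime] {G M₀ : Subgroup (MulAut E)}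

/-- The automorphisms trivial on `M` and on `Top / L`. -/
def dc3K (s : Sec G B M L Top) : Subgroup (MulAut E) where
  carrier := {α | α ∈ G ∧ (∀ y ∈ E, y ∈ M → afn α y = y) ∧ ∀ y ∈ E, y ∈ Top → y⁻¹ * afn α y ∈ L}
  one_mem' := ⟨one_mem _, fun y _ _ => afn_one y, fun y _ _ => by rw [afn_one, inv_mul_cancel]; exact one_mem _⟩
  mul_mem' {α β} hα hβ := ⟨mul_mem hα.1 hβ.1, fun y h h' => by rw [afn_mul _ _ h, hβ.2.1 y h h', hα.2.1 y h h'],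
    fun y h h' => by
      rw [afn_mul _ _ h, ← mul_inv_cancel_left (afn β y) (afn α _), ← mul_assoc]
      exact mul_mem (hβ.2.2 y h h') (hα.2.2 _ (afn_mem β h) (s.iT β hβ.1 y h h'))⟩
  inv_mem' {α} hα := ⟨inv_mem hα.1, fun y h h' => by rw [← hα.2.1 y h h', afn_inv_afn α h, hα.2.1 y h h'],
    fun y h h' => by
      have := inv_mem (hα.2.2 _ (afn_mem α⁻¹ h) (s.iT _ (inv_mem hα.1) y h h'))
      rwa [afn_afn_inv _ h, mul_inv_rev, inv_inv] at this⟩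

theorem dc3K_conj (s : Sec G B M L Top) {α γ : MulAut E} (hγ : γ ∈ G) (hα : α ∈ dc3K s) : γ * α * γ⁻¹ ∈ dc3K s := by
  refine ⟨mul_mem (mul_mem hγ hα.1) (inv_mem hγ), fun y h h' => ?_, fun y h h' => ?_⟩
  · rw [afn_mul _ _ h, afn_mul _ _ (afn_mem _ h), hα.2.1 _ (afn_mem _ h) (s.iM _ (inv_mem hγ) y h h'), afn_afn_inv _ h]
  · have k := afn_mem γ⁻¹ h
    have := s.iL γ hγ _ (mul_mem (inv_mem k) (afn_mem α k)) (hα.2.2 _ k (s.iT _ (inv_mem hγ) y h h'))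
    rwa [afn_dv _ k (afn_mem α k), afn_afn_inv _ h, ← afn_mul _ _ k, ← afn_mul _ _ h] at this

theorem dc3K_ind (h : Dc p E G M₀) (s : Sec G B M L Top) {t : MulAut E} {b : Ω} (hb : b ∈ B) (ht : t ∈ G) (e : Ind t b) :
    t ∈ dc3K s := by
  refine ⟨ht, fun y k k' => by rw [e y k, s.h0 b hb y k k', mul_inv_cancel_right], fun y k k' => ?_⟩
  have := h.conj_mem s.iL (x := y⁻¹) (fun z hz => mul_mem (mul_mem (inv_mem k) hz) (inv_mem (inv_mem k)))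
    (mul_mem (s.nm b hb y k) (inv_mem k)) (s.h2 b hb y k k')
  rwa [inv_inv, mul_assoc, inv_mul_cancel_right, ← e y k] at this

namespace Dc

/-- PROOF.  Notation of `Dc2`, `β` from `spread`, `C' = β C`.  Fix `v ∈ L ⊓ E \ C` (exists: `m0`, `nle`).  By `hH` and `hE` every `c ∈ C \ M`
is `cm b v` modulo `M` with `b ∈ B \ E`; so `C ⊓ γ C = M ⊓ E` for `γ ∈ G \ M₀` (third item of `spread`) and `m C ≤ C` for `m ∈ M₀` (last
item), also for `m⁻¹`.  Let `b₀ ∈ B \ E`, `s = β (t b₀) β⁻¹ ∈ G \ M₀` (`ti` for `β⁻¹`); `s` is trivial on `M`, `C' / M`, `L / C'`, `Top / L`.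
There is `b ∈ B` with `m = s⁻¹ (t b) β ∈ M₀`, so `s C = (t b) C'`.  Work in the abelian group `L ⊓ E / M ⊓ E = C ⊕ C'` (a quotient type, or
congruences): `t b = 1 + φ`, `s = 1 + ψ`, `φ C = 0`, `φ L ≤ C`, `ψ C' = 0`, `ψ L ≤ C'`.  `s C ≤ (t b) C'` gives `φ ψ c = c` on `C`,
`(t b) C' ≤ s C` gives `ψ φ c' = c'` on `C'`.  With `u = (t b)⁻¹ = 1 - φ`, `w = u s u` maps `c ↦ ψ c`, `c' ↦ -φ c'`; `j = w * w`. -/
theorem exists_j (h : Dc p E G M₀) (s : Sec G B M L Top) (f : Ω → Ω) (f1 : ∀ y ∈ E, y ∈ L → f y ∈ B)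
    (f2 : ∀ y ∈ E, y ∈ L → ∀ y' ∈ E, y' ∈ L → (f y)⁻¹ * f y' ∈ E → ∀ b ∈ B, cm b (y⁻¹ * y') ∈ M)
    (hE : ∀ b ∈ B, b ∈ E → ∀ y ∈ E, y ∈ L → cm b y ∈ M)
    (hH : ∀ v ∈ E, v ∈ L → ¬ Cq E B M L v → ∀ c, Cq E B M L c → ∃ b ∈ B, (cm b v)⁻¹ * c ∈ M) :
    ∃ j ∈ G, (∀ y ∈ E, y ∈ M → afn j y = y) ∧ (∀ y ∈ E, y ∈ L → afn j y * y ∈ M) ∧
      ∀ y ∈ E, y ∈ Top → y⁻¹ * afn j y ∈ L := by
  obtain ⟨V, _, π, ρ, pm, pi, p0, ps, r1, rm, r0⟩ := dc3_quot s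
  obtain ⟨-, β, hβ, nβ, s2, s3, s4, s5⟩ := h.spread s f f1 f2
  obtain ⟨v, vE, vL, hv⟩ := h.m0 s
  have nv : ¬ Cq E B M L v := fun k => s.nle fun b hb => hv b hb (k.2.2 b hb)
  have ri : ∀ α ∈ G, ∀ w, ρ α⁻¹ (ρ α w) = w := fun α hα w => by rw [← rm _ (inv_mem hα) _ hα, inv_mul_cancel, r0]
  have ri' : ∀ α ∈ G, ∀ w, ρ α (ρ α⁻¹ w) = w := fun α hα w => by rw [← rm _ hα _ (inv_mem hα), mul_inv_cancel, r0]
  have pc : ∀ t ∈ G, ∀ b, Ind t b → ∀ y ∈ E, y ∈ L → cm b y ∈ E ∧ cm b y ∈ L ∧ π (cm b y) = ρ t (π y) - π y :=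
    fun t ht b e y k k' => by
    rw [cm, ← e y k, pm _ (afn_mem t k) (s.iL t ht y k k') _ (inv_mem k) (inv_mem k'), pi y k k', r1 t ht y k k',
      sub_eq_add_neg]
    exact ⟨mul_mem (afn_mem t k) (inv_mem k), mul_mem (s.iL t ht y k k') (inv_mem k'), rfl⟩
  let C : AddSubgroup V :=
    { carrier := {w | ∀ t ∈ G, ∀ b ∈ B, Ind t b → ρ t w = w}
      zero_mem' := fun t _ _ _ _ => map_zero _
      add_mem' := fun hw hw' t ht b hb e => by rw [map_add, hw t ht b hb e, hw' t ht b hb e]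
      neg_mem' := fun hw t ht b hb e => by rw [map_neg, hw t ht b hb e] }
  have hC : ∀ y ∈ E, y ∈ L → (π y ∈ C ↔ Cq E B M L y) := fun y k k' => ⟨fun w => ⟨k, k', fun b hb => by
      obtain ⟨t, ht, e⟩ := h.ind b (s.nm b hb)
      obtain ⟨a1, a2, a3⟩ := pc t (h.le ht) b e y k k'
      rw [← p0 _ a1 a2, a3, w t (h.le ht) b hb e, sub_self]⟩, fun w t ht b hb e => by
      obtain ⟨a1, a2, a3⟩ := pc t ht b e y k k'
      rw [← sub_eq_zero, ← a3, p0 _ a1 a2]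
      exact w.2.2 b hb⟩
  have T1 : ∀ t ∈ G, ∀ b ∈ B, Ind t b → ∀ w, ρ t w - w ∈ C := fun t ht b hb e w => by
    obtain ⟨y, k, k', rfl⟩ := ps w
    obtain ⟨a1, a2, a3⟩ := pc t ht b e y k k'
    rw [← a3, hC _ a1 a2]
    exact ⟨a1, a2, fun b' hb' => s.h1 b hb b' hb' y k k'⟩
  have hb : ∀ c ∈ C, c = 0 ∨ ∃ b ∈ B, b ∉ E ∧ cm b v ∈ E ∧ cm b v ∈ L ∧ c = π (cm b v) := fun c hc => by
    obtain ⟨y, k, k', rfl⟩ := ps c
    obtain ⟨b, hb, e⟩ := hH v vE vL nv y ((hC y k k').1 hc)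
    obtain ⟨t, ht, e'⟩ := h.ind b (s.nm b hb)
    obtain ⟨a1, a2, -⟩ := pc t (h.le ht) b e' v vE vL
    rw [← p0 _ (mul_mem (inv_mem a1) k) (mul_mem (inv_mem a2) k'), pm _ (inv_mem a1) (inv_mem a2) _ k k', pi _ a1 a2,
      neg_add_eq_zero] at e
    by_cases bE : b ∈ E
    · exact .inl (e ▸ (p0 _ a1 a2).2 (hE b hb bE v vE vL))
    · exact .inr ⟨b, hb, bE, a1, a2, e.symm⟩
  have hm : ∀ m ∈ M₀, ∀ c ∈ C, ρ m c ∈ C := fun m hm c hc => by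
    rcases hb c hc with rfl | ⟨b, hb, bE, a1, a2, rfl⟩
    · rwa [map_zero]
    · rw [r1 m (h.le hm) _ a1 a2, hC _ (afn_mem m a1) (s.iL m (h.le hm) _ a1 a2)]
      exact s5 m hm b hb bE v vE vL
  obtain ⟨b₀, hb₀, nb₀⟩ := SetLike.not_le_iff_exists.1 s.nle
  obtain ⟨t₀, ht₀, e₀⟩ := h.ind b₀ (s.nm b₀ hb₀)
  have sK := dc3K_conj s hβ (dc3K_ind h s hb₀ (h.le ht₀) e₀)
  obtain ⟨b, hbB, e⟩ := s4 _ sK.1 (by
    simpa only [inv_inv] using h.ti β⁻¹ (inv_mem hβ) (fun k => nβ (inv_mem_iff.1 k)) t₀ b₀ nb₀ e₀)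
  obtain ⟨t, ht, et⟩ := h.ind b (s.nm b hbB)
  have tK := dc3K_ind h s hbB (h.le ht) et
  have m0 := e t et
  have rs : ∀ w, ρ (β * t₀ * β⁻¹) w = ρ β (ρ t₀ (ρ β⁻¹ w)) := fun w => by
    rw [rm _ (mul_mem hβ (h.le ht₀)) _ (inv_mem hβ), rm _ hβ _ (h.le ht₀)]
  have wK := mul_mem (mul_mem (inv_mem tK) sK) (inv_mem tK)
  refine ⟨_, (mul_mem wK wK).1, (mul_mem wK wK).2.1, fun y k k' => ?_, (mul_mem wK wK).2.2⟩
  have key := dc3_abs (C := C) (C' := C.comap (ρ β⁻¹)) (S := ρ (β * t₀ * β⁻¹)) (ri t tK.1)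
    (fun c hc => hc t tK.1 b hbB et) (T1 t tK.1 b hbB et)
    (fun c hc => by rw [rs, hc t₀ (h.le ht₀) b₀ hb₀ e₀, ri' β hβ])
    (fun w => by
      rw [AddSubgroup.mem_comap, map_sub, rs, ri β hβ]
      exact T1 t₀ (h.le ht₀) b₀ hb₀ e₀ _)
    (fun c hc hc' => by
      rcases hb c hc with rfl | ⟨b, hb, bE, a1, a2, rfl⟩
      · rfl
      · rw [AddSubgroup.mem_comap, r1 _ (inv_mem hβ) _ a1 a2,
          hC _ (afn_mem _ a1) (s.iL _ (inv_mem hβ) _ a1 a2)] at hc'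
        exact absurd (s3 β hβ nβ v vE vL nv b hb hc') bE)
    (fun w => by
      obtain ⟨y, k, k', rfl⟩ := ps w
      obtain ⟨c, d, hc, hd, rfl⟩ := s2 β hβ nβ y k k'
      refine ⟨π c, (hC c hc.1 hc.2.1).2 hc, π (afn β d), ?_,
        pm _ hc.1 hc.2.1 _ (afn_mem β hd.1) (s.iL β hβ _ hd.1 hd.2.1)⟩
      rw [AddSubgroup.mem_comap, ← r1 β hβ d hd.1 hd.2.1, ri β hβ]
      exact (hC d hd.1 hd.2.1).2 hd)
    (fun c hc => ⟨ρ β (ρ ((β * t₀ * β⁻¹)⁻¹ * t * β)⁻¹ c), by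
      rw [AddSubgroup.mem_comap, ri β hβ]
      exact hm _ (inv_mem m0) c hc, by
      rw [← rm _ hβ _ (h.le (inv_mem m0)), ← rm _ tK.1 _ (mul_mem hβ (h.le (inv_mem m0)))]
      congr 2
      group⟩)
    (fun c hc => ⟨ρ ((β * t₀ * β⁻¹)⁻¹ * t * β) (ρ β⁻¹ c), hm _ m0 _ hc, by
      rw [← rm _ (h.le m0) _ (inv_mem hβ), ← rm _ sK.1 _ (mul_mem (h.le m0) (inv_mem hβ))]
      congr 2
      group⟩) (π y)
  have rw' : ∀ w, ρ (t⁻¹ * (β * t₀ * β⁻¹) * t⁻¹) w = ρ t⁻¹ (ρ (β * t₀ * β⁻¹) (ρ t⁻¹ w)) := fun w => by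
    rw [rm _ (mul_mem (inv_mem tK.1) sK.1) _ (inv_mem tK.1), rm _ (inv_mem tK.1) _ sK.1]
  have jL := s.iL _ (mul_mem wK wK).1 y k k'
  rw [← p0 _ (mul_mem (afn_mem _ k) k) (mul_mem jL k'), pm _ (afn_mem _ k) jL _ k k', ← r1 _ (mul_mem wK wK).1 y k k',
    rm _ wK.1 _ wK.1, rw', rw', key, neg_add_cancel]

/-- PROOF.  `j` from `exists_j`, `t` induced by `x`.  `κ = t⁻¹ * j * t * j⁻¹` is trivial on `M`, `L / M` (`j` inverts this abelian section and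
`t` acts on it), `Top / L`; `inn` with `l = [M, L]` gives `g ∈ E` with `j t j⁻¹ = t * conj g`, induced by `x g`.  For `y ∈ C`:
`y₁ = j⁻¹ y = y⁻¹ m` with `m ∈ M` (centralised by `x`, fixed by `j`), `x y₁ x⁻¹ = cm x y⁻¹ * y₁`, `cm x y⁻¹ = y⁻¹ (cm x y)⁻¹ y = (cm x y)⁻¹` by
the last hypothesis; apply `j`: `(x g) y (x g)⁻¹ = (cm x y)⁻¹ * y`. -/
theorem jj (h : Dc p E G M₀) (s : Sec G B M L Top) (f : Ω → Ω) (f1 : ∀ y ∈ E, y ∈ L → f y ∈ B)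
    (f2 : ∀ y ∈ E, y ∈ L → ∀ y' ∈ E, y' ∈ L → (f y)⁻¹ * f y' ∈ E → ∀ b ∈ B, cm b (y⁻¹ * y') ∈ M)
    (hE : ∀ b ∈ B, b ∈ E → ∀ y ∈ E, y ∈ L → cm b y ∈ M)
    (hH : ∀ v ∈ E, v ∈ L → ¬ Cq E B M L v → ∀ c, Cq E B M L c → ∃ b ∈ B, (cm b v)⁻¹ * c ∈ M)
    {x : Ω} (hx : x ∈ B) : ∃ g ∈ E, ∀ y, Cq E B M L y → (∀ m ∈ E, m ∈ M → y * m = m * y) → cm (x * g) y = (cm x y)⁻¹ := by
  obtain ⟨j, jG, j0, j1, j2⟩ := h.exists_j s f f1 f2 hE hH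
  obtain ⟨V, _, π, ρ, pm, pi, p0, ps, r1, rm, r0⟩ := dc3_quot s
  obtain ⟨t, ht, et⟩ := h.ind x (s.nm x hx)
  have tK := dc3K_ind h s hx (h.le ht) et
  have κK := mul_mem (inv_mem tK) (dc3K_conj s jG tK)
  have rj : ∀ w, ρ j w = -w := fun w => by
    obtain ⟨y, k, k', rfl⟩ := ps w
    have jL := s.iL j jG y k k'
    rw [eq_neg_iff_add_eq_zero, r1 j jG y k k', ← pm _ (afn_mem _ k) jL _ k k', p0 _ (mul_mem (afn_mem _ k) k) (mul_mem jL k')]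
    exact j1 y k k'
  have rj' : ∀ w, ρ j⁻¹ w = -w := fun w => by
    rw [← neg_inj, ← rj, ← rm _ jG _ (inv_mem jG), mul_inv_cancel, r0, neg_neg]
  obtain ⟨g, gE, hg⟩ := mem_Inn.1 (h.inn s.iT s.top [M, L] (fun i => by
      rcases i with _ | _ | i
      exacts [s.iM, s.iL, fun _ _ _ _ _ => trivial]) κK.1 fun i y k k' k'' => by
    rcases i with _ | _ | _ | i
    · exact mem_bot.2 (by rw [κK.2.1 y k k'', inv_mul_cancel])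
    · have kL := s.iL _ κK.1 y k k''
      refine (p0 _ (mul_mem (inv_mem k) (afn_mem _ k)) (mul_mem (inv_mem k'') kL)).1 ?_
      rw [pm _ (inv_mem k) (inv_mem k'') _ (afn_mem _ k) kL, pi y k k'', ← r1 _ κK.1 y k k'',
        rm _ (inv_mem tK.1) _ (dc3K_conj s jG tK).1, rm _ (mul_mem jG tK.1) _ (inv_mem jG), rm _ jG _ tK.1, rj, rj',
        map_neg (ρ t), neg_neg, ← rm _ (inv_mem tK.1) _ tK.1, inv_mul_cancel, r0, neg_add_cancel]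
    · exact κK.2.2 y k k'
    · trivial)
  refine ⟨g, gE, fun y hy hc => ?_⟩
  have y1 := afn_mem j⁻¹ hy.1
  have mM := j1 _ y1 (s.iL _ (inv_mem jG) y hy.1 hy.2.1)
  rw [afn_afn_inv _ hy.1] at mM
  have nE : cm x y ∈ E := mul_mem (s.nm x hx y hy.1) (inv_mem hy.1)
  have nM := hy.2.2 x hx
  have e1 : x * afn j⁻¹ y * x⁻¹ = (cm x y)⁻¹ * afn j⁻¹ y := by
    calc _ = (cm x y * y)⁻¹ * (x * (y * afn j⁻¹ y) * x⁻¹) := by rw [cm]; group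
      _ = _ := by rw [s.h0 x hx _ (mul_mem hy.1 y1) mM, ← hc _ nE nM]; group
  have e2 := congrArg (afn t) (hg y hy.1)
  rw [← afn_mul _ _ hy.1, mul_inv_cancel_left, afn_mul _ _ hy.1, afn_mul _ _ y1, et _ y1, e1,
    afn_dv _ nE y1, j0 _ nE nM, afn_afn_inv _ hy.1, et _ (mul_mem (mul_mem gE hy.1) (inv_mem gE))] at e2
  rw [← mul_inv_cancel_right (cm x y)⁻¹ y, e2, cm]
  group

end Dc

end Cfsg.Agent.D4F
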