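import Cfsg.Agent.D4F.U
import Cfsg.Agent.U5F.Gen

/-!
Fusion systems on the Sylow `p`-subgroup of `³D₄(q)`: the automizers of `S`, `Q`, `R` (`SA`, `Lc`, `Tn`, `Ker`, `St` are in `U5F/Gen`).

`tf r s f` (`r : Kˣ`, `s : ku K`, value `kv s`, simp set `UV`) applies the field automorphism `f` and then scales `a` by `r`, `b` by `s ∈ k` (`c` by `r s`, `d` by `χ r s`, `e` by `N r s`,
`z` by `N r s²`); `ha t`, `hb s` are the tori of `SL₂(q³)`, `SL₂(q)`; `rQ φ`, `rR φ` are the restrictions, `cQ g`, `cR g` the restricted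
conjugations `x ↦ g x g⁻¹`, `ωQ`, `ψR` the two reflections.  `OQ`, `OR` are the kernels of the actions on `Q/Z1` (coordinates
`b c d e`) and `R/Z3` (coordinates `a c`).
-/

set_option autoImplicit false
set_option linter.unusedSectionVars false
set_option linter.unusedSimpArgs false
set_option linter.unnecessarySeqFocus false
set_option linter.unusedVariables false

namespace Cfsg.Agent.D4F

open Subgroup Cfsg.Agent.RFS Cfsg.Agent.U5F Cfsg.Agent.Fus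

variable {K : Type*} [Field K] [Tri K]

theorem θ1 : θ (1 : K) = 1 := map_one θ

theorem mem_Z4_of_cm {y : U K} (h : ∀ g, (cm y g).c = 0) : y ∈ Z4 := by
  have a := h (Xa 1)
  have b := h (Xb 1 θ1)
  simp only [cm_c, UC, neg_eq_zero] at a b
  exact ⟨b, a⟩

theorem mem_Z3_of_cm {y : U K} (h : ∀ g, cm y g ∈ Z2) : y ∈ Z3 := by
  have h4 := mem_Z4_of_cm fun g => (h g).2.2.1
  refine ⟨h4.1, h4.2, eq_zero_of_B fun s => ?_⟩
  have a := (cm_comm (h (Xa s))).2.2.2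
  rw [cm_d4 _ h4, neg_eq_zero, B_comm] at a
  exact a

theorem mem_Z2_of_cm {y : U K} (h : ∀ g, cm y g ∈ Z1) : y ∈ Z2 := by
  have h3 := mem_Z3_of_cm fun g => Z1_le_Z2 (h g)
  refine ⟨h3.1, h3.2.1, h3.2.2, eq_zero_of_T fun s => ?_⟩
  have a := (cm_comm (h (Xa s))).2.2.2.2
  rw [cm_e3 _ h3, mul_comm] at a
  exact a

theorem mem_Z1_of_Q {y : U K} (hy : y ∈ Qs) (h : ∀ g ∈ Qs, y * g = g * y) : y ∈ Z1 := by
  have k : ∀ g ∈ Qs, sf y g = 0 := fun g hg => by rw [← cm_zQ hy hg, cm_eq_one.2 (h g hg)]; rfl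
  refine ⟨hy, ?_, eq_zero_of_T fun s => ?_, eq_zero_of_T fun s => ?_, ?_⟩
  · simpa only [sf, UC] using k (Xe 1 θ1) rfl
  · simpa only [sf, UC] using k (Xd s) rfl
  · simpa only [sf, UC, neg_eq_zero, mul_comm s] using k (Xc s) rfl
  · simpa only [sf, UC, neg_eq_zero] using k (Xb 1 θ1) rfl

theorem mem_Z3_of_R {y : U K} (hy : y ∈ Rs) (h : ∀ g ∈ Rs, (cm y g).d = 0) : y ∈ Z3 := by
  refine ⟨eq_zero_of_B fun s => ?_, hy, eq_zero_of_B fun s => ?_⟩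
  · simpa only [cm_dR hy (h := Xc s) rfl, UC, neg_eq_zero] using h (Xc s) rfl
  · simpa only [cm_dR hy (h := Xa s) rfl, UC, B_comm s] using h (Xa s) rfl

theorem mem_Z2_of_R {y : U K} (hy : y ∈ Rs) (h : ∀ g ∈ Rs, y * g = g * y) : y ∈ Z2 := by
  have h3 := mem_Z3_of_R hy fun g hg => by rw [cm_eq_one.2 (h g hg)]; rfl
  refine ⟨h3.1, h3.2.1, h3.2.2, eq_zero_of_T fun s => ?_⟩
  have a := cm_e3 (Xa s) h3
  rw [cm_eq_one.2 (h _ rfl).symm, mul_comm] at a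
  exact a.symm

instance chr_Z1 : (Z1 : Subgroup (U K)).Characteristic := char_of_cm (L := ⊤) (M := ⊥) fun y => by
  simp only [mem_bot, cm_eq_one]
  refine ⟨fun h g _ => (com_Z1 g h).symm, fun h => mem_Z1_of_Q ?_ fun g _ => h g trivial⟩
  exact (mem_Z2_of_cm fun g => by rw [cm_eq_one.2 (h g trivial)]; exact one_mem _).1

instance chr_Z2 : (Z2 : Subgroup (U K)).Characteristic := char_of_cm (L := ⊤) (M := Z1) fun _ =>
  ⟨fun h g _ => cm_comm (cm_S_Z2 g h), fun h => mem_Z2_of_cm fun g => h g trivial⟩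

instance chr_Z3 : (Z3 : Subgroup (U K)).Characteristic := char_of_cm (L := ⊤) (M := Z2) fun _ =>
  ⟨fun h g _ => cm_comm (cm_S_Z3 g h), fun h => mem_Z3_of_cm fun g => h g trivial⟩

instance chr_Z4 : (Z4 : Subgroup (U K)).Characteristic := char_of_cm (L := ⊤) (M := Z3) fun _ =>
  ⟨fun h g _ => cm_comm (cm_S_Z4 g h), fun h => mem_Z4_of_cm fun g => (h g trivial).2.2⟩

instance chr_Rs : (Rs : Subgroup (U K)).Characteristic := char_of_cm (L := Z2) (M := ⊥) fun y =>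
  ⟨fun h _ hg => cm_eq_one.2 (com_Z2 h hg), fun h => by
    have := cm_z2 y (n := Xe 1 θ1) ⟨rfl, rfl, rfl, rfl⟩
    rw [mem_bot.1 (h _ ⟨rfl, rfl, rfl, rfl⟩)] at this
    simpa only [UC, mem_Rs] using this.symm⟩

instance chr_Qs : (Qs : Subgroup (U K)).Characteristic := char_of_cm (L := Z3) (M := Z1) fun y =>
  ⟨fun h _ hg => cm_Qs_Qs h hg.1, fun h => eq_zero_of_T fun s =>
    (cm_e3 y (n := Xd s) ⟨rfl, rfl, rfl⟩).symm.trans (h _ ⟨rfl, rfl, rfl⟩).2.2.2.2⟩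

theorem chQ_Z1 : Ch (Qs : Subgroup (U K)) Z1 := Ch.top.of_cen fun _ hy =>
  ⟨fun h g _ _ => (com_Z1 g h).symm, fun h => mem_Z1_of_Q hy fun g hg => h g hg trivial⟩

theorem chR_Z2 : Ch (Rs : Subgroup (U K)) Z2 := Ch.top.of_cen fun _ hy =>
  ⟨fun h _ hg _ => (com_Z2 hg h).symm, fun h => mem_Z2_of_R hy fun g hg => h g hg trivial⟩

theorem chR_Z3 : Ch (Rs : Subgroup (U K)) Z3 := Ch.top.of_cm chR_Z2 fun _ hy =>
  ⟨fun h g _ _ => cm_comm (cm_S_Z3 g h), fun h => mem_Z3_of_R hy fun g hg => (h g hg trivial).2.2.2⟩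

/-- The kernel of the action on `Q / Z1`. -/
def OQ (K : Type*) [Field K] [Tri K] : Subgroup (MulAut (Qs : Subgroup (U K))) := Ker Qs Z1 chQ_Z1

/-- The kernel of the action on `R / Z3`. -/
def OR (K : Type*) [Field K] [Tri K] : Subgroup (MulAut (Rs : Subgroup (U K))) := Ker Rs Z3 chR_Z3

instance : (OQ K).Normal := Ker.normal _ _ _
instance : (OR K).Normal := Ker.normal _ _ _

theorem dv_Z1 {u v : U K} (hu : u ∈ Qs) (hv : v ∈ Qs) :
    u⁻¹ * v ∈ Z1 ↔ v.b = u.b ∧ v.c = u.c ∧ v.d = u.d ∧ v.e = u.e := by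
  simp only [mem_Z1, UC, mem_Qs.1 hu, mem_Qs.1 hv]
  grind

theorem dv_Z3 {u v : U K} (hu : u ∈ Rs) (hv : v ∈ Rs) : u⁻¹ * v ∈ Z3 ↔ v.a = u.a ∧ v.c = u.c := by
  simp only [mem_Z3, UC, mem_Rs.1 hu, mem_Rs.1 hv]
  grind

theorem dv_Z4 {u v : U K} : u⁻¹ * v ∈ Z4 ↔ v.a = u.a ∧ v.b = u.b := by
  simp only [mem_Z4, UC]
  grind

theorem dv_Z2 {u v : U K} (hu : u ∈ Z3) (hv : v ∈ Z3) : u⁻¹ * v ∈ Z2 ↔ v.d = u.d := by
  simp only [mem_Z2, UC, hu.1, hu.2.1, hu.2.2, hv.1, hv.2.1, hv.2.2]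
  grind

theorem mem_OQ {α : MulAut (Qs : Subgroup (U K))} : α ∈ OQ K ↔
    ∀ x ∈ Qs, (afn α x).b = x.b ∧ (afn α x).c = x.c ∧ (afn α x).d = x.d ∧ (afn α x).e = x.e :=
  forall₂_congr fun _ hx => dv_Z1 hx (afn_mem α hx)

theorem mem_OR {α : MulAut (Rs : Subgroup (U K))} : α ∈ OR K ↔ ∀ x ∈ Rs, (afn α x).a = x.a ∧ (afn α x).c = x.c :=
  forall₂_congr fun _ hx => dv_Z3 hx (afn_mem α hx)

/-- The coordinates of `α u` modulo `Z1` depend only on those of `u`. -/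
theorem congQ (α : MulAut (Qs : Subgroup (U K))) {u v : U K} (hu : u ∈ Qs) (hv : v ∈ Qs)
    (h : v.b = u.b ∧ v.c = u.c ∧ v.d = u.d ∧ v.e = u.e) :
    (afn α v).b = (afn α u).b ∧ (afn α v).c = (afn α u).c ∧ (afn α v).d = (afn α u).d ∧ (afn α v).e = (afn α u).e := by
  rw [← dv_Z1 (afn_mem α hu) (afn_mem α hv), ← afn_dv α hu hv]
  exact chQ_Z1 α _ (mul_mem (inv_mem hu) hv) ((dv_Z1 hu hv).2 h)

theorem congR (α : MulAut (Rs : Subgroup (U K))) {u v : U K} (hu : u ∈ Rs) (hv : v ∈ Rs) (h : v.a = u.a ∧ v.c = u.c) :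
    (afn α v).a = (afn α u).a ∧ (afn α v).c = (afn α u).c := by
  rw [← dv_Z3 (afn_mem α hu) (afn_mem α hv), ← afn_dv α hu hv]
  exact chR_Z3 α _ (mul_mem (inv_mem hu) hv) ((dv_Z3 hu hv).2 h)

/-- Restriction to `Q`. -/
abbrev rQ : MulAut (U K) →* MulAut (Qs : Subgroup (U K)) := MulAut.characteristic Qs
/-- Restriction to `R`. -/
abbrev rR : MulAut (U K) →* MulAut (Rs : Subgroup (U K)) := MulAut.characteristic Rs
/-- Conjugation on `Q`. -/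
abbrev cQ (g : U K) : MulAut (Qs : Subgroup (U K)) := rQ (MulAut.conj g)
/-- Conjugation on `R`. -/
abbrev cR (g : U K) : MulAut (Rs : Subgroup (U K)) := rR (MulAut.conj g)

theorem afn_cQ (g : U K) {x : U K} (hx : x ∈ Qs) : afn (cQ g) x = g * x * g⁻¹ := afn_res _ hx
theorem afn_cR (g : U K) {x : U K} (hx : x ∈ Rs) : afn (cR g) x = g * x * g⁻¹ := afn_res _ hx

/-- The action of `S` on `Q / Z1`. -/
theorem cjQ (g : U K) {u : U K} (hu : u ∈ Qs) : (afn (cQ g) u).b = u.b ∧ (afn (cQ g) u).c = u.c - u.b * g.a ∧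
    (afn (cQ g) u).d = u.d + χ g.a * u.b - B g.a u.c ∧
    (afn (cQ g) u).e = u.e + N g.a * u.b - T (χ g.a * u.c) + T (g.a * u.d) := by
  rw [afn_cQ g hu]
  simp only [UE, mem_Qs.1 hu]
  exact ⟨by ring, by ring, by ring, by ring⟩

/-- The action of `S` on `R / Z3`. -/
theorem cjR (g : U K) {u : U K} (hu : u ∈ Rs) : (afn (cR g) u).a = u.a ∧ (afn (cR g) u).c = u.c + g.b * u.a := by
  rw [afn_cR g hu]
  simp only [UC, mem_Rs.1 hu]
  exact ⟨by ring, by ring⟩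

/-- The action of `S` on `Z2 = Z(R)`. -/
theorem cjZ (g : U K) {u : U K} (hu : u ∈ Z2) : (g * u * g⁻¹).e = u.e ∧ (g * u * g⁻¹).z = u.z + g.b * u.e := by
  rw [mem_Z2] at hu
  simp only [UE, hu]
  exact ⟨by ring, by ring⟩

theorem cQ_Z1 (g : U K) {z : U K} (hz : z ∈ Z1) : afn (cQ g) z = z := by
  rw [afn_cQ g hz.1, com_Z1 g hz, mul_inv_cancel_right]

theorem fT (f : K ≃+* K) (t : K) : f (T t) = T (f t) := by simp only [T, map_add, fθ]
theorem fN (f : K ≃+* K) (t : K) : f (N t) = N (f t) := by simp only [N, map_mul, fθ]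
theorem fχ (f : K ≃+* K) (t : K) : f (χ t) = χ (f t) := by simp only [χ, map_mul, fθ]
theorem fB (f : K ≃+* K) (s t : K) : f (B s t) = B (f s) (f t) := by simp only [B, map_add, map_mul, fθ]
theorem θf (f : K ≃+* K) {t : K} (h : θ t = t) : θ (f t) = f t := by rw [← fθ, h]

/-- The units of `k`. -/
def ku (K : Type*) [Field K] [Tri K] : Subgroup Kˣ where
  carrier := {s | θ (s : K) = s}
  one_mem' := θ1
  mul_mem' {a b} ha hb := by rw [Set.mem_ofPred_eq] at ha hb ⊢; rw [Units.val_mul, map_mul, ha, hb]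
  inv_mem' {a} ha := by rw [Set.mem_ofPred_eq] at ha ⊢; rw [Units.val_inv_eq_inv_val, map_inv₀, ha]

/-- The value of a unit of `k`. -/
def kv (s : ku K) : K := s.1.1

theorem θkv (s : ku K) : θ (kv s) = kv s := s.2
theorem kv_ne (s : ku K) : kv s ≠ 0 := s.1.ne_zero
theorem kv_ext {s t : ku K} (h : kv s = kv t) : s = t := Subtype.ext (Units.ext h)

/-- A unit of `k` with given value. -/
def mkk (t : K) (h0 : t ≠ 0) (h : θ t = t) : ku K := ⟨Units.mk0 t h0, h⟩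
/-- A field automorphism on units. -/
def um (f : K ≃+* K) (a : Kˣ) : Kˣ := Units.map (f : K →* K) a
/-- A field automorphism on units of `k`. -/
def uk (f : K ≃+* K) (s : ku K) : ku K := ⟨um f s.1, θf f s.2⟩
/-- `θ` on units. -/
def θu (a : Kˣ) : Kˣ := Units.map (θ : K →+* K).toMonoidHom a
/-- `N` on units. -/
def Nk (a : Kˣ) : ku K := mkk (N (a : K)) (N_ne_zero a.ne_zero) (θN _)
/-- Minus one. -/
def m1 (K : Type*) [Field K] [Tri K] : ku K := ⟨-1, by simp [ku]⟩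

/-- The simp set for units. -/
theorem UV : ((∀ a b : Kˣ, ((a * b : Kˣ) : K) = a * b) ∧ (∀ (a : Kˣ) (n : ℕ), ((a ^ n : Kˣ) : K) = (a : K) ^ n) ∧
    (∀ a : Kˣ, ((a⁻¹ : Kˣ) : K) = (a : K)⁻¹) ∧ (∀ a : Kˣ, (θu a : K) = θ (a : K)) ∧
    ((1 : Kˣ) : K) = 1 ∧ (∀ a : Kˣ, ((-a : Kˣ) : K) = -a) ∧ (∀ (f : K ≃+* K) (a : Kˣ), (um f a : K) = f a) ∧
    (∀ (t : K) h, (Units.mk0 t h : K) = t) ∧ ∀ t : K, (1 : K ≃+* K) t = t) ∧
    (∀ a b : ku K, kv (a * b) = kv a * kv b) ∧ (∀ (a : ku K) (n : ℕ), kv (a ^ n) = kv a ^ n) ∧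
    (∀ a : ku K, kv a⁻¹ = (kv a)⁻¹) ∧ kv (1 : ku K) = 1 ∧ kv (m1 K) = -1 ∧ (∀ a : Kˣ, kv (Nk a) = N (a : K)) ∧
    (∀ (f : K ≃+* K) (a : ku K), kv (uk f a) = f (kv a)) ∧ (∀ (t : K) h0 h, kv (mkk t h0 h) = t) ∧
    (∀ a : ku K, ((a : Kˣ) : K) = kv a) ∧ ∀ a : ku K, θ (kv a) = kv a :=
  ⟨⟨Units.val_mul, Units.val_pow_eq_pow_val, Units.val_inv_eq_inv_val, fun _ => rfl, rfl, Units.val_neg, fun _ _ => rfl,
    fun _ _ => rfl, fun _ => rfl⟩, fun _ _ => rfl, fun a n => Units.val_pow_eq_pow_val a.1 n,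
    fun a => Units.val_inv_eq_inv_val a.1, rfl, rfl, fun _ => rfl, fun _ _ => rfl, fun _ _ _ => rfl, fun _ => rfl, θkv⟩

@[simp] theorem um_one (a : Kˣ) : um 1 a = a := rfl
@[simp] theorem uk_one (a : ku K) : uk 1 a = a := rfl

/-- The torus and the field automorphisms. -/
def tfn (r : Kˣ) (s : ku K) (f : K ≃+* K) (u : U K) : U K where
  a := r * f u.a
  b := kv s * f u.b
  c := r * kv s * f u.c
  d := χ (r : K) * kv s * f u.d
  e := N (r : K) * kv s * f u.e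
  z := N (r : K) * kv s ^ 2 * f u.z
  hb := by rw [map_mul, θkv, θf f u.hb]
  he := by rw [map_mul, map_mul, θkv, θN, θf f u.he]
  hz := by rw [map_mul, map_mul, map_pow, θkv, θN, θf f u.hz]

theorem tfn_mul (r : Kˣ) (s : ku K) (f : K ≃+* K) (u v : U K) : tfn r s f (u * v) = tfn r s f u * tfn r s f v := by
  have h2 := θf f v.hb
  ext <;> simp only [UC, tfn, map_add, map_sub, map_mul, map_pow, fT, fN, fχ, fB] <;>
    (try simp only [TE, θkv, h2]) <;> ring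

theorem tfn_tfn (r r' : Kˣ) (s s' : ku K) (f f' : K ≃+* K) (u : U K) :
    tfn r s f (tfn r' s' f' u) = tfn (r * um f r') (s * uk f s') (f * f') u := by
  ext <;> simp only [tfn, map_mul, map_pow, fN, fχ, N_mul, χ_mul, RingAut.mul_apply, UV] <;> ring

theorem tfn_one {r : Kˣ} {s : ku K} {f : K ≃+* K} (h1 : (r : K) = 1) (h2 : kv s = 1) (h3 : f = 1) (u : U K) :
    tfn r s f u = u := by
  ext <;> simp [tfn, N_one, χ_one, h1, h2, h3]

/-- The torus and the field automorphisms. -/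
def tf (r : Kˣ) (s : ku K) (f : K ≃+* K) : MulAut (U K) where
  toFun := tfn r s f
  invFun := tfn (um f⁻¹ r⁻¹) (uk f⁻¹ s⁻¹) f⁻¹
  left_inv u := by
    rw [tfn_tfn]
    exact tfn_one (by simp [UV]) (by simp [UV, kv_ne]) (inv_mul_cancel _) u
  right_inv u := by
    rw [tfn_tfn]
    exact tfn_one (by simp only [UV]; rw [← RingAut.mul_apply, mul_inv_cancel]; simp)
      (by simp only [UV]; rw [← RingAut.mul_apply, mul_inv_cancel]; simp [kv_ne]) (mul_inv_cancel _) u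
  map_mul' := tfn_mul _ _ f

theorem tf_apply (r : Kˣ) (s : ku K) (f : K ≃+* K) (u : U K) : tf r s f u = tfn r s f u := rfl

theorem tf_mul (r r' : Kˣ) (s s' : ku K) (f f' : K ≃+* K) :
    tf r s f * tf r' s' f' = tf (r * um f r') (s * uk f s') (f * f') := MulEquiv.ext (tfn_tfn _ _ _ _ f f')

theorem tf_one : tf (1 : Kˣ) 1 1 = 1 := MulEquiv.ext (tfn_one rfl rfl rfl)

theorem tf_inv (r : Kˣ) (s : ku K) (f : K ≃+* K) : (tf r s f)⁻¹ = tf (um f⁻¹ r⁻¹) (uk f⁻¹ s⁻¹) f⁻¹ :=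
  MulEquiv.ext fun _ => rfl

theorem tf_inj {r r' : Kˣ} {s s' : ku K} {f f' : K ≃+* K}
    (h : ∀ u, (tf r s f u).a = (tf r' s' f' u).a ∧ (tf r s f u).b = (tf r' s' f' u).b) : r = r' ∧ s = s' ∧ f = f' := by
  have a : ∀ t, (r : K) * f t = r' * f' t := fun t => (h (Xa t)).1
  have b : kv s * f 1 = kv s' * f' 1 := (h (Xb 1 θ1)).2
  obtain rfl : r = r' := Units.ext (by simpa using a 1)
  exact ⟨rfl, kv_ext (by simpa using b), RingEquiv.ext fun t => mul_left_cancel₀ r.ne_zero (a t)⟩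

/-- Equalities in the torus. -/
theorem tf_congr {r r' : Kˣ} {s s' : ku K} {f : K ≃+* K} (h : (r : K) = r') (h' : kv s = kv s') :
    tf r s f = tf r' s' f := by
  rw [Units.ext h, kv_ext h']

theorem tf_eq (r : Kˣ) (s : ku K) (f : K ≃+* K) : tf r s f = tf r s 1 * tf 1 1 f := by
  rw [tf_mul, one_mul]
  exact tf_congr (by simp) (by simp)

theorem tf_conj (r r' : Kˣ) (s s' : ku K) (f : K ≃+* K) :
    tf r s f * tf r' s' 1 * (tf r s f)⁻¹ = tf (um f r') (uk f s') 1 := by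
  rw [mul_inv_eq_iff_eq_mul, tf_mul, tf_mul, mul_comm r, mul_comm s]; rfl

/-- The group `H Φ`. -/
def TF (K : Type*) [Field K] [Tri K] : Subgroup (MulAut (U K)) where
  carrier := {φ | ∃ r s f, φ = tf r s f}
  one_mem' := ⟨1, 1, 1, tf_one.symm⟩
  mul_mem' := by rintro _ _ ⟨a, b, f, rfl⟩ ⟨a', b', f', rfl⟩; exact ⟨_, _, _, tf_mul ..⟩
  inv_mem' := by rintro _ ⟨a, b, f, rfl⟩; exact ⟨_, _, _, tf_inv ..⟩

/-- The torus `H`. -/
def TH (K : Type*) [Field K] [Tri K] : Subgroup (MulAut (U K)) where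
  carrier := {φ | ∃ r s, φ = tf r s 1}
  one_mem' := ⟨1, 1, tf_one.symm⟩
  mul_mem' := by rintro _ _ ⟨a, b, rfl⟩ ⟨a', b', rfl⟩; exact ⟨_, _, tf_mul ..⟩
  inv_mem' := by rintro _ ⟨a, b, rfl⟩; exact ⟨_, _, tf_inv ..⟩

/-- The torus of `SL₂(q³)`: `a, b, c, d, e, z` have the weights `t², (N t)⁻¹, t² / N t, N t / t², N t, 1`. -/
def ha (t : Kˣ) : MulAut (U K) := tf (t ^ 2) (Nk t)⁻¹ 1

/-- The torus of `SL₂(q)`: `a, b, c, d, e, z` have the weights `s⁻¹, s², s, 1, s⁻¹, s`. -/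
def hb (s : ku K) : MulAut (U K) := tf (s : Kˣ)⁻¹ (s ^ 2) 1

/-- Every element of the torus is a product. -/
theorem tf_hab (r : Kˣ) (s : ku K) : ∃ t s', tf r s 1 = ha t * hb s' := by
  obtain ⟨m, hm⟩ := Nat.even_mul_succ_self (qq K)
  have e : ((r : K) ^ (m + 1)) ^ 2 = r * N (r : K) := by
    rw [N_def, ← pow_mul, ← pow_succ']
    congr 1
    linarith
  generalize ht : r ^ (m + 1) = t
  rw [← Units.val_pow_eq_pow_val, ht] at e
  have h1 := N_ne_zero r.ne_zero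
  have h2 := N_ne_zero t.ne_zero
  have h3 := kv_ne s
  generalize hu : s * Nk t * (Nk r)⁻¹ ^ 2 = u
  have h4 : kv u = kv s * N (t : K) * (N (r : K))⁻¹ ^ 2 := by rw [← hu]; simp only [UV]
  have h5 := kv_ne u
  refine ⟨t * u.1, Nk r * u ^ 2, ?_⟩
  rw [ha, hb, tf_mul, mul_one]
  refine tf_congr ?_ ?_
  · simp only [UV, mul_pow, e]
    field_simp
  · simp only [UV, N_mul, N_fix (θkv u)]
    field_simp
    rw [h4]
    field_simp

/-- The reflection on `Q`. -/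
def ω (u : U K) : U K := ⟨0, -u.e, -u.d, u.c, u.b, u.z + T (u.c * u.d) + u.b * u.e, by simp only [TE], u.hb,
  by simp only [map_add, map_mul, θT, u.hb, u.he, u.hz]⟩

/-- The reflection on `R`. -/
def ψ (u : U K) : U K := ⟨-u.c, 0, u.a, u.d + B u.c u.a, -u.z - T (χ u.c * u.a) - T (u.c * u.d),
  u.e - T (u.a * u.d) - T (χ u.a * u.c), by simp, by simp only [map_sub, map_neg, θT, u.hz],
  by simp only [map_sub, θT, u.he]⟩

theorem ω_mem (u : U K) : ω u ∈ Qs := rfl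
theorem ψ_mem (u : U K) : ψ u ∈ Rs := rfl

theorem ω_mul {u v : U K} (hu : u ∈ Qs) (hv : v ∈ Qs) : ω (u * v) = ω u * ω v := by
  ext <;> simp only [ω, UE, mem_Qs.1 hu, mem_Qs.1 hv] <;> ring

theorem ψ_mul {u v : U K} (hu : u ∈ Rs) (hv : v ∈ Rs) : ψ (u * v) = ψ u * ψ v := by
  ext <;> simp only [ψ, UE, mem_Rs.1 hu, mem_Rs.1 hv] <;> ring

theorem ω_ω {u : U K} (hu : u ∈ Qs) : ω (ω u) = tf 1 (m1 K) 1 u := by
  ext <;> simp only [ω, tf_apply, tfn, UV, UE, mem_Qs.1 hu] <;> ring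

theorem ψ_ψ {u : U K} (hu : u ∈ Rs) : ψ (ψ u) = tf (-1) 1 1 u := by
  ext <;> simp only [ψ, tf_apply, tfn, UV, UE, mem_Rs.1 hu] <;> ring

theorem ω4 {u : U K} (hu : u ∈ Qs) : ω (ω (ω (ω u))) = u := by
  ext <;> simp only [ω, UE, mem_Qs.1 hu] <;> ring

theorem ψ4 {u : U K} (hu : u ∈ Rs) : ψ (ψ (ψ (ψ u))) = u := by
  ext <;> simp only [ψ, UE, mem_Rs.1 hu] <;> ring

/-- The reflection on `Q`. -/
def ωQ (K : Type*) [Field K] [Tri K] : MulAut (Qs : Subgroup (U K)) where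
  toFun x := ⟨ω x, ω_mem _⟩
  invFun x := ⟨ω (ω (ω x)), ω_mem _⟩
  left_inv x := Subtype.ext (ω4 x.2)
  right_inv x := Subtype.ext (ω4 x.2)
  map_mul' x y := Subtype.ext (ω_mul x.2 y.2)

/-- The reflection on `R`. -/
def ψR (K : Type*) [Field K] [Tri K] : MulAut (Rs : Subgroup (U K)) where
  toFun x := ⟨ψ x, ψ_mem _⟩
  invFun x := ⟨ψ (ψ (ψ x)), ψ_mem _⟩
  left_inv x := Subtype.ext (ψ4 x.2)
  right_inv x := Subtype.ext (ψ4 x.2)
  map_mul' x y := Subtype.ext (ψ_mul x.2 y.2)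

theorem afn_ωQ {x : U K} (hx : x ∈ Qs) : afn (ωQ K) x = ω x := by rw [afn_apply _ hx]; rfl
theorem afn_ψR {x : U K} (hx : x ∈ Rs) : afn (ψR K) x = ψ x := by rw [afn_apply _ hx]; rfl

theorem ωQ_sq : ωQ K * ωQ K = rQ (tf 1 (m1 K) 1) := MulEquiv.ext fun x => Subtype.ext (ω_ω x.2)
theorem ψR_sq : ψR K * ψR K = rR (tf (-1) 1 1) := MulEquiv.ext fun x => Subtype.ext (ψ_ψ x.2)

/-- The coordinates of `ω⁻¹ u` and `ψ⁻¹ u`. -/
theorem afn_ωQ_inv {x : U K} (hx : x ∈ Qs) : (afn (ωQ K)⁻¹ x).b = x.e ∧ (afn (ωQ K)⁻¹ x).c = x.d ∧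
    (afn (ωQ K)⁻¹ x).d = -x.c ∧ (afn (ωQ K)⁻¹ x).e = -x.b := by
  rw [afn_apply _ hx]
  exact ⟨neg_neg _, neg_neg _, rfl, rfl⟩

theorem afn_ψR_inv {x : U K} (hx : x ∈ Rs) : (afn (ψR K)⁻¹ x).a = x.c ∧ (afn (ψR K)⁻¹ x).c = -x.a := by
  rw [afn_apply _ hx]
  exact ⟨neg_neg _, rfl⟩

theorem ωQ_tf (r : Kˣ) (s : ku K) (f : K ≃+* K) : ωQ K * rQ (tf r s f) * (ωQ K)⁻¹ = rQ (tf r⁻¹ (Nk r * s) f) := by
  rw [mul_inv_eq_iff_eq_mul]
  refine aut_ext fun x hx => ?_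
  rw [afn_mul _ _ hx, afn_mul _ _ hx, afn_ωQ (afn_mem _ hx), afn_ωQ hx, afn_res _ hx, afn_res _ (ω_mem x)]
  have h1 := r.ne_zero
  have h3 := θ_ne_zero h1
  have h4 := θ_ne_zero h3
  have h5 := θf f x.hb
  have h6 := θf f x.he
  ext <;> simp only [ω, tf_apply, tfn, map_add, map_mul, map_neg, map_zero, fT, UV] <;> simp only [UE, θkv] <;>
    field_simp

theorem ψR_tf (r : Kˣ) (s : ku K) (f : K ≃+* K) : ψR K * rR (tf r s f) * (ψR K)⁻¹ = rR (tf (r * s.1) s⁻¹ f) := by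
  rw [mul_inv_eq_iff_eq_mul]
  refine aut_ext fun x hx => ?_
  rw [afn_mul _ _ hx, afn_mul _ _ hx, afn_ψR (afn_mem _ hx), afn_ψR hx, afn_res _ hx, afn_res _ (ψ_mem x)]
  have h1 := kv_ne s
  ext <;> simp only [ψ, tf_apply, tfn, map_add, map_sub, map_mul, map_neg, map_zero, fT, fB, fχ, UV] <;>
    (try simp only [UE, θkv]) <;> (try field_simp) <;> ring

/-- Every element of `A₀` is inner times an element of `H Φ`. -/
def Form (A₀ : Subgroup (MulAut (U K))) : Prop :=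
  ∀ φ ∈ A₀, ∃ (g : U K) (r : Kˣ) (s : ku K) (f : K ≃+* K), φ = MulAut.conj g * tf r s f

end Cfsg.Agent.D4F
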