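import Cfsg.Agent.D4F.EQ

/-!
Essential subgroups contain `Z3`.
Read `D4F/U`, `D4F/Cm`, `D4F/Ex` and the signatures of `D4F/Fld`, `D4F/Dc1`, `D4F/Dc2`, `U5F/Es`, `RFS/Es` (model: `U5F/EA`).  Commuting elements have
`cm g h = 1` (`cm_eq_one`); read off coordinates with the `cm_*` formulas; `cm_swap`, `cm_comm`, `nm_of_cm`.  Invariance: `iv_of_ch`.
-/

set_option autoImplicit false
set_option linter.unusedSectionVars false
set_option linter.unusedSimpArgs false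

namespace Cfsg.Agent.D4F

open Subgroup Cfsg.Agent.RFS Cfsg.Agent.U5F Cfsg.Agent.Fus

variable {K : Type*} [Field K] [Tri K] {E : Subgroup (U K)} {G M₀ : Subgroup (MulAut E)}

/-- PROOF.  `cm_dR`: `B u (t g.a - s g.c) = 0`.  If `2 ≠ 0`, `B_inj`.  If `2 = 0`: `t g.a - s g.c = m u` with `m ∈ k` (`B_eq_zero`);
`sq_eR`, `sq_zR` give `T (u w.d) = s t N u`; `t * cm_eR + s * cm_zR` gives `m ^ 2 N u = 0` (substitute `g.a` or `g.c`; characteristic two). -/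
theorem cen_pure {s t u : K} (hs : θ s = s) (ht : θ t = t) (h0 : s ≠ 0 ∨ t ≠ 0) (hu : u ≠ 0) {w g : U K}
    (hw : w.b = 0 ∧ w.a = s * u ∧ w.c = t * u) (h2 : (2 : K) = 0 → w * w = 1) (hg : g ∈ Rs) (hc : w * g = g * w) : g ∈ P s t := by
  have c := cm_eq_one.2 hc
  have c1 := cm_dR (g := w) hw.1 hg
  have c2 := cm_eR (g := w) hw.1 hg
  have c3 := cm_zR (g := w) hw.1 hg
  rw [c, hw.2.1, hw.2.2] at c1 c2 c3
  have b : B u (t * g.a - s * g.c) = 0 := by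
    simp only [UE, hs, ht] at c1 ⊢; linear_combination -c1
  refine ⟨hg, sub_eq_zero.1 ?_⟩
  by_cases k : (2 : K) = 0
  swap
  · exact B_inj k hu b
  obtain ⟨m, hm, -, e⟩ := B_eq_zero hu b
  have q1 := sq_eR (g := w) hw.1
  have q2 := sq_zR (g := w) hw.1
  rw [h2 k, hw.2.1, hw.2.2] at q1 q2
  have F : T (u * w.d) = 3 * s * t * N u := by
    rcases h0 with h | h <;> refine mul_left_cancel₀ h ?_ <;> simp only [UE, hs, ht] at q1 q2 ⊢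
    · linear_combination -q1 - w.e * k
    · linear_combination q2 + w.z * k
  have h1 : T ((t * g.a - s * g.c) * w.d) = m * T (u * w.d) := by rw [e, mul_assoc, T_smul hm]
  have h3 : T (χ u * (t * g.a - s * g.c)) = 3 * m * N u := by rw [e]; simp only [TE, hm]; ring
  have h4 : T (u * χ (t * g.a)) = T (u * χ (s * g.c)) + 2 * s * m * T (χ u * g.c) + 3 * m ^ 2 * N u := by
    rw [sub_eq_iff_eq_add'.1 e]; simp only [TE, hs, hm]; ring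
  have h5 : m ^ 2 * N u = 0 := by
    have h6 : T (u * χ (t * g.a)) - T (u * χ (s * g.c)) + s * t * T (χ u * (t * g.a - s * g.c)) =
        T ((t * g.a - s * g.c) * w.d) := by
      simp only [UE, hs, ht] at c2 c3 ⊢; linear_combination s * c3 - t * c2
    linear_combination h6 - h4 - s * t * h3 + h1 + m * F - (m ^ 2 * N u + s * m * T (χ u * g.c)) * k
  rw [e, pow_eq_zero_iff two_ne_zero |>.1 ((mul_eq_zero.1 h5).resolve_right (N_ne_zero hu)), zero_mul]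

theorem eb_com {g n : U K} (hg : g ∈ Rs) (hn : n ∈ Z3) :
    g * n = n * g ↔ T (g.a * n.d) = 0 ∧ T (g.c * n.d) = 0 := by
  rw [← cm_eq_one, ← cm_e3 g hn, ← cm_zR3 hg hn]
  refine ⟨fun h => by rw [h]; exact ⟨rfl, rfl⟩, fun h => ?_⟩
  have k := cm_S_Z3 g hn
  exact eq_one_of_Z1 ⟨k.1, k.2.1, k.2.2.1, k.2.2.2, h.1⟩ h.2

theorem eb_Z1 (g : U K) {n : U K} (hn : n ∈ Z3) : cm g n ∈ Z1 ↔ T (g.a * n.d) = 0 := by
  rw [← cm_e3 g hn]
  have k := cm_S_Z3 g hn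
  exact ⟨fun h => h.2.2.2.2, fun h => ⟨k.1, k.2.1, k.2.2.1, k.2.2.2, h⟩⟩

theorem eb_sq {w : U K} (hw : w ∈ Om (Tri.p K) E) (k : (2 : K) = 0) : w * w = 1 := by
  rw [← pow_two, ← two_eq_zero_iff.1 k]; exact hw.2

theorem eb_Xd (x y : K) : (Xd x)⁻¹ * Xd y ∈ Z3 ∧ ((Xd x)⁻¹ * Xd y).d = y - x :=
  ⟨mul_mem (inv_mem ⟨rfl, rfl, rfl⟩) ⟨rfl, rfl, rfl⟩, by simp only [UC]; ring⟩

/-- PROOF.  `W = Om p E ≥ Z2`.  Suppose not; `s₀ : Sec G Z3 ⊥ W ⊤`; `m0` gives `e₀ ∈ W` whose centraliser in `Z3` lies in `E`; so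
`(a₀, c₀) = (e₀.a, e₀.c) ≠ 0`.  If `wd a₀ c₀ = 0`: `dep_of_wd`, `cen_pure`, `caseP`, `Z3 ≤ P s t`.  Let `wd a₀ c₀ ≠ 0`.  If `2 = 0`, `sq_dR` and
`B_eq_wd` contradict `e₀ * e₀ = 1`.  Let `2 ≠ 0`.  `Xd (wd a₀ c₀) ∈ E`, so `w ∈ W` has `w.a, w.c` in the span of `a₀, c₀` (`span2`), and
`cm_dR`, `ind3` give `(w.a, w.c) = r (a₀, c₀)`, `r = w.a / a₀ ∈ k`.  `ff` with `f w = Xd (w.a / a₀ * d₁)`, `T (a₀ d₁) = 1`, `T (c₀ d₁) = 0`
(`dual2`; elements of `E ⊓ Z3` commute with `e₀`), applied to `x = Xd d₂`, `T (a₀ d₂) = 0`, `T (c₀ d₂) = 1`, is contradictory. -/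
theorem Z3_le_R (h : Dc (Tri.p K) E G M₀) (hR : E ≤ Rs) : Z3 ≤ E := by
  have hW : Z2 ≤ Om (Tri.p K) E := fun z hz =>
    ⟨h.zc fun g hg => com_Z2 (hR hg) hz, pow_p_Z3 (Z2_le_Z3 hz)⟩
  have zc : ∀ w ∈ Om (Tri.p K) E, w ∈ E ∧ ∀ g ∈ E, w * g = g * w := fun w hw => mem_Zc.1 hw.1
  have c2 : ∀ b ∈ (Z3 : Subgroup (U K)), ∀ y, cm b y ∈ Z2 := fun b hb y => cm_comm (cm_S_Z3 y hb)
  by_contra hn
  have s₀ : Sec G Z3 ⊥ (Om (Tri.p K) E) ⊤ := ⟨iv_of_ch Ch.bot G, iv_of_ch (ch_Om _ _) G, iv_of_ch Ch.top G,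
    fun y _ hy => bot_le (a := Om (Tri.p K) E) hy, sc_top, hn,
    fun b hb => nm_of_cm fun y _ => (zc _ (hW (c2 b hb y))).1,
    fun y _ hy y' hy' _ => cm_eq_one.2 ((zc y hy).2 y' hy'), fun b _ y _ hy => by simp [mem_bot.1 hy],
    fun b hb b' hb' y _ _ => cm_eq_one.2 (com_Z3 hb' (Z2_le_Z3 (c2 b hb y))), fun b hb y _ _ => hW (c2 b hb y)⟩
  obtain ⟨e₀, he, hw, k⟩ := h.m0 s₀
  have key : ∀ b ∈ (Z3 : Subgroup (U K)), T (e₀.a * b.d) = 0 → T (e₀.c * b.d) = 0 → b ∈ E := fun b hb h1 h2 =>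
    k b hb (cm_eq_one.2 ((eb_com (hR he) hb).2 ⟨h1, h2⟩).symm)
  by_cases w0 : wd e₀.a e₀.c = 0
  · obtain ⟨s, t, u, hs, ht, h0, hu, ea, ec⟩ := dep_of_wd w0 (by
      by_contra! c
      exact hn fun b hb => key b hb (by simp only [c.1, UC]) (by simp only [c.2, UC]))
    exact hn fun b hb => caseP h hs ht h0 (fun g hg => cen_pure hs ht h0 hu ⟨hR he, ea, ec⟩ (eb_sq hw) (hR hg)
      ((zc _ hw).2 g hg)) ⟨hb.2.1, by simp only [hb.1, hb.2.2, UC]⟩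
  by_cases k2 : (2 : K) = 0
  · have := sq_dR (hR he)
    rw [eb_sq hw k2, B_eq_wd k2, k2] at this
    exact w0 (by simpa only [UC, zero_eq_neg] using this)
  have a0 : e₀.a ≠ 0 := fun c => w0 (by simp only [wd, c, UE])
  have hr : ∀ w ∈ Om (Tri.p K) E, θ (w.a / e₀.a) = w.a / e₀.a ∧ w.c = w.a / e₀.a * e₀.c := fun w hw' => by
    have r := hR (zc w hw').1
    obtain ⟨h1, h2⟩ := (eb_com r (n := Xd (wd e₀.a e₀.c)) ⟨rfl, rfl, rfl⟩).1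
      ((zc w hw').2 _ (key _ ⟨rfl, rfl, rfl⟩ (T_wd_left _ _) (T_wd_right _ _)))
    obtain ⟨s1, t1, hs1, ht1, e1⟩ := span2 w0 h1
    obtain ⟨s2, t2, hs2, ht2, e2⟩ := span2 w0 h2
    have c := cm_dR r (hR he)
    rw [cm_eq_one.2 ((zc w hw').2 _ he), e1, e2] at c
    obtain ⟨z1, z2, z3⟩ := ind3 w0 (s := 2 * s2) (t := t2 - s1) (r := -(2 * t1)) (by simp only [TE, hs2])
      (by simp only [TE, hs1, ht2]) (by simp only [TE, ht1])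
      (by simp only [UE, hs1, hs2, ht1, ht2] at c ⊢; linear_combination -c)
    rw [e1, e2, (mul_eq_zero.1 z1).resolve_left k2, (mul_eq_zero.1 (neg_eq_zero.1 z3)).resolve_left k2,
      sub_eq_zero.1 z2]
    simp only [UC, mul_div_cancel_right₀ _ a0, hs1, and_self]
  obtain ⟨d₁, d1, d2⟩ := dual2 w0 (map_one θ) (map_zero θ)
  obtain ⟨d₂, -, d3⟩ := dual2 w0 (map_zero θ) (map_one θ)
  obtain ⟨y, -, hy, hE⟩ := h.ff s₀ (fun w => Xd (w.a / e₀.a * d₁)) (fun _ _ _ => ⟨rfl, rfl, rfl⟩)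
    (fun y _ hy y' _ hy' hE b hb => cm_eq_one.2 (com_Z3 hb (by
      have hv := mul_mem (inv_mem hy) hy'
      have := ((eb_com (hR he) (eb_Xd _ _).1).1 ((zc _ hw).2 _ hE)).1
      rw [(eb_Xd _ _).2, ← sub_mul, ← sub_div, sub_eq_neg_add, mul_left_comm,
        T_smul (r := (-y.a + y'.a) / e₀.a) (hr _ hv).1, d1, mul_one] at this
      exact ⟨(div_eq_zero_iff.1 this).resolve_right a0, hR (zc _ hv).1,
        (hr _ hv).2.trans (mul_eq_zero_of_left this _)⟩))) (s₀.nm (Xd d₂) ⟨rfl, rfl, rfl⟩)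
  have := ((eb_com (hR he) (eb_Xd _ _).1).1 ((zc _ hw).2 _ hE)).2
  rw [(eb_Xd _ _).2, mul_sub, T_sub, mul_left_comm, T_smul (hr _ hy).1, d2, d3] at this
  simp at this

/-- PROOF.  `Z2 ≤ E` (`Z2_le`).  `W = Om p E ≤ Z3`: `w ∈ W` lies in `Rs` (`mem_Rs_of_comm`), `w.a = 0` (`cm_c`), `B a₀ w.c = 0`; for `2 = 0`,
`w.c = r a₀`, `cm_e4` gives `T (a₀ w.d) = r N a₀` (`T_mul_χ`) and `sq_zR` gives `r ^ 2 N a₀ = 0`.  `W ⊓ Z2 ≤ Z1`.  `L = Uc (ch_Om ..) ≥ Z2`.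
Suppose `¬ Z3 ≤ E`; `s₀ : Sec G Z3 W L ⊤`.  `m0` gives `u ∈ L` with `{x ∈ Z3 | T (u.a x.d) = 0} ≤ E`, so `u.a ≠ 0`; `cm_c`: `u.b ≠ 0` and
`g.a = (g.b / u.b) u.a` for `g ∈ E`.  Conversely `y ∈ E ⊓ Z3` has `T (u.a y.d) = 0` (`cm u y ∈ W ⊓ Z2`).  `ff` with `f y = Xd (y.b / u.b * d₁)`,
`T (u.a d₁) = 1`.  For `T (χ u.a * c) = 0` the element `Xc c` normalises `E` (`cm_d4`, `T_B_self`), so `E ⊓ Z4` has an element `y` with
`y.c = c`.  `cm u y ∈ W` has `d = - B u.a c` and commutes with `y'`: `cm_z4` contradicts `exists_cc`. -/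
theorem Z3_le_N (h : Dc (Tri.p K) E G M₀) {g₀ : U K} (hg : g₀ ∈ E) (ha : g₀.a ≠ 0) (hb : g₀.b ≠ 0) : Z3 ≤ E := by
  have h2 := Z2_le h
  have h1 := Z1_le h
  have zc : ∀ w ∈ Om (Tri.p K) E, w ∈ E ∧ ∀ g ∈ E, w * g = g * w := fun w hw => mem_Zc.1 hw.1
  have hW : Om (Tri.p K) E ≤ Z3 := fun w hw => by
    have b : w.b = 0 := mem_Rs_of_comm fun n hn => (zc w hw).2 n (h2 hn)
    have c := cm_eq_one.2 ((zc w hw).2 _ hg).symm
    have c1 := cm_c g₀ w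
    rw [c, b] at c1
    have a : w.a = 0 := (mul_eq_zero.1 (by simpa only [UC] using c1.symm)).resolve_left hb
    have c2 := cm_d4 g₀ (n := w) ⟨a, b⟩
    have c3 := cm_e4 g₀ (n := w) ⟨a, b⟩
    rw [c] at c2 c3
    have c4 : B g₀.a w.c = 0 := by simpa only [UC, zero_eq_neg] using c2
    refine ⟨a, b, ?_⟩
    by_cases k : (2 : K) = 0
    swap
    · exact B_inj k ha c4
    obtain ⟨r, hr, -, e⟩ := B_eq_zero ha c4
    have q := sq_zR (g := w) b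
    rw [eb_sq hw k, a] at q
    have : r ^ 2 * N g₀.a = 0 := by
      simp only [UE, e, hr] at q c3 ⊢
      linear_combination q + r * c3 + (w.z - r ^ 2 * g₀.a * θ g₀.a * θ (θ g₀.a)) * k
    rw [e, pow_eq_zero_iff two_ne_zero |>.1 ((mul_eq_zero.1 this).resolve_right (N_ne_zero ha)), zero_mul]
  have c2 : ∀ b ∈ (Z3 : Subgroup (U K)), ∀ y, cm b y ∈ Z2 := fun b hb y => cm_comm (cm_S_Z3 y hb)
  by_contra hn
  have s₀ : Sec G Z3 (Om (Tri.p K) E) (Uc (ch_Om (Tri.p K) E)) ⊤ := ⟨iv_of_ch (ch_Om _ _) G,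
    iv_of_ch (ch_Uc _) G, iv_of_ch Ch.top G,
    fun y hy hy' => ⟨hy, fun g hg => cm_eq_one.2 ((zc y hy').2 g hg) ▸ one_mem _⟩, sc_top, hn,
    fun b hb => nm_of_cm fun y _ => h2 (c2 b hb y), fun y _ hy y' hy' _ => hy.2 y' hy',
    fun b hb y _ hy => com_Z3 hb (hW hy),
    fun b hb b' hb' y _ _ => cm_eq_one.2 (com_Z3 hb' (Z2_le_Z3 (c2 b hb y))) ▸ one_mem _,
    fun b hb y _ _ => ⟨h2 (c2 b hb y), fun g _ => h1 (cm_comm (cm_S_Z2 g (c2 b hb y)))⟩⟩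
  obtain ⟨u, hu, hL, k⟩ := h.m0 s₀
  have key : ∀ b ∈ (Z3 : Subgroup (U K)), T (u.a * b.d) = 0 → b ∈ E := fun b hb e =>
    k b hb (h1 (cm_comm ((eb_Z1 u hb).2 e)))
  have a0 : u.a ≠ 0 := fun c => hn fun b hb => key b hb (by simp only [c, UC])
  have cc : ∀ g ∈ E, u.b * g.a = g.b * u.a := fun g hg =>
    sub_eq_zero.1 ((cm_c u g).symm.trans (hW (hL.2 g hg)).2.2)
  have b0 : u.b ≠ 0 := fun c => mul_ne_zero hb a0 (by rw [← cc _ hg, c, zero_mul])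
  have ga : ∀ g ∈ E, g.a = g.b / u.b * u.a := fun g hg => by
    rw [div_mul_eq_mul_div, ← cc g hg, mul_div_cancel_left₀ _ b0]
  have fb : ∀ g : U K, θ (g.b / u.b) = g.b / u.b := fun g => by simp only [TE]
  have cv : ∀ y ∈ E, y ∈ Z3 → T (u.a * y.d) = 0 := fun y hy hy' => by
    have c := cm_z2 g₀ (cm_S_Z3 u hy')
    rw [cm_eq_one.2 ((zc _ (hL.2 y hy)).2 _ hg).symm, cm_e3 u hy'] at c
    exact (mul_eq_zero.1 c.symm).resolve_left hb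
  obtain ⟨d₁, d1⟩ := exists_T a0 (map_one θ)
  have ex : ∀ c, T (χ u.a * c) = 0 → ∃ y ∈ E, y ∈ Z4 ∧ y.c = c := fun c hc => by
    obtain ⟨y, -, -, hE⟩ := h.ff s₀ (fun y => Xd (y.b / u.b * d₁)) (fun _ _ _ => ⟨rfl, rfl, rfl⟩)
      (fun y hy _ y' hy' _ hE b hb => h1 (cm_comm ((eb_Z1 _ hb).2 (by
        have := cv _ hE (eb_Xd _ _).1
        rw [(eb_Xd _ _).2, ← sub_mul, ← sub_div, sub_eq_neg_add, mul_left_comm,
          T_smul (r := (-y.b + y'.b) / u.b) (fb (y⁻¹ * y')), d1, mul_one] at this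
        rw [ga _ (mul_mem (inv_mem hy) hy'), show (y⁻¹ * y').b / u.b = 0 from this]
        simp only [UC])))) (x := Xc c) (nm_of_cm fun g hg => cm_comm (key _ (cm_S_Z4 g ⟨rfl, rfl⟩) (by
          rw [cm_d4 g ⟨rfl, rfl⟩, ga g hg, B_smul_left (fb g), mul_neg, T_neg, mul_left_comm, T_smul (fb g),
            T_B_self]
          simp only [UC, hc])))
    exact ⟨_, hE, by simp only [mem_Z4, UC, and_self]⟩
  obtain ⟨c, c', e1, e2, e3⟩ := exists_cc a0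
  obtain ⟨y, hy, y4, rfl⟩ := ex c e1
  obtain ⟨y', hy', y4', rfl⟩ := ex c' e2
  have := ((eb_com (Z4_le_Rs y4') (cm_S_Z4 u y4)).1 ((zc _ (hL.2 y hy)).2 _ hy').symm).2
  rw [cm_d4 u y4, mul_neg, T_neg, neg_eq_zero] at this
  exact e3 this

end Cfsg.Agent.D4F
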