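import Cfsg.Agent.D4F.EQ

/-!
Essential subgroups outside `Qs` and `Rs` that contain `Z3` contain `Z4`.  `W = Zc E ≤ Z3` (`mem_Z3_of_comm`), `W ⊓ Z2 = Z1` (`cm_z2`);
`Z4` normalises `E` (`cm_S_Z4`), `[Z4, Z4] ≤ Z1` (`cm_Qs_Qs`).
Read `D4F/U`, `D4F/Cm`, `D4F/Ex` and the signatures of `D4F/Fld`, `D4F/Dc1`, `D4F/Dc2`, `U5F/Es`, `RFS/Es` (model: `U5F/EA`).  Commuting elements have
`cm g h = 1` (`cm_eq_one`); read off coordinates with the `cm_*` formulas; `cm_swap`, `cm_comm`, `nm_of_cm`.  Invariance: `iv_of_ch`.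
-/

set_option autoImplicit false
set_option linter.unusedSectionVars false
set_option linter.unusedSimpArgs false

namespace Cfsg.Agent.D4F

open Subgroup Cfsg.Agent.RFS Cfsg.Agent.U5F Cfsg.Agent.Fus

variable {K : Type*} [Field K] [Tri K] {E : Subgroup (U K)} {G M₀ : Subgroup (MulAut E)}

theorem en_W3 (h3 : Z3 ≤ E) {y : U K} (hy : y ∈ Zc E) : y ∈ Z3 :=
  mem_Z3_of_comm fun n hn => (mem_Zc.1 hy).2 n (h3 hn)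

theorem en_eq {w y : U K} (hw : w ∈ Z1) (hy : y ∈ Z1) (e : y.z = w.z) : y = w := by
  rw [mem_Z1] at hw hy
  ext <;> simp only [hw, hy, e]

/-- `y ∈ Uc c` has `cm y (Xd d) ∈ Z1`, so `y.a = 0` (`cm_e3`), and `cm_c` with `g₀` gives `y.b = 0`. -/
theorem Uc_le_Z4 (h3 : Z3 ≤ E) {g₀ : U K} (hg : g₀ ∈ E) (ha : g₀.a ≠ 0) {W : Subgroup (U K)} (c : Ch E W)
    (h1 : ∀ y ∈ E, y ∈ W → y ∈ Z3) (h2 : ∀ y ∈ E, y ∈ W → y ∈ Z2 → y ∈ Z1) : Uc c ≤ Z4 := by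
  intro y hy
  have a : y.a = 0 := eq_zero_of_T fun d => by
    have n : (Xd d : U K) ∈ Z3 := ⟨rfl, rfl, rfl⟩
    have := (h2 _ (cm_mem hy.1 (h3 n)) (hy.2 _ (h3 n)) (cm_S_Z3 y n)).2.2.2.2
    rwa [cm_e3 y n] at this
  have := (h1 _ (cm_mem hy.1 hg) (hy.2 _ hg)).2.2
  rw [cm_c, a, mul_zero, sub_zero] at this
  exact ⟨a, (mul_eq_zero.1 this).resolve_right ha⟩

/-- PROOF.  `L = Uc (ch_Zc E)`, `Z2 ≤ L ≤ Z4` (`Uc_le_Z4`).  If `Cn E L ≤ Z4` take `N = L ⊔ Cn E L` (`ch_sup_Cn`).  Otherwise `u ∈ Cn E L \ Z4` has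
`u.b = 0` (`mem_Rs_of_comm`), `u.a ≠ 0`, and `y ∈ L` has `B u.a y.c = 0`.  There is a characteristic `L'` with `Z2 ≤ L' ≤ Z3`: `L' = L` if
`2 ≠ 0` (`B_inj`); if `2 = 0`, `L' = closure {y | y ∈ E ∧ y ∈ L ∧ y * y = 1}` (`Ch.closure`, `afn_sq`): `y.c = r u.a`, `cm_e4`: `T (u.a y.d) = r N u.a`,
`sq_zR`: `r ^ 2 N u.a = 0`.  Take `N = Uc c' ≥ Z3` (so `Sc E N` by `mem_Z3_of_comm`); `y ∈ N` has `(cm y u).c = 0 = (cm y g₀).c`, so `y ∈ Z4`. -/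
theorem exists_top (h : Dc (Tri.p K) E G M₀) (h3 : Z3 ≤ E) {g₀ : U K} (hg : g₀ ∈ E) (ha : g₀.a ≠ 0) (hb : g₀.b ≠ 0) :
    ∃ N, Ch E N ∧ Sc E N ∧ ∀ y ∈ E, y ∈ N → y ∈ Z4 := by
  have L4 : Uc (ch_Zc E) ≤ Z4 := Uc_le_Z4 h3 hg ha _ (fun y _ hy => en_W3 h3 hy) fun y _ hy h2 => by
    have := cm_z2 g₀ h2
    rw [cm_eq_one.2 ((mem_Zc.1 hy).2 _ hg).symm] at this
    exact ⟨h2.1, h2.2.1, h2.2.2.1, h2.2.2.2, (mul_eq_zero.1 this.symm).resolve_left hb⟩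
  have L2 : Z2 ≤ Uc (ch_Zc E) := fun y hy =>
    ⟨h3 (Z2_le_Z3 hy), fun g _ => cm_comm (Z1_le h (cm_S_Z2 g hy)).1⟩
  by_cases hC : Cn E (Uc (ch_Zc E)) ≤ Z4
  · obtain ⟨c, s⟩ := ch_sup_Cn (ch_Uc (ch_Zc E)) fun _ hy => hy.1
    exact ⟨_, c, s, fun y _ hy => sup_le L4 hC hy⟩
  obtain ⟨u, hu, u4⟩ := SetLike.not_le_iff_exists.1 hC
  have ub : u.b = 0 := mem_Rs_of_comm fun n hn => hu.2 n (L2 hn).1 (L2 hn)
  have ua : u.a ≠ 0 := fun e => u4 ⟨e, ub⟩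
  have hB : ∀ y ∈ Uc (ch_Zc E), B u.a y.c = 0 := fun y hy => by
    have := cm_d4 u (L4 hy)
    rw [cm_eq_one.2 (hu.2 y hy.1 hy)] at this
    exact neg_eq_zero.1 this.symm
  obtain ⟨L', c', l2, l3⟩ : ∃ L', Ch E L' ∧ Z2 ≤ L' ∧ L' ≤ Z3 := by
    by_cases h2 : (2 : K) = 0
    swap
    · exact ⟨_, ch_Uc (ch_Zc E), L2, fun y hy => ⟨(L4 hy).1, (L4 hy).2, B_inj h2 ua (hB y hy)⟩⟩
    refine ⟨_, Ch.closure (fun y => y ∈ Uc (ch_Zc E) ∧ y * y = 1) fun α y hy k =>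
      ⟨ch_Uc (ch_Zc E) α y hy k.1, afn_sq α hy k.2⟩, fun y hy => subset_closure ⟨(L2 hy).1, L2 hy, ?_⟩,
      (closure_le _).2 fun y ⟨hy, hL, hs⟩ => ⟨(L4 hL).1, (L4 hL).2, ?_⟩⟩
    · rw [← pow_two, ← two_eq_zero_iff.1 h2]
      exact pow_p_Z3 (Z2_le_Z3 hy)
    obtain ⟨r, hr, -, e⟩ := B_eq_zero ua (hB y hL)
    have k1 := cm_e4 u (L4 hL)
    have k2 := sq_zR (Z4_le_Rs (L4 hL))
    rw [cm_eq_one.2 (hu.2 y hy hL), e, mul_left_comm, T_smul hr, mul_comm (χ _), T_mul_χ] at k1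
    rw [hs, (L4 hL).1, e, mul_assoc, T_smul hr] at k2
    simp only [UC] at k1 k2
    have : r ^ 2 * N u.a = 0 := by linear_combination k2 + r * k1 + (y.z - r ^ 2 * N u.a) * h2
    rw [e, pow_eq_zero_iff two_ne_zero |>.1 ((mul_eq_zero.1 this).resolve_right (N_ne_zero ua)), zero_mul]
  have n3 : Z3 ≤ Uc c' := fun y hy => ⟨h3 hy, fun g _ => cm_comm (l2 (cm_S_Z3 g hy))⟩
  refine ⟨_, ch_Uc c', fun y _ k => n3 (mem_Z3_of_comm fun n hn => k n (h3 hn) (n3 hn)), fun y _ hy => ?_⟩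
  have k1 := (l3 (hy.2 u hu.1)).2.2
  have k2 := (l3 (hy.2 g₀ hg)).2.2
  rw [cm_c, ub, zero_mul, sub_zero] at k1
  have yb := (mul_eq_zero.1 k1).resolve_right ua
  rw [cm_c, yb, zero_mul, zero_sub, neg_eq_zero] at k2
  exact ⟨(mul_eq_zero.1 k2).resolve_left hb, yb⟩

/-- PROOF.  `D₂ = Dm E ⊤ ⊤ ≤ Z4`.  Let `gₐ ∈ E` have `(a, b) = (a, 0)` and `g' ∈ E` have `(0, b)`; `y = cm gₐ g' ∈ D₂` has `c = - b a`,
`d = χ a * b - B a g'.c` (`cm_c`, `cm_dab`).  If `2 = 0`: `y * y` has `z = b ^ 2 N a` (`sq_zQ`, `T_B_self`, `T_mul_χ`), `exists_sq`, and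
`Ch.of_sq (ch_Dm ..)`.  If `2 ≠ 0`: `D₃ = Dm E ⊤ D₂ ≤ Z3`, `D₄ = Dm E ⊤ D₃ ≤ Z2`, `Ch.of_comm Ch.top c₄`: `plane_basis`, `tri_ne` give
`a₁, a₂, a₃` orthogonal to `v` with `τ = T (a₁ B a₂ a₃) ≠ 0`; `cm g' (cm g₁ (cm g₂ y))` has `z = b' * (b τ)` (`cm_d4`, `cm_e3`, `cm_z2`). -/
theorem ch_Z1 {v : K} (hv : v ≠ 0) (h1 : ∀ a, T (a * v) = 0 → ∃ g ∈ E, g.a = a ∧ g.b = 0)
    (h2 : ∀ b, θ b = b → ∃ g ∈ E, g.a = 0 ∧ g.b = b) : Ch E Z1 := by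
  have c₂ : Ch E (Dm E ⊤ ⊤) := ch_Dm Ch.top Ch.top
  have d₂ : Dm E ⊤ ⊤ ≤ Z4 := Dm_le fun a _ _ b _ _ => cm_S_S a b
  by_cases e2 : (2 : K) = 0
  · have sq : ∀ y : U K, y ∈ Z4 → y * y ∈ Z1 := fun y hy => by
      simp only [mem_Z1, UC, hy.1, hy.2, true_and]
      exact ⟨by linear_combination y.c * e2, by linear_combination y.d * e2, by linear_combination y.e * e2⟩
    refine c₂.of_sq (fun y _ hy => sq y (d₂ hy)) fun S hS w hw => ?_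
    obtain ⟨a, a0, ha, -⟩ := exists_perp v v
    obtain ⟨b, hb, eb⟩ := exists_sq e2 (r := w.z / N a) (by rw [map_div₀, w.hz, θN])
    obtain ⟨g, hg, ga, gb⟩ := h1 a (mul_comm v a ▸ ha)
    obtain ⟨g', hg', ga', gb'⟩ := h2 b hb
    refine en_eq hw (sq _ (cm_S_S g g')) ?_ ▸ hS _ (cm_mem hg hg') (mem_Dm hg trivial hg' trivial)
    rw [sq_zQ (cm_a g g'), cm_b, cm_c, cm_dab gb ga', ga, gb, ga', gb',
      show (0 * 0 - b * a) * (χ a * b - B a g'.c) = b * (a * B a g'.c) - b * (b * (a * χ a)) by ring, T_sub,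
      T_smul hb, T_smul hb, T_smul hb, T_B_self, T_mul_χ]
    have := (eq_div_iff (N_ne_zero a0)).1 eb
    linear_combination this + ((cm g g').z - b * T (χ a * g'.c) + b ^ 2 * N a) * e2
  have d₃ : Dm E ⊤ (Dm E ⊤ ⊤) ≤ Z3 := Dm_le fun a _ _ b _ hb => cm_S_Z4 a (d₂ hb)
  have d₄ : Dm E ⊤ (Dm E ⊤ (Dm E ⊤ ⊤)) ≤ Z2 := Dm_le fun a _ _ b _ hb => cm_S_Z3 a (d₃ hb)
  refine Ch.top.of_comm (ch_Dm Ch.top (ch_Dm Ch.top c₂)) (fun a _ _ b _ hb => cm_S_Z2 a (d₄ hb)) fun S hS w hw => ?_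
  obtain ⟨a, c, hw', ha, hc, -⟩ := plane_basis hv
  obtain ⟨x, hx, y, hy, z, hz, τ⟩ := tri_ne e2 hw'
  have k : ∀ x ∈ ({a, c} : Set K), ∃ g ∈ E, g.a = x ∧ g.b = 0 := by
    rintro _ (rfl | rfl)
    exacts [h1 _ ha, h1 _ hc]
  obtain ⟨g₁, m1, a1, -⟩ := k x hx
  obtain ⟨g₂, m2, a2, -⟩ := k y hy
  obtain ⟨g₃, m3, a3, b3⟩ := k z hz
  obtain ⟨g, m, a4, b4⟩ := h2 1 (map_one _)
  obtain ⟨g', m', -, b5⟩ := h2 (w.z / T (x * B y z)) (by rw [map_div₀, w.hz, θT])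
  have n2 := mem_Dm (L := ⊤) (M := ⊤) m trivial m3 trivial
  have n3 := mem_Dm (L := ⊤) m2 trivial (Dm_le_self n2) n2
  have n4 := mem_Dm (L := ⊤) m1 trivial (Dm_le_self n3) n3
  refine en_eq hw (cm_S_Z2 g'⁻¹ (d₄ n4)) ?_ ▸ hS _ (inv_mem m') trivial _ (Dm_le_self n4) n4
  rw [cm_z2 _ (d₄ n4), cm_e3 _ (d₃ n3), cm_d4 _ (d₂ n2), cm_c, a1, a2, a3, b3, b4, one_mul, zero_mul, sub_zero,
    mul_neg, T_neg]
  simp only [UC, b5]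
  field_simp

/-- PROOF.  `N` from `exists_top`.  If `Ch E Z1`, `t1` with `L = Z1`, `Top = N` applies to `x ∈ Z4`.  Suppose `¬ Z4 ≤ E`; `s₀ : Sec G Z4 ⊥ W N`.  `m0`
gives `e₀ ∈ W`, `v = e₀.d ≠ 0`, and `x ∈ Z4` lies in `E` iff `T (x.c v) = 0` (`cm_z4`).  So `w ∈ W` has `w.d = r v` (`perp1`), and `T (g.a v) = 0`
for `g ∈ E` (`cm_e3`).  `ff` with `f w = Xc (w.d / v * c₁)`, `T (c₁ v) = 1`.  `Xa a` (`T (a v) = 0`) and `Xb b` normalise `E` (`cm_S_S`, `cm_c`);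
`ch_Z1`. -/
theorem Z4_le (h : Dc (Tri.p K) E G M₀) (h3 : Z3 ≤ E) {g₀ : U K} (hg : g₀ ∈ E) (ha : g₀.a ≠ 0) (hb : g₀.b ≠ 0) : Z4 ≤ E := by
  obtain ⟨N, cN, sN, hN⟩ := exists_top h h3 hg ha hb
  have nm : ∀ x ∈ (Z4 : Subgroup (U K)), Nm E x := fun x hx => nm_of_cm fun y _ => cm_comm (h3 (cm_S_Z4 y hx))
  have q1 : ∀ x ∈ (Z4 : Subgroup (U K)), ∀ y ∈ (Z4 : Subgroup (U K)), cm x y ∈ Z1 := fun x hx y hy =>
    cm_Qs_Qs (Z4_le_Qs hx) (Z4_le_Qs hy)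
  by_contra hn
  refine hn fun x hx => h.t1 (iv_of_ch (?_ : Ch E Z1) G) (iv_of_ch cN G) sN (nm x hx) (fun y _ hy => com_Z1 x hy)
    fun y hy hy' => q1 x hx y (hN y hy hy')
  have s₀ : Sec G Z4 ⊥ (Zc E) N := ⟨iv_of_ch Ch.bot G, iv_of_ch (ch_Zc E) G, iv_of_ch cN G,
    fun y _ hy => mem_bot.1 hy ▸ one_mem _, sN, hn, nm,
    fun y _ hy y' hy' _ => mem_bot.2 (cm_eq_one.2 ((mem_Zc.1 hy).2 y' hy')),
    fun b _ y _ hy => by rw [mem_bot.1 hy, mul_one, one_mul],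
    fun b hb b' _ y _ hy => mem_bot.2 (cm_eq_one.2 (com_Z1 b' (q1 b hb y (Z3_le_Z4 (en_W3 h3 hy))))),
    fun b hb y hy hy' => (Z1_le h (q1 b hb y (hN y hy hy'))).1⟩
  obtain ⟨e₀, -, eW, he⟩ := h.m0 s₀
  have cz : ∀ w ∈ Zc E, ∀ b ∈ (Z4 : Subgroup (U K)), (cm b w).z = T (b.c * w.d) := fun w hw b hb => by
    rw [cm_z4 hb (Z3_le_Z4 (en_W3 h3 hw)), (en_W3 h3 hw).2.2, zero_mul, T_zero, sub_zero]
  have i1 : ∀ b ∈ (Z4 : Subgroup (U K)), T (b.c * e₀.d) = 0 → b ∈ E := fun b hb e => he b hb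
    (mem_bot.2 (eq_one_of_Z1 (q1 b hb _ (Z3_le_Z4 (en_W3 h3 eW))) ((cz _ eW b hb).trans e)))
  have i2 : ∀ w ∈ Zc E, ∀ b ∈ (Z4 : Subgroup (U K)), b ∈ E → T (b.c * w.d) = 0 := fun w hw b hb e => by
    rw [← cz w hw b hb, cm_eq_one.2 ((mem_Zc.1 hw).2 b e).symm]; rfl
  have hv : e₀.d ≠ 0 := fun e => hn fun b hb => i1 b hb (by rw [e, mul_zero, T_zero])
  have hW : ∀ w ∈ Zc E, ∃ r, θ r = r ∧ w.d = r * e₀.d := fun w hw => perp1 hv fun d hd =>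
    mul_comm d w.d ▸ i2 w hw (Xc d) ⟨rfl, rfl⟩ (i1 _ ⟨rfl, rfl⟩ (mul_comm e₀.d d ▸ hd))
  have hE : ∀ g ∈ E, T (g.a * e₀.d) = 0 := fun g hg => by
    rw [← cm_e3 g (en_W3 h3 eW), cm_eq_one.2 ((mem_Zc.1 eW).2 g hg).symm]; rfl
  obtain ⟨c₁, hc⟩ := exists_T hv (map_one θ)
  have key : ∀ x, Nm E x → ∃ g ∈ E, g.a = x.a ∧ g.b = x.b := fun x hx => by
    obtain ⟨y, -, -, k⟩ := h.ff s₀ (fun w => Xc (w.d / e₀.d * c₁)) (fun _ _ _ => ⟨rfl, rfl⟩)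
      (fun y _ hy y' _ hy' k b hb => mem_bot.2 (cm_eq_one.2 (com_Z2 (Z4_le_Rs hb) (by
        obtain ⟨r, hr, e⟩ := hW y hy
        obtain ⟨r', hr', e'⟩ := hW y' hy'
        have k1 := i2 _ eW _ (mul_mem (inv_mem ⟨rfl, rfl⟩) ⟨rfl, rfl⟩) k
        have t1 := mem_Z3.1 (en_W3 h3 hy)
        have t2 := mem_Z3.1 (en_W3 h3 hy')
        simp only [UC, e, e', mul_div_cancel_right₀ _ hv] at k1
        rw [show (-(r * c₁) + r' * c₁) * e₀.d = (r' - r) * (e₀.d * c₁) by ring,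
          T_smul (by rw [map_sub, hr, hr']), hc, mul_one, sub_eq_zero] at k1
        simp only [mem_Z2, UC, t1, t2, e, e', k1, neg_add_cancel, and_self])))) hx
    exact ⟨_, k, by simp only [UC], by simp only [UC]⟩
  refine ch_Z1 hv (fun a h0 => key (Xa a) (nm_of_cm fun g _ => i1 _ (cm_S_S _ _) ?_))
    fun b h0 => key (Xb b h0) (nm_of_cm fun g hg => i1 _ (cm_S_S _ _) ?_)
  · simp only [cm_c, UC, neg_mul, T_neg, mul_assoc, T_smul g.hb, h0]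
  · simp only [cm_c, UC, mul_assoc, T_smul h0, hE g hg]

end Cfsg.Agent.D4F
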