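import Cfsg.Agent.D4F.ER2
import Cfsg.Agent.D4F.EN

/-!
Essential subgroups outside `Qs` and `Rs` do not contain `Z4`.  Here `E` is normal (`cm_S_S`), `Zc E = Z1` (`mem_Z3_of_comm`, `cm_z4`, `cm_z2`), and
`L = Uc (ch_Zc E)` consists of the `y ∈ Z4` (as `Uc_le_Z4` in `EN`) with `B g.a y.c = 0`, `T (g.a y.d) = T (χ g.a y.c)` for all `g ∈ E`.
Read `D4F/U`, `D4F/Cm`, `D4F/Ex` and the signatures of `D4F/Fld`, `D4F/Dc1`, `D4F/Dc2`, `U5F/Es`, `RFS/Es` (model: `U5F/EA`).  Commuting elements have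
`cm g h = 1` (`cm_eq_one`); read off coordinates with the `cm_*` formulas; `cm_swap`, `cm_comm`, `nm_of_cm`.  Invariance: `iv_of_ch`.
-/

set_option autoImplicit false
set_option linter.unusedSectionVars false
set_option linter.unusedSimpArgs false

namespace Cfsg.Agent.D4F

open Subgroup Cfsg.Agent.RFS Cfsg.Agent.U5F Cfsg.Agent.Fus

variable {K : Type*} [Field K] [Tri K] {E : Subgroup (U K)} {G M₀ : Subgroup (MulAut E)}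

theorem ef_nm (h4 : Z4 ≤ E) (x : U K) : Nm E x := nm_of_cm fun y _ => h4 (cm_S_S x y)

theorem ef_cm {b y : U K} (hb : b ∈ Rs) (hy : y ∈ Z3) (h1 : T (b.a * y.d) = 0) (h2 : T (b.c * y.d) = 0) : cm b y = 1 :=
  have k := cm_S_Z3 b hy
  eq_one_of_Z1 ⟨k.1, k.2.1, k.2.2.1, k.2.2.2, (cm_e3 b hy).trans h1⟩ ((cm_zR3 hb hy).trans h2)

theorem ef_c {a₁ a₂ c : K} (hw : wd a₁ a₂ ≠ 0) (h1 : B a₁ c = 0) (h2 : B a₂ c = 0) : c = 0 := by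
  obtain ⟨r, r1, -, e⟩ := B_eq_zero (fun k => hw (by simp [wd, k])) h1
  obtain ⟨s, s1, -, e'⟩ := B_eq_zero (fun k => hw (by simp [wd, k])) h2
  rw [e, (ind_of_wd hw r1 (t := -s) (by rw [map_neg, s1]) (by linear_combination e' - e)).1, zero_mul]

theorem ef_wd {a₁ a₂ a c : K} (hw : wd a₁ a₂ ≠ 0) (h1 : T (a * wd a₁ a₂) = 0) (h2 : T (c * wd a₁ a₂) = 0) :
    ∃ r, θ r = r ∧ wd a c = r * wd a₁ a₂ := by
  obtain ⟨s, t, a1, a2, rfl⟩ := span2 hw h1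
  obtain ⟨s', t', b1, b2, rfl⟩ := span2 hw h2
  exact ⟨s * t' - t * s', by simp only [TE, a1, a2, b1, b2], by simp only [wd, TE, a1, a2, b1, b2]; ring⟩

theorem ef_sc (h3 : Z3 ≤ E) {L : Subgroup (U K)} (hL : ∀ y ∈ E, y ∈ L → y ∈ Z3) : Sc E (Cn E L) := fun y hy k =>
  have a : Z3 ≤ Cn E L := fun n hn => ⟨h3 hn, fun g hg hg' => com_Z3 hn (hL g hg hg')⟩
  a (mem_Z3_of_comm fun n hn => k n (h3 hn) (a hn))

/-- The elements of `Z3` with `d` orthogonal to `u`. -/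
def Mu (u : K) : Subgroup (U K) where
  carrier := {y | y ∈ Z3 ∧ T (u * y.d) = 0}
  mul_mem' {g h} hg hh := ⟨mul_mem hg.1 hh.1, by
    simp only [UC, mem_Z3.1 hg.1, mem_Z3.1 hh.1, mul_add, T_add, hg.2, hh.2]⟩
  one_mem' := ⟨one_mem _, by simp only [UC]⟩
  inv_mem' {g} hg := ⟨inv_mem hg.1, by simp only [UC, mem_Z3.1 hg.1, mul_neg, T_neg, hg.2]⟩

theorem zc_eq (h : Dc (Tri.p K) E G M₀) (h4 : Z4 ≤ E) {g₀ : U K} (hg : g₀ ∈ E) (hb : g₀.b ≠ 0) : Zc E = Z1 := by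
  refine le_antisymm (fun y hy => ?_) fun y hy => (Z1_le h hy).1
  obtain ⟨-, k⟩ := mem_Zc.1 hy
  have y3 := mem_Z3_of_comm fun n hn => k n (h4 (Z3_le_Z4 hn))
  have d : y.d = 0 := eq_zero_of_T fun s => by
    have := cm_z4 (g := Xc s) ⟨rfl, rfl⟩ (Z3_le_Z4 y3)
    rw [cm_eq_one.2 (k _ (h4 ⟨rfl, rfl⟩)).symm] at this
    simpa only [UC, mul_comm s] using this.symm
  have := cm_z2 g₀ (n := y) ⟨y3.1, y3.2.1, y3.2.2, d⟩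
  rw [cm_eq_one.2 (k _ hg).symm] at this
  exact ⟨y3.1, y3.2.1, y3.2.2, d, (mul_eq_zero.1 this.symm).resolve_left hb⟩

theorem mem_L (h : Dc (Tri.p K) E G M₀) (h4 : Z4 ≤ E) {g₀ : U K} (hg : g₀ ∈ E) (ha : g₀.a ≠ 0) (hb : g₀.b ≠ 0) {y : U K} :
    y ∈ Uc (ch_Zc E) ↔ y ∈ Z4 ∧ ∀ g ∈ E, B g.a y.c = 0 ∧ T (g.a * y.d) = T (χ g.a * y.c) := by
  have e := zc_eq h h4 hg hb
  refine ⟨fun hy => ?_, fun ⟨y4, k⟩ => ⟨h4 y4, fun g hg => ?_⟩⟩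
  · have y4 := Uc_le_Z4 (Z3_le_Z4.trans h4) hg ha (ch_Zc E)
      (fun y _ k => Z2_le_Z3 (Z1_le_Z2 (e.le k))) (fun y _ k _ => e.le k) hy
    refine ⟨y4, fun g hg => ?_⟩
    have := cm_comm (e.le (hy.2 g hg))
    exact ⟨neg_eq_zero.1 ((cm_d4 g y4).symm.trans this.2.2.2.1), sub_eq_zero.1 ((cm_e4 g y4).symm.trans this.2.2.2.2)⟩
  · have a := cm_S_Z4 g y4
    exact cm_comm (e.ge ⟨a.1, a.2.1, a.2.2, by rw [cm_d4 g y4, (k g hg).1, neg_zero],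
      by rw [cm_e4 g y4, (k g hg).2, sub_self]⟩)

/-- `exists_top`, `t1` with `L = Zc E`, `Top = N`. -/
theorem Q_le (h : Dc (Tri.p K) E G M₀) (h4 : Z4 ≤ E) {g₀ : U K} (hg : g₀ ∈ E) (ha : g₀.a ≠ 0) (hb : g₀.b ≠ 0) : Qs ≤ E := by
  obtain ⟨N, n1, n2, n3⟩ := exists_top h (Z3_le_Z4.trans h4) hg ha hb
  have e := zc_eq h h4 hg hb
  exact fun x hx => h.t1 (iv_of_ch (ch_Zc E) G) (iv_of_ch n1 G) n2 (ef_nm h4 x) (fun y _ k => com_Z1 x (e.le k))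
    fun y hy k => e.ge (cm_Qs_Qs hx (n3 y hy k).1)

/-- `t2` with `Z1`, `Z2`, `Top = Z3`; `ch_Z2_of`. -/
theorem top_of_ch (h : Dc (Tri.p K) E G M₀) (h4 : Z4 ≤ E) {g₀ : U K} (hg : g₀ ∈ E) (ha : g₀.a ≠ 0) (hb : g₀.b ≠ 0)
    (c3 : Ch E Z3) : E = ⊤ := by
  have h3 := Z3_le_Z4.trans h4
  have c2 := ch_Z2_of h3 c3 hg ha (g' := Xc 1) (h4 ⟨rfl, rfl⟩) ⟨rfl, rfl⟩ one_ne_zero
  have c1 : Ch E Z1 := zc_eq h h4 hg hb ▸ ch_Zc E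
  exact eq_top_iff.2 fun x _ => h.t2 (iv_of_ch c1 G) (iv_of_ch c2 G) (iv_of_ch c3 G)
    (fun y _ k => mem_Z3_of_comm fun n hn => k n (h3 hn) hn) (ef_nm h4 x) (fun y _ k => com_Z1 x k)
    (fun y _ k => cm_S_Z2 x k) fun y _ k => cm_S_Z3 x k

/-- PROOF.  `M = {y ∈ Z3 | T (u y.d) = 0}` is characteristic: `M = L` for `2 ≠ 0` (`B_inj`), and for `2 = 0` it is generated by the involutions of `L`
(`Ch.of_gen`; `y.c = r u`, `T (g₀.a y.d) = T (χ g₀.a y.c)`, `sq_zQ`).  `N = Cn E M ≥ Z3` consists of the `n ∈ E ⊓ Rs` with `n.c ∈ k u` (`perp1`), `Sc E N`.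
Let `B₀ = Rs` if `2 = 0`, `B₀ = Rv (χ u)` otherwise; `s₀ : Sec G B₀ ⊥ M N` (`cm_dR`, `T_B_self`, `plane_not_line`).  `m0` gives `e₀ ∈ M` with
`B₀ ⊓ Rv e₀.d ≤ E`.  For `2 = 0` this contradicts `plane_not_line`.  Otherwise `exists_perp` gives `T (u χ u) = 0` and `Xa (r u) ∈ E` for `r ∈ k`.
Take `a₂` with `T (a₂ χ u) = 0`, `wd u a₂ ≠ 0`; `ff` with `f y = Xa (T (a₂ y.d) * a₂)` (if `T (a₂ d) = T (u d) = 0` then `d ∈ k wd u a₂ = k χ u`,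
`perp2`) for `x = Xa a`, `T (a χ u) ≠ 0`, is contradictory. -/
theorem ef_line (h : Dc (Tri.p K) E G M₀) (h4 : Z4 ≤ E) {g₀ : U K} (hg : g₀ ∈ E) (ha : g₀.a ≠ 0) (hb : g₀.b ≠ 0) {u : K}
    (hu : ∀ g ∈ E, ∃ r, θ r = r ∧ g.a = r * u) : False := by
  have h3 := Z3_le_Z4.trans h4
  obtain ⟨r₀, r1, r2⟩ := hu g₀ hg
  have r0 : r₀ ≠ 0 := fun e => ha (by rw [r2, e, zero_mul])
  have u0 : u ≠ 0 := fun e => ha (by rw [r2, e, mul_zero])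
  have cM : Ch E (Mu u) := by
    refine Ch.of_pred (fun y => y ∈ Uc (ch_Zc E) ∧ ((2 : K) = 0 → y * y = 1))
      (fun α y hy k => ⟨ch_Uc _ α y hy k.1, fun e => afn_sq α hy (k.2 e)⟩) fun y _ => ?_
    rw [mem_L h h4 hg ha hb]
    refine ⟨fun k => ⟨⟨Z3_le_Z4 k.1, fun g hg => ?_⟩, fun e => ?_⟩, fun ⟨⟨y4, k⟩, k2⟩ => ?_⟩
    · obtain ⟨r, a1, a2⟩ := hu g hg
      rw [a2, mul_assoc, T_smul a1, k.2]
      simp only [UC, k.1.2.2, and_self]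
    · have := pow_p_Z3 k.1
      rwa [two_eq_zero_iff.1 e, sq] at this
    · obtain ⟨b1, b2⟩ := k g₀ hg
      have c : y.c = 0 := by
        by_cases h2 : (2 : K) = 0
        · obtain ⟨r, a1, -, a2⟩ := B_eq_zero ha b1
          have := sq_zQ y4.1
          rw [k2 h2, y4.2, a2, mul_assoc r, T_smul a1, b2, a2, mul_left_comm, T_smul a1, mul_comm (χ _), T_mul_χ] at this
          simp only [UC] at this
          have k3 : r * r * N g₀.a = 0 := by linear_combination this + (y.z - r * r * N g₀.a) * h2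
          rw [a2, mul_self_eq_zero.1 ((mul_eq_zero.1 k3).resolve_right (N_ne_zero ha)), zero_mul]
        · exact B_inj h2 ha b1
      rw [c, mul_zero, T_zero, r2, mul_assoc, T_smul r1] at b2
      exact ⟨⟨y4.1, y4.2, c⟩, (mul_eq_zero.1 b2).resolve_left r0⟩
  obtain ⟨a₂, p1, p2⟩ := plane_not_line (2 * χ u) u
  have s₀ : Sec G (Rv (2 * χ u)) ⊥ (Mu u) (Cn E (Mu u)) := by
    refine ⟨iv_of_ch Ch.bot G, iv_of_ch cM G, iv_of_ch (ch_Cn cM) G, fun y _ k => bot_le (a := Mu u) k,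
      ef_sc h3 fun y _ k => k.1, fun k => p2 (hu (Xa a₂) (k ⟨rfl, p1, by simp only [UC]⟩)), fun b _ => ef_nm h4 b,
      fun y _ k y' _ k' => cm_eq_one.2 (com_Z3 k.1 k'.1), fun b _ y _ k => by rw [mem_bot.1 k, mul_one, one_mul],
      fun b _ b' hb' y _ k => cm_eq_one.2 (com_Z2 hb'.1 (cm_S_Z3 b k.1)), fun b hb y hy k => ?_⟩
    have yR : y ∈ Rs := mem_Rs_of_comm fun n hn => k.2 n (h3 (Z2_le_Z3 hn))
      ⟨Z2_le_Z3 hn, by rw [hn.2.2.2, mul_zero, T_zero]⟩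
    obtain ⟨r, a1, a2⟩ := hu y hy
    obtain ⟨r', b1, b2⟩ := perp1 (x := y.c) u0 fun d hd => by
      have := cm_zR3 yR (n := Xd d) ⟨rfl, rfl, rfl⟩
      rw [cm_eq_one.2 (k.2 (Xd d) (h3 ⟨rfl, rfl, rfl⟩) ⟨⟨rfl, rfl, rfl⟩, hd⟩)] at this
      exact this.symm
    refine ⟨cm_Rs_Rs hb.1 yR, ?_⟩
    have c1 := hb.2.1
    have c2 := hb.2.2
    rw [cm_dR hb.1 yR, a2, b2]
    simp only [TE, a1, b1] at c1 c2 ⊢
    linear_combination r * c2 - r' * c1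
  obtain ⟨e₀, -, e1, e2⟩ := h.m0 s₀
  have e3 : ∀ a, T (a * (2 * χ u)) = 0 → T (a * e₀.d) = 0 → ∃ r, θ r = r ∧ a = r * u := fun a k k' =>
    hu (Xa a) (e2 _ ⟨rfl, k, by simp only [UC]⟩ (ef_cm rfl e1.1 k' (by simp only [UC])))
  by_cases h2 : (2 : K) = 0
  · obtain ⟨x, x1, x2⟩ := plane_not_line e₀.d u
    exact x2 (e3 x (by rw [h2, zero_mul, mul_zero, T_zero]) x1)
  have w0 : 2 * χ u ≠ 0 := mul_ne_zero h2 (χ_ne_zero u0)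
  generalize 2 * χ u = w at *
  obtain ⟨a, a0, a1, a2⟩ := exists_perp w e₀.d
  obtain ⟨r, b1, rfl⟩ := e3 a (mul_comm a w ▸ a1) (mul_comm a _ ▸ a2)
  rw [mul_comm, mul_assoc, T_smul b1] at a1
  have uw := (mul_eq_zero.1 a1).resolve_left (left_ne_zero_of_mul a0)
  have hw : wd u a₂ ≠ 0 := fun k => p2 (of_wd u0 k)
  obtain ⟨t, t1, t2⟩ := perp2 hw uw p1
  obtain ⟨x, x1⟩ := exists_T w0 (map_one θ)
  obtain ⟨y, -, -, k⟩ := h.ff s₀ (fun y => Xa (T (a₂ * y.d) * a₂))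
    (fun y _ _ => ⟨rfl, by simp only [UC, mul_assoc, T_smul (θT _), p1], by simp only [UC]⟩)
    (fun y _ hy y' _ hy' k b hb => by
      obtain ⟨s, s1, s2⟩ := hu _ k
      have m := mul_mem (inv_mem hy) hy'
      have := (ind_of_wd hw (s := -s) (t := T (a₂ * (y⁻¹ * y').d)) (by rw [map_neg, s1]) (θT _) (by
        simp only [UC, mem_Z3.1 hy.1, mem_Z3.1 hy'.1, mul_add, mul_neg, T_add, T_neg] at s2 ⊢
        linear_combination s2)).2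
      obtain ⟨t', t3, t4⟩ := perp2 hw m.2 this
      have k1 : ∀ z, T (z * w) = 0 → T (z * (y⁻¹ * y').d) = 0 := fun z hz => by
        rw [t2, mul_left_comm, T_smul t1] at hz
        rw [t4, mul_left_comm, T_smul t3, (mul_eq_zero.1 hz).resolve_left (left_ne_zero_of_mul (t2 ▸ w0)), mul_zero]
      exact ef_cm hb.1 m.1 (k1 _ hb.2.1) (k1 _ hb.2.2)) (ef_nm h4 (Xa x))
  obtain ⟨s, s1, s2⟩ := hu _ k
  simp only [UC] at s2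
  rw [mul_comm, show x = s * u + T (a₂ * y.d) * a₂ by linear_combination s2, add_mul, T_add, mul_assoc, mul_assoc,
    T_smul s1, T_smul (θT _), uw, p1] at x1
  simp at x1

/-- PROOF.  `Xa g.a ∈ E` for `g ∈ E` (`Q_le`).  By `ef_line` (`of_wd`) some `g₁.a, g₂.a` are independent, `v = wd g₁.a g₂.a`.  `y ∈ L` has `y.c = 0` (`B_eq_zero` twice).  If some `g.a` is not orthogonal to `v`,
`L = Z2` (`perp2`) and `Uc c₂ = Z3` (`eq_zero_of_B`, `cm_c`).  Otherwise `L = Y = {y ∈ Z3 | y.d ∈ k v}`, `N = Cn E L = E ⊓ Rv v`, `Sc E N`.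
If `2 = 0`: `t1` with `L`, `Top = N` gives `Rv v ≤ E` (`B_eq_wd`, `perp2`), `ch_Z3_two`.  If `2 ≠ 0`: `ch_Z3_odd`.  Then `top_of_ch`. -/
theorem ef_top (h : Dc (Tri.p K) E G M₀) (h4 : Z4 ≤ E) {g₀ : U K} (hg : g₀ ∈ E) (ha : g₀.a ≠ 0) (hb : g₀.b ≠ 0) : E = ⊤ := by
  have h3 := Z3_le_Z4.trans h4
  have hX : ∀ g ∈ E, Xa g.a ∈ E := fun g k => by
    have := mul_mem (inv_mem (Q_le h h4 hg ha hb (show g * (Xa g.a)⁻¹ ∈ Qs by simp only [mem_Qs, UC, add_neg_cancel]))) k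
    rwa [mul_inv_rev, inv_inv, inv_mul_cancel_right] at this
  obtain ⟨g₂, hg₂, hw⟩ : ∃ g ∈ E, wd g₀.a g.a ≠ 0 := by
    by_contra! k
    exact ef_line h h4 hg ha hb fun g hg' => of_wd ha (k g hg')
  have mL : ∀ y, y ∈ Uc (ch_Zc E) ↔ y ∈ Z3 ∧ ∀ g ∈ E, T (g.a * y.d) = 0 := fun y => by
    rw [mem_L h h4 hg ha hb]
    refine ⟨fun ⟨y4, k⟩ => ?_, fun ⟨y3, k⟩ => ⟨Z3_le_Z4 y3, fun g hg => by simp only [UC, y3.2.2, k g hg, and_self]⟩⟩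
    have c := ef_c hw (k _ hg).1 (k _ hg₂).1
    exact ⟨⟨y4.1, y4.2, c⟩, fun g hg => by simpa only [UC, c] using (k g hg).2⟩
  have cL := ch_Uc (ch_Zc E)
  have dL : ∀ y ∈ Uc (ch_Zc E), ∃ r, θ r = r ∧ y.d = r * wd g₀.a g₂.a := fun y k =>
    perp2 hw (((mL y).1 k).2 _ hg) (((mL y).1 k).2 _ hg₂)
  have L2 : Z2 ≤ Uc (ch_Zc E) := fun y k => (mL y).2 ⟨Z2_le_Z3 k, fun g _ => by simp only [UC, k.2.2.2]⟩
  refine top_of_ch h h4 hg ha hb ?_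
  by_cases hv : ∀ g ∈ E, T (g.a * wd g₀.a g₂.a) = 0
  swap
  · push Not at hv
    obtain ⟨g, k1, k2⟩ := hv
    have c2 : Ch E Z2 := cL.congr fun y _ => ⟨fun k => ?_, fun k => L2 k⟩
    · refine (ch_Uc c2).congr fun y hy => ⟨fun k => ?_, fun k => ⟨hy, fun g _ => cm_comm (cm_S_Z3 g k)⟩⟩
      have a : y.a = 0 := eq_zero_of_B fun s =>
        neg_eq_zero.1 ((cm_d4 y (n := Xc s) ⟨rfl, rfl⟩).symm.trans (k.2 _ (h4 ⟨rfl, rfl⟩)).2.2.2)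
      have b := (cm_c y g₀).symm.trans (k.2 _ hg).2.2.1
      rw [a, mul_zero, sub_zero] at b
      have y4 : y ∈ Z4 := ⟨a, (mul_eq_zero.1 b).resolve_right ha⟩
      exact ⟨a, y4.2, ef_c hw (neg_eq_zero.1 ((cm_d4 _ y4).symm.trans (cm_comm (k.2 _ hg)).2.2.2))
        (neg_eq_zero.1 ((cm_d4 _ y4).symm.trans (cm_comm (k.2 _ hg₂)).2.2.2))⟩
    · obtain ⟨r, r1, r2⟩ := dL y k
      obtain ⟨y3, k3⟩ := (mL y).1 k
      have := k3 g k1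
      rw [r2, mul_left_comm, T_smul r1] at this
      exact ⟨y3.1, y3.2.1, y3.2.2, by rw [r2, (mul_eq_zero.1 this).resolve_right k2, zero_mul]⟩
  have eY : ∀ y, y ∈ Uc (ch_Zc E) ↔ y ∈ Z3 ∧ ∃ r, θ r = r ∧ y.d = r * wd g₀.a g₂.a := fun y =>
    ⟨fun k => ⟨((mL y).1 k).1, dL y k⟩, fun ⟨y3, r, r1, r2⟩ => (mL y).2 ⟨y3, fun g k => by
      rw [r2, mul_left_comm, T_smul r1, hv g k, mul_zero]⟩⟩
  have cR : ∀ x ∈ Rv (wd g₀.a g₂.a), ∀ y ∈ Uc (ch_Zc E), x * y = y * x := fun x hx y hy => by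
    obtain ⟨y3, r, r1, r2⟩ := (eY y).1 hy
    exact cm_eq_one.1 (ef_cm hx.1 y3 (by rw [r2, mul_left_comm, T_smul r1, hx.2.1, mul_zero])
      (by rw [r2, mul_left_comm, T_smul r1, hx.2.2, mul_zero]))
  have eN : ∀ g ∈ E, g ∈ Cn E (Uc (ch_Zc E)) ↔ g ∈ Rv (wd g₀.a g₂.a) := fun g k => by
    refine ⟨fun m => ?_, fun m => ⟨k, fun y _ hy => cR g m y hy⟩⟩
    have gR : g ∈ Rs := mem_Rs_of_comm fun n hn => m.2 n (h3 (Z2_le_Z3 hn)) (L2 hn)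
    have := cm_zR3 gR (n := Xd (wd g₀.a g₂.a)) ⟨rfl, rfl, rfl⟩
    rw [cm_eq_one.2 (m.2 (Xd (wd g₀.a g₂.a)) (h3 ⟨rfl, rfl, rfl⟩) ((eY _).2 ⟨⟨rfl, rfl, rfl⟩, 1, map_one θ, (one_mul _).symm⟩))] at this
    exact ⟨gR, hv g k, this.symm⟩
  by_cases h2 : (2 : K) = 0
  · refine ch_Z3_two h2 (ch_Cn cL) cL hw (fun x hx => h.t1 (iv_of_ch cL G) (iv_of_ch (ch_Cn cL) G)
      (ef_sc h3 fun y _ k => ((eY y).1 k).1) (ef_nm h4 x) (fun y _ k => cR x hx y k) fun y hy k => ?_) eN fun g _ => eY g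
    have m := (eN y hy).1 k
    obtain ⟨r, r1, r2⟩ := ef_wd hw m.2.1 hx.2.2
    obtain ⟨s, s1, s2⟩ := ef_wd hw hx.2.1 m.2.2
    exact (eY _).2 ⟨cm_Rs_Rs hx.1 m.1, r - s, by rw [map_sub, r1, s1],
      by rw [cm_dR hx.1 m.1, B_eq_wd h2, B_eq_wd h2, r2, s2, sub_mul]⟩
  · exact ch_Z3_odd h2 (ch_Cn cL) hw ⟨hv _ hg, hv _ hg₂⟩ hw (fun g k m => ((eN g k).1 m).1)
      ⟨hX _ hg, (eN _ (hX _ hg)).2 ⟨rfl, hv g₀ hg, by simp only [UC]⟩, rfl,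
        hX _ hg₂, (eN _ (hX _ hg₂)).2 ⟨rfl, hv g₂ hg₂, by simp only [UC]⟩, rfl⟩
      fun y y4 k => ⟨h4 y4, (eN _ (h4 y4)).2 ⟨y4.2, by rw [y4.1, zero_mul, T_zero], k⟩⟩

end Cfsg.Agent.D4F
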