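import Cfsg.Agent.D4F.Fld
import Cfsg.Agent.D4F.Dc2

/-!
Essential subgroups inside `Qs` or `P s t`; essential subgroups contain `Z2`.
Read `D4F/U`, `D4F/Cm`, `D4F/Ex` and the signatures of `D4F/Fld`, `D4F/Dc1`, `D4F/Dc2`, `U5F/Es`, `RFS/Es` (model: `U5F/EA`).  Commuting elements have
`cm g h = 1` (`cm_eq_one`); read off coordinates with the `cm_*` formulas; `cm_swap`, `cm_comm`, `nm_of_cm`.  Invariance: `iv_of_ch`.
-/

set_option autoImplicit false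
set_option linter.unusedSectionVars false
set_option linter.unusedSimpArgs false

namespace Cfsg.Agent.D4F

open Subgroup Cfsg.Agent.RFS Cfsg.Agent.U5F Cfsg.Agent.Fus

variable {K : Type*} [Field K] [Tri K] {E : Subgroup (U K)} {G M₀ : Subgroup (MulAut E)}

theorem Z1_le (h : Dc (Tri.p K) E G M₀) : Z1 ≤ Om (Tri.p K) E := fun _ hz =>
  ⟨h.zc fun g _ => com_Z1 g hz, pow_p_Z3 (Z2_le_Z3 (Z1_le_Z2 hz))⟩

theorem eqq_gen {Ω : Type*} [Group Ω] [Finite Ω] {p : ℕ} [Fact p.Prime] {E A D : Subgroup Ω} {G M₀ : Subgroup (MulAut E)}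
    (h : Dc p E G M₀) (hE : E ≤ A) (hD : ∀ b ∈ A, ∀ b' ∈ A, cm b b' ∈ D) (hc : ∀ b ∈ A, ∀ z ∈ D, b * z = z * b)
    (hg : ∀ e ∈ A, ∀ z ∈ D, ∃ x ∈ A, ∃ y ∈ A, cm x e = 1 ∧ cm y e = 1 ∧ cm x y = z) : A ≤ E := by
  by_contra hn
  have hZ : D ≤ Zc E := fun z hz => h.zc fun g k => hc g (hE k) z hz
  have nm : ∀ b ∈ A, Nm E b := fun b hb => nm_of_cm fun y hy => (mem_Zc.1 (hZ (hD b hb y (hE hy)))).1
  obtain ⟨e, he, -, k⟩ := h.m0 (B := A) (M := ⊥) (L := Zc E) (Top := ⊤)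
    ⟨iv_of_ch Ch.bot G, iv_of_ch (ch_Zc E) G, iv_of_ch Ch.top G, fun y _ k => (mem_bot.1 k).symm ▸ one_mem _, sc_top, hn,
      nm, fun y _ k y' hy' _ => mem_bot.2 (cm_eq_one.2 ((mem_Zc.1 k).2 y' hy')),
      fun b _ y _ k => by rw [mem_bot.1 k, mul_one, one_mul],
      fun b hb b' hb' y hy _ => mem_bot.2 (cm_eq_one.2 (hc b' hb' _ (hD b hb y (hE hy)))),
      fun b hb y hy _ => hZ (hD b hb y (hE hy))⟩
  have h1 : D ≤ Dm E ⊤ ⊤ := fun z hz => by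
    obtain ⟨x, hx, y, hy, c1, c2, rfl⟩ := hg e (hE he) z hz
    exact mem_Dm (k x hx c1) trivial (k y hy c2) trivial
  have h2 : Dm E ⊤ ⊤ ≤ D := Dm_le fun a ha _ b hb _ => hD a (hE ha) b (hE hb)
  exact hn fun x hx => h.c1 (ch_Dm Ch.top Ch.top) (nm x hx) (fun y _ k => hc x hx y (h2 k))
    fun y hy => h1 (hD x hx y (hE hy))

theorem eqq_Z2 {g z : U K} (h : g ∈ Z2) (hz : z ∈ Z2) (e1 : g.e = z.e) (e2 : g.z = z.z) : g = z := by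
  rw [mem_Z2] at h hz; ext <;> simp only [h, hz, e1, e2]

theorem eqq_par {s t a c : K} (h0 : s ≠ 0 ∨ t ≠ 0) (h : t * a = s * c) :
    ∃ y, a = s * y ∧ c = t * y ∧ (θ s = s → θ t = t → θ a = a → θ c = c → θ y = y) := by
  rcases h0 with k | k
  · exact ⟨a / s, by field_simp, by field_simp; linear_combination -h, fun h1 _ h2 _ => by rw [map_div₀, h1, h2]⟩
  · exact ⟨c / t, by field_simp; linear_combination h, by field_simp, fun _ h1 _ h2 => by rw [map_div₀, h1, h2]⟩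

/-- PROOF.  Suppose `¬ Qs ≤ E`.  `m0` for `Sec G Qs ⊥ (Zc E) ⊤` (`cm_Qs_Qs`) gives `e₀ ∈ E` whose centraliser in `Qs` lies in `E`.  With
`hyp e₀.c e₀.d`, `Xc c₁`, `Xd d₁ ∈ E` have commutator `Xz r` (`cm_zQ`), so `Z1 ≤ D = Dm E ⊤ ⊤ ≤ Z1`, and `c1 (ch_Dm ..)` applies to `x ∈ Qs`. -/
theorem caseQ (h : Dc (Tri.p K) E G M₀) (hQ : E ≤ Qs) : E = Qs := by
  refine le_antisymm hQ (eqq_gen h hQ (D := Z1) (fun _ hb _ hb' => cm_Qs_Qs hb hb') (fun b _ _ hz => com_Z1 b hz)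
    fun e he z hz => ?_)
  obtain ⟨c, d, h1, h2, h3⟩ := hyp e.c e.d z.hz
  have qc : Xc c ∈ (Qs : Subgroup (U K)) := rfl
  have qd : Xd d ∈ (Qs : Subgroup (U K)) := rfl
  refine ⟨_, qc, _, qd, eq_one_of_Z1 (cm_Qs_Qs qc he) ?_, eq_one_of_Z1 (cm_Qs_Qs qd he) ?_,
    eqq_Z2 (Z1_le_Z2 (cm_Qs_Qs qc qd)) (Z1_le_Z2 hz) ((cm_Qs_Qs qc qd).2.2.2.2.trans hz.2.2.2.2.symm) ?_⟩
  · simp only [cm_zQ qc he, sf, UC, h1]
  · simp only [cm_zQ qd he, sf, UC, h2]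
  · simp only [cm_zQ qc qd, sf, UC, h3]

/-- PROOF.  `g ∈ P s t` has `g.a = s y`, `g.c = t y` for some `y`; `cm_P`: `[P, P] ≤ Ln s t ≤ Z2 ≤ Zc E` (`com_Z2`, `Dc.zc`).  Suppose
`¬ P s t ≤ E`; `m0` for `Sec G (P s t) ⊥ (Zc E) ⊤` gives `e₀` with parameters `y₀, d₀`.  Let `r ∈ k`.  If `y₀ = 0` take `y₁ ≠ 0` with
`T (y₁ d₀) = 0`, `g = Xr (s y₁) (t y₁) 0`, `Xd d₁` with `T (y₁ d₁) = r`.  Otherwise take `wd y₀ y₁ ≠ 0`, `g = Xr (s y₁) (t y₁) d'` with `d'` chosen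
(`exists_T`) to commute with `e₀`, `d₁` from `dual2`.  Then `cm g (Xd d₁)` has `(e, z) = (s r, t r)`.  So `Ln s t ≤ D = Dm E ⊤ ⊤ ≤ Ln s t`;
`c1 (ch_Dm ..)`. -/
theorem caseP (h : Dc (Tri.p K) E G M₀) {s t : K} (hs : θ s = s) (ht : θ t = t) (h0 : s ≠ 0 ∨ t ≠ 0) (hP : E ≤ P s t) :
    P s t ≤ E := by
  have par : ∀ g ∈ P s t, ∃ y, g.b = 0 ∧ g.a = s * y ∧ g.c = t * y := fun g hg =>
    let ⟨y, h1, h2, _⟩ := eqq_par h0 hg.2
    ⟨y, hg.1, h1, h2⟩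
  have z2 : ∀ {g g' : U K} {y y' : K}, g.b = 0 ∧ g.a = s * y ∧ g.c = t * y → g'.b = 0 ∧ g'.a = s * y' ∧ g'.c = t * y' →
      cm g g' ∈ Z2 := fun k k' => ⟨cm_a _ _, cm_b _ _, by simp only [cm_c, k.1, k'.1, UC], (cm_P hs ht k k').1⟩
  refine eqq_gen h hP (D := Ln s t) (fun b hb b' hb' => ?_) (fun b hb z hz => com_Z2 hb.1 hz.1) fun e he z hz => ?_
  · obtain ⟨y, k⟩ := par b hb
    obtain ⟨y', k'⟩ := par b' hb'
    exact ⟨z2 k k', by rw [(cm_P hs ht k k').2.1, (cm_P hs ht k k').2.2]; ring⟩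
  obtain ⟨y₀, k₀⟩ := par e he
  obtain ⟨r, r1, r2, hr⟩ := eqq_par h0 hz.2
  replace hr := hr hs ht z.he z.hz
  obtain ⟨y, d', d, e1, e2, e3⟩ : ∃ y d' d, T (y * e.d) - T (y₀ * d') + s * t * (T (χ y₀ * y) - T (χ y * y₀)) = 0 ∧
      T (y₀ * d) = 0 ∧ T (y * d) = r := by
    by_cases k : y₀ = 0
    · obtain ⟨y, y0, c, -⟩ := exists_perp e.d 0
      obtain ⟨d, hd⟩ := exists_T y0 hr
      exact ⟨y, 0, d, by simp only [k, mul_comm y, c, UC], by simp only [k, UC], hd⟩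
    · obtain ⟨y, hy⟩ := exists_wd k
      obtain ⟨d', hd'⟩ := exists_T k (r := T (y * e.d) + s * t * (T (χ y₀ * y) - T (χ y * y₀)))
        (by simp only [map_add, map_mul, map_sub, θT, hs, ht])
      obtain ⟨d, c1, c2⟩ := dual2 hy (map_zero θ) hr
      exact ⟨y, d', d, by rw [hd']; ring, c1, c2⟩
  have kx : (Xr (s * y) (t * y) d').b = 0 ∧ (Xr (s * y) (t * y) d').a = s * y ∧ (Xr (s * y) (t * y) d').c = t * y :=
    ⟨rfl, rfl, rfl⟩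
  have kd : (Xd d).b = 0 ∧ (Xd d).a = s * 0 ∧ (Xd d).c = t * 0 := ⟨rfl, (mul_zero _).symm, (mul_zero _).symm⟩
  refine ⟨_, ⟨rfl, by rw [kx.2.1, kx.2.2]; ring⟩, _, ⟨rfl, by rw [kd.2.1, kd.2.2]; ring⟩,
    eqq_Z2 (z2 kx k₀) (one_mem _) ?_ ?_, eqq_Z2 (z2 kd k₀) (one_mem _) ?_ ?_, eqq_Z2 (z2 kx kd) hz.1 ?_ ?_⟩
  · simp only [(cm_P hs ht kx k₀).2.1, Xr_co, e1, UC]
  · simp only [(cm_P hs ht kx k₀).2.2, Xr_co, e1, UC]
  · simp only [(cm_P hs ht kd k₀).2.1, e2, UC]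
  · simp only [(cm_P hs ht kd k₀).2.2, e2, UC]
  · simp only [(cm_P hs ht kx kd).2.1, e3, r1, UC]
  · simp only [(cm_P hs ht kx kd).2.2, e3, r2, UC]

/-- PROOF.  Suppose not, `W = Om p E ≥ Z1`.  By `c1 (ch_Om ..)` some `w ∈ W` has `w.b ≠ 0` (`cm_S_Z2`, `com_Z2`).  Every `g ∈ E` commutes with
`w`: `g.a = (g.b / w.b) * w.a` (`cm_c`), and `E ⊓ Z2 ≤ Z1` (`cm_z2`).  If `w.a = 0`, `caseQ`.  If `2 = 0`, `w * w = 1` (`two_eq_zero_iff`)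
contradicts `sq_c`.  Let `2 ≠ 0`, `a₁ = w.a`.  `ff` for `Sec G Z2 ⊥ W ⊤` with `f y = Xe y.b y.hb`: every `x` with `Nm E x` has
`(Xe r)⁻¹ * x ∈ E` for some `r`.  Elements of `E ⊓ Rs` have `a = 0`, `c = 0` (`cm_d4`, `B_inj`).  If `y ∈ Z3` has `T (a₁ y.d) = 0` and
`w.b y.e + T (w.c y.d) = 0` then `y ∈ E` (it normalises `E`; `(Xe r)⁻¹ * y` commutes with `w`, `cm_z3`, so `r = 0`).  Take `c ≠ 0` with
`T (χ a₁ c) = 0` (`exists_perp`), `d` with `w.b T (a₁ d) = T (w.c * B a₁ c)`, `x = Xr 0 c d`: `cm g x` is such a `y` for all `g ∈ E` (`cm_d4`,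
`cm_e4`, `T_B_self`), so `(Xe r)⁻¹ * x ∈ E ⊓ Rs` has `c ≠ 0`. -/
theorem Z2_le (h : Dc (Tri.p K) E G M₀) : Z2 ≤ E := by
  by_contra hn
  have hW := Z1_le h
  have hZE : (Z1 : Subgroup (U K)) ≤ E := fun z hz => (mem_Zc.1 (hW hz).1).1
  have nm : ∀ b ∈ (Z2 : Subgroup (U K)), Nm E b := fun b hb => nm_of_cm fun y _ => hZE (cm_comm (cm_S_Z2 y hb))
  obtain ⟨w, hw, wb⟩ : ∃ w ∈ Om (Tri.p K) E, w.b ≠ 0 := by
    by_contra! c
    exact hn fun x hx => h.c1 (ch_Om _ E) (nm x hx) (fun y _ k => (com_Z2 (c y k) hx).symm)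
      fun y _ => hW (cm_comm (cm_S_Z2 y hx))
  have cw : ∀ g ∈ E, cm w g = 1 := fun g hg => cm_eq_one.2 ((mem_Zc.1 hw.1).2 g hg)
  have ga : ∀ g ∈ E, g.a = g.b / w.b * w.a := fun g hg => by
    have := cm_c w g
    simp only [cw g hg, UC] at this
    field_simp
    linear_combination -this
  have z1 : ∀ n ∈ E, n ∈ Z2 → n.e = 0 := fun n k k' => by
    have := cm_z2 w k'
    simp only [cw n k, UC] at this
    exact (mul_eq_zero.1 this.symm).resolve_left wb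
  by_cases wa : w.a = 0
  · rw [caseQ h fun g hg => by rw [mem_Qs, ga g hg, wa, mul_zero]] at hn
    exact hn fun x hx => hx.1
  by_cases h2 : (2 : K) = 0
  · have k := hw.2
    have := sq_c w
    rw [two_eq_zero_iff.1 h2, pow_two] at k
    simp only [k, h2, UC] at this
    exact mul_ne_zero wb wa (neg_eq_zero.1 this.symm)
  have ff : ∀ x, Nm E x → ∃ (r : K) (hr : θ r = r), (Xe r hr)⁻¹ * x ∈ E := fun x hx => by
    obtain ⟨y, -, -, k⟩ := h.ff (B := Z2) (M := ⊥) (L := Om (Tri.p K) E) (Top := ⊤)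
      ⟨iv_of_ch Ch.bot G, iv_of_ch (ch_Om _ E) G, iv_of_ch Ch.top G, fun y _ k => (mem_bot.1 k).symm ▸ one_mem _, sc_top,
        hn, nm, fun y _ k y' hy' _ => mem_bot.2 (cm_eq_one.2 ((mem_Zc.1 k.1).2 y' hy')),
        fun b _ y _ k => by rw [mem_bot.1 k, mul_one, one_mul],
        fun b hb b' _ y _ _ => mem_bot.2 (cm_eq_one.2 (com_Z1 b' (cm_comm (cm_S_Z2 y hb)))),
        fun b hb y _ _ => hW (cm_comm (cm_S_Z2 y hb))⟩
      (fun y => Xe y.b y.hb) (fun _ _ _ => ⟨rfl, rfl, rfl, rfl⟩)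
      (fun y _ _ y' _ _ k b hb => mem_bot.2 (cm_eq_one.2 (com_Z2 (by
        have := z1 _ k (mul_mem (inv_mem ⟨rfl, rfl, rfl, rfl⟩) ⟨rfl, rfl, rfl, rfl⟩)
        simpa only [mem_Rs, UC] using this) hb).symm)) hx
    exact ⟨_, _, k⟩
  have lam : ∀ g : U K, θ (g.b / w.b) = g.b / w.b := fun g => by rw [map_div₀, g.hb, w.hb]
  have hA : ∀ g ∈ E, g.b = 0 → g.c = 0 := fun g hg k => by
    have := cm_d4 w (n := g) ⟨by rw [ga g hg, k, zero_div, zero_mul], k⟩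
    simp only [cw g hg, UC] at this
    exact B_inj h2 wa (neg_eq_zero.1 this.symm)
  have hB : ∀ y ∈ Z3, T (w.a * y.d) = 0 → w.b * y.e + T (w.c * y.d) = 0 → y ∈ E := fun y hy k1 k2 => by
    obtain ⟨r, hr, k⟩ := ff y (nm_of_cm fun g hg => hZE (cm_comm (by
      have := cm_S_Z3 g hy
      exact ⟨this.1, this.2.1, this.2.2.1, this.2.2.2, by
        rw [cm_e3 g hy, ga g hg, mul_assoc, T_smul (lam g), k1, mul_zero]⟩)))
    have := cm_z3 w (n := (Xe r hr)⁻¹ * y) (mul_mem (inv_mem ⟨rfl, rfl, rfl⟩) hy)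
    simp only [cw _ k, UC, k1] at this
    obtain rfl : r = 0 := mul_left_cancel₀ wb (by linear_combination this + k2)
    have e : Xe (0 : K) hr = 1 := rfl
    rwa [e, inv_one, one_mul] at k
  obtain ⟨c, c0, c1, -⟩ := exists_perp (χ w.a) 0
  obtain ⟨d, hd⟩ := exists_T wa (r := T (w.c * B w.a c) / w.b) (by rw [map_div₀, θT, w.hb])
  have x4 : Xr 0 c d ∈ (Z4 : Subgroup (U K)) := ⟨rfl, rfl⟩
  obtain ⟨r, hr, k⟩ := ff (Xr 0 c d) (nm_of_cm fun g hg => cm_comm (hB _ (cm_S_Z4 g x4) (by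
    rw [cm_d4 g x4, ga g hg, B_smul_left (lam g), mul_neg, T_neg, mul_left_comm, T_smul (lam g), T_B_self]
    simp only [Xr_co, c1, UC]) (by
    rw [cm_d4 g x4, cm_e4 g x4, ga g hg, B_smul_left (lam g), mul_neg, T_neg, mul_left_comm w.c, T_smul (lam g),
      mul_assoc, T_smul (lam g), χ_smul (lam g), mul_assoc, T_smul (r := (g.b / w.b) ^ 2) (by rw [map_pow, lam g])]
    simp only [Xr_co, c1, hd]
    field_simp
    ring)))
  have := hA _ k (by simp only [UC, Xr_co])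
  simp only [UC, Xr_co] at this
  exact c0 this

end Cfsg.Agent.D4F
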