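import Cfsg.Agent.D4F.EQ
import Cfsg.Agent.D4F.Dc3

/-!
Essential subgroups `Z3 ≤ E ≤ Rs` with centre `Z2`.  `W = Zc E = Z2`, `L = Uc (ch_Zc E) ≥ Z3`; `Rs` normalises `E` (`cm_Rs_Rs`).
Read `D4F/U`, `D4F/Cm`, `D4F/Ex` and the signatures of `D4F/Fld`, `D4F/Dc1`, `D4F/Dc2`, `U5F/Es`, `RFS/Es` (model: `U5F/EA`).  Commuting elements have
`cm g h = 1` (`cm_eq_one`); read off coordinates with the `cm_*` formulas; `cm_swap`, `cm_comm`, `nm_of_cm`.  Invariance: `iv_of_ch`.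
-/

set_option autoImplicit false
set_option linter.unusedSectionVars false
set_option linter.unusedSimpArgs false

namespace Cfsg.Agent.D4F

open Subgroup Cfsg.Agent.RFS Cfsg.Agent.U5F Cfsg.Agent.Fus

variable {K : Type*} [Field K] [Tri K] {E : Subgroup (U K)} {G M₀ : Subgroup (MulAut E)}

theorem er1_W (h3 : Z3 ≤ E) (hR : E ≤ Rs) (hW : Zc E ≤ Z2) {y : U K} : y ∈ Zc E ↔ y ∈ Z2 :=
  ⟨fun k => hW k, fun k => mem_Zc.2 ⟨h3 (Z2_le_Z3 k), fun _ hg => (com_Z2 (hR hg) k).symm⟩⟩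

theorem er1_cmW (h3 : Z3 ≤ E) (hR : E ≤ Rs) (hW : Zc E ≤ Z2) {x y : U K} (hx : x ∈ Rs) (hy : y ∈ Rs) :
    cm x y ∈ Zc E ↔ B y.a x.c = B x.a y.c := by
  have k := cm_Rs_Rs hx hy
  rw [er1_W h3 hR hW, ← sub_eq_zero, ← cm_dR hx hy]
  exact ⟨fun e => e.2.2.2, fun e => ⟨k.1, k.2.1, k.2.2, e⟩⟩

theorem er1_L (h3 : Z3 ≤ E) (hR : E ≤ Rs) (hW : Zc E ≤ Z2) {y : U K} (hy : y ∈ Z3) : y ∈ Uc (ch_Zc E) :=
  mem_Uc.2 ⟨h3 hy, fun g _ => cm_comm ((er1_W h3 hR hW).2 (cm_S_Z3 g hy))⟩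

theorem er1_sec (h3 : Z3 ≤ E) (hR : E ≤ Rs) (hW : Zc E ≤ Z2) {A : Subgroup (U K)} (hA : A ≤ Rs) (n : ¬ A ≤ E) :
    Sec G A (Zc E) (Uc (ch_Zc E)) ⊤ where
  iM := iv_of_ch (ch_Zc E) G
  iL := iv_of_ch (ch_Uc _) G
  iT := iv_of_ch Ch.top G
  ML _ _ k := er1_L h3 hR hW (Z2_le_Z3 (hW k))
  top := sc_top
  nle := n
  nm _ hb := nm_of_cm fun _ hy => h3 (cm_Rs_Rs (hA hb) (hR hy))
  ab _ _ k y' hy' _ := (mem_Uc.1 k).2 y' hy'
  h0 _ hb _ _ k := com_Z2 (hA hb) (hW k)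
  h1 _ hb b' _ _ hy _ := (er1_W h3 hR hW).2 (cm_S_Z3 b' (cm_Rs_Rs (hA hb) (hR hy)))
  h2 _ hb _ hy _ := er1_L h3 hR hW (cm_Rs_Rs (hA hb) (hR hy))

theorem er1_par {s t a c : K} (h0 : s ≠ 0 ∨ t ≠ 0) (e : t * a = s * c) : ∃ ξ, a = s * ξ ∧ c = t * ξ := by
  by_cases hs : s = 0
  · have ht := h0.resolve_left (not_not.2 hs)
    subst hs
    refine ⟨c / t, ?_, by field_simp⟩
    rw [zero_mul] at e ⊢
    exact (mul_eq_zero.1 e).resolve_left ht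
  · exact ⟨a / s, by field_simp, by field_simp; linear_combination -e⟩

theorem er1_Bmu {s t : K} (hs : θ s = s) (ht : θ t = t) (ξ a c : K) :
    B a (t * ξ) = B (s * ξ) c ↔ B (t * a - s * c) ξ = 0 := by
  rw [← sub_eq_zero]
  refine Eq.congr_left ?_
  simp only [TE, hs, ht]; ring

theorem er1_fld (h2 : (2 : K) = 0) {a₀ c₀ a c : K} (h0 : a₀ ≠ 0 ∨ c₀ ≠ 0)
    (H : ∀ A C, B a₀ C = B A c₀ → B a C = B A c) : ∃ r, θ r = r ∧ a = r * a₀ ∧ c = r * c₀ := by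
  have bs : ∀ u : K, B u u = 0 := fun u => by rw [B_self, h2, zero_mul]
  by_cases hw : wd a₀ c₀ = 0
  · obtain ⟨s, t, u, hs, ht, hst, hu, rfl, rfl⟩ := dep_of_wd hw h0
    have e1 : t * a - s * c = 0 := eq_zero_of_B fun ξ => (er1_Bmu hs ht ξ a c).1 (H _ _ (by
      simp only [TE, hs, ht]; ring))
    obtain ⟨r, hr, -, rfl⟩ := B_eq_zero hu (c := c) (by
      rw [← H u 0 (by rw [B_zero, B_smul ht, bs, mul_zero]), B_zero])
    obtain ⟨r', hr', -, rfl⟩ := B_eq_zero hu (c := a) (by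
      rw [B_comm, H 0 u (by rw [zero_B, B_smul_left hs, bs, mul_zero]), zero_B])
    have e2 : t * r' = s * r := mul_right_cancel₀ hu (by linear_combination e1)
    obtain ⟨ρ, e3, e4⟩ := er1_par hst e2
    refine ⟨ρ, ?_, by rw [e3]; ring, by rw [e4]; ring⟩
    rcases hst with k | k
    · rw [e3, map_mul, hs] at hr'
      exact mul_left_cancel₀ k hr'
    · rw [e4, map_mul, ht] at hr
      exact mul_left_cancel₀ k hr
  · have ha : a₀ ≠ 0 := fun e => hw (by simp [wd, e])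
    have hc : c₀ ≠ 0 := fun e => hw (by simp [wd, e])
    obtain ⟨r, hr, -, rfl⟩ := B_eq_zero hc (c := c) (by rw [← H c₀ 0 (by rw [B_zero, bs]), B_zero])
    obtain ⟨r', hr', -, rfl⟩ := B_eq_zero ha (c := a) (by rw [B_comm, H 0 a₀ (by rw [zero_B, bs]), zero_B])
    have e := H a₀ c₀ rfl
    rw [B_smul_left hr', B_smul hr, B_eq_wd h2] at e
    exact ⟨r, hr, by rw [mul_right_cancel₀ hw e], rfl⟩

theorem er1_fld2 (h2 : (2 : K) = 0) {a₀ c₀ : K} (h0 : a₀ ≠ 0 ∨ c₀ ≠ 0) :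
    ∃ A C A' C', wd (B a₀ C - B A c₀) (B a₀ C' - B A' c₀) ≠ 0 := by
  rcases h0 with k | k
  · obtain ⟨x, y, hw, h1, h3, -⟩ := plane_basis k
    obtain ⟨C, rfl⟩ := B_surj2 h2 k (d := x) (by rwa [mul_comm])
    obtain ⟨C', rfl⟩ := B_surj2 h2 k (d := y) (by rwa [mul_comm])
    exact ⟨0, C, 0, C', by simpa only [zero_B, sub_zero] using hw⟩
  · obtain ⟨x, y, hw, h1, h3, -⟩ := plane_basis k
    obtain ⟨C, rfl⟩ := B_surj2 h2 k (d := x) (by rwa [mul_comm])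
    obtain ⟨C', rfl⟩ := B_surj2 h2 k (d := y) (by rwa [mul_comm])
    refine ⟨C, 0, C', 0, fun e => hw ?_⟩
    rw [← e]
    simp only [wd, TE]; ring

/-- PROOF.  Suppose not; `s₀ : Sec G (P s t) W L ⊤`.  For `x ∈ P s t` with `(x.a, x.c) = (s ξ, t ξ)` and `y ∈ Rs`, `(cm x y).d = B ξ (μ y)`,
`μ y = t y.a - s y.c` (`cm_dR`).  `m0` gives `e₀ ∈ L` with `μ e₀ ≠ 0`; an `x ∈ E ⊓ P s t` has `cm e₀ x ∈ Z2`, so `ξ = 0` (`B_inj`):
`E ⊓ P s t ≤ Z3`, and `Cq E (P s t) W L y ↔ y ∈ Z3` (`eq_zero_of_B`).  `jj` with `f y = Xr (s μ y) (t μ y) 0` (`hH`: `B_surj`) for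
`x = Xr s t 0` gives `g ∈ E` with `cm (x g) y = (cm x y)⁻¹` on `Z3`: `cm_e3`, `cm_zR3`, `eq_zero_of_T` give `g.a = -2 s`, `g.c = -2 t`, so
`g ∈ E ⊓ P s t \ Z3`. -/
theorem er_odd (h : Dc (Tri.p K) E G M₀) (h2 : (2 : K) ≠ 0) (h3 : Z3 ≤ E) (hR : E ≤ Rs) (hW : Zc E ≤ Z2) {s t : K}
    (hs : θ s = s) (ht : θ t = t) (h0 : s ≠ 0 ∨ t ≠ 0) : P s t ≤ E := by
  by_contra n
  have PR : (P s t : Subgroup (U K)) ≤ Rs := fun _ k => k.1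
  have s₀ : Sec G (P s t) (Zc E) (Uc (ch_Zc E)) ⊤ := er1_sec h3 hR hW PR n
  have XP : ∀ ξ, Xr (s * ξ) (t * ξ) 0 ∈ (P s t : Subgroup (U K)) := fun ξ =>
    ⟨rfl, by simp only [Xr_co]; ring⟩
  have key : ∀ x ∈ (P s t : Subgroup (U K)), ∀ ξ, x.a = s * ξ → x.c = t * ξ → ∀ y ∈ E,
      (cm x y ∈ Zc E ↔ B (t * y.a - s * y.c) ξ = 0) := fun x hx ξ ea ec y hy => by
    rw [er1_cmW h3 hR hW (PR hx) (hR hy), ea, ec, er1_Bmu hs ht]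
  obtain ⟨e₀, eE, eL, he⟩ := h.m0 s₀
  have m0 : t * e₀.a - s * e₀.c ≠ 0 := fun e => n fun b hb => he b hb (by
    obtain ⟨ξ, ea, ec⟩ := er1_par h0 hb.2
    rw [key b hb ξ ea ec e₀ eE, e, zero_B])
  have EP : ∀ x ∈ E, x ∈ (P s t : Subgroup (U K)) → x ∈ Z3 := fun x hx hx' => by
    obtain ⟨ξ, ea, ec⟩ := er1_par h0 hx'.2
    have := B_inj h2 m0 ((key x hx' ξ ea ec e₀ eE).1 (cm_comm ((mem_Uc.1 eL).2 x hx)))
    exact ⟨by rw [ea, this, mul_zero], hx'.1, by rw [ec, this, mul_zero]⟩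
  have mu : ∀ y ∈ E, t * y.a - s * y.c = 0 → y ∈ Z3 := fun y hy e => EP y hy ⟨hR hy, sub_eq_zero.1 e⟩
  have cq : ∀ y, Cq E (P s t) (Zc E) (Uc (ch_Zc E)) y ↔ y ∈ Z3 := fun y =>
    ⟨fun k => mu y k.1 (eq_zero_of_B fun ξ => (key _ (XP ξ) ξ rfl rfl y k.1).1 (k.2.2 _ (XP ξ))),
      fun k => ⟨h3 k, er1_L h3 hR hW k, fun b _ => (er1_W h3 hR hW).2 (cm_S_Z3 b k)⟩⟩
  obtain ⟨g, gE, hg⟩ := h.jj s₀ (fun y => Xr (s * (t * y.a - s * y.c)) (t * (t * y.a - s * y.c)) 0)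
    (fun y _ _ => XP _) (fun y hy _ y' hy' _ k b _ => by
      have k1 := EP _ k (mul_mem (inv_mem (XP _)) (XP _))
      have ka := k1.1
      have kc := k1.2.2
      simp only [UC, Xr_co] at ka kc
      refine (er1_W h3 hR hW).2 (cm_S_Z3 b (mu _ (mul_mem (inv_mem hy) hy') ?_))
      simp only [UC, mem_Rs.1 (hR hy), mem_Rs.1 (hR hy')]
      rcases h0 with k | k
      · exact mul_left_cancel₀ k (by linear_combination ka)
      · exact mul_left_cancel₀ k (by linear_combination kc))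
    (fun b _ hb y _ k => cm_comm ((mem_Uc.1 k).2 b hb))
    (fun v hv _ nv c hc => by
      obtain ⟨ξ, e⟩ := B_surj h2 (fun e => nv ((cq v).2 (mu v hv e))) c.d
      refine ⟨_, XP ξ, (er1_W h3 hR hW).2 ?_⟩
      have k1 := mem_Z3.1 (cm_Rs_Rs (PR (XP ξ)) (hR hv))
      have k2 := mem_Z3.1 ((cq c).1 hc)
      simp only [mem_Z2, UC, k1, k2, true_and, cm_dR (PR (XP ξ)) (hR hv), Xr_co, ← e]
      simp only [TE, hs, ht]; ring)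
    (x := Xr s t 0) ⟨rfl, mul_comm t s⟩
  have k : ∀ u : K, cm (Xr s t 0 * g) (Xd u) = (cm (Xr s t 0) (Xd u))⁻¹ := fun u =>
    hg _ ((cq _).2 ⟨rfl, rfl, rfl⟩) fun m _ hm => com_Z3 ⟨rfl, rfl, rfl⟩ (Z2_le_Z3 (hW hm))
  have xR : Xr s t 0 ∈ (Rs : Subgroup (U K)) := rfl
  have ga : g.a + 2 * s = 0 := eq_zero_of_T fun u => by
    have e := congrArg U.e (k u)
    have z : Xd u ∈ (Z3 : Subgroup (U K)) := ⟨rfl, rfl, rfl⟩
    have k1 := mem_Z2.1 (cm_S_Z3 (Xr s t 0) z)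
    rw [cm_e3 _ z] at e
    simp only [UC, k1, cm_e3 _ z, Xr_co] at e
    rw [show (g.a + 2 * s) * u = (s + g.a) * u + s * u by ring, T_add, e, neg_add_cancel]
  have gc : g.c + 2 * t = 0 := eq_zero_of_T fun u => by
    have e := congrArg U.z (k u)
    have z : Xd u ∈ (Z3 : Subgroup (U K)) := ⟨rfl, rfl, rfl⟩
    have k1 := mem_Z2.1 (cm_S_Z3 (Xr s t 0) z)
    rw [cm_zR3 (mul_mem xR (hR gE)) z] at e
    simp only [UC, k1, cm_zR3 xR z, Xr_co, mem_Rs.1 (hR gE)] at e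
    rw [show (g.c + 2 * t) * u = (t + g.c) * u + t * u by ring, T_add, e, neg_add_cancel]
  have gz := mu g gE (by linear_combination t * ga - s * gc)
  rw [gz.1, zero_add] at ga
  rw [gz.2.2, zero_add] at gc
  exact h0.elim (fun k => mul_ne_zero h2 k ga) fun k => mul_ne_zero h2 k gc

/-- PROOF.  Suppose not; `s₀ : Sec G Rs W L ⊤`.  `m0` gives `e₀ ∈ L`, and for `x ∈ Rs`: `x ∈ E ↔ Λ x = 0`, `Λ x = (cm x e₀).d = B a₀ x.c - B x.a c₀`;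
`(a₀, c₀) ≠ 0`.  Claim: `y ∈ L` has `(y.a, y.c) = r (a₀, c₀)`, `r ∈ k`.  If `(a₀, c₀) = (s u, t u)` (`dep_of_wd`): `Xr (s ξ) (t ξ) 0 ∈ E` gives
`t y.a = s y.c` (`eq_zero_of_B`), `Xr u 0 0`, `Xr 0 u 0 ∈ E` (`B_self`) give `y.a, y.c ∈ k u` (`B_eq_zero`).  If `wd a₀ c₀ ≠ 0` use `Xr c₀ 0 0`,
`Xr 0 a₀ 0`, `e₀`, `B_eq_wd`.  The image of `Λ` contains the plane orthogonal to `a₀` or `c₀` (`B_surj2`): take `w₁, w₂ ∈ Rs` of the form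
`Xr a c 0` with `wd (Λ w₁) (Λ w₂) ≠ 0` (`plane_basis`).  `ff` with `f y = Xr (r w₁.a) (r w₁.c) 0` (`r` by `choose`, or a quotient) for `x = w₂`
contradicts `ind_of_wd`. -/
theorem er_two (h : Dc (Tri.p K) E G M₀) (h2 : (2 : K) = 0) (h3 : Z3 ≤ E) (hR : E ≤ Rs) (hW : Zc E ≤ Z2) : Rs ≤ E := by
  by_contra n
  have s₀ : Sec G Rs (Zc E) (Uc (ch_Zc E)) ⊤ := er1_sec h3 hR hW le_rfl n
  obtain ⟨e₀, eE, eL, he⟩ := h.m0 s₀
  have mE : ∀ x ∈ (Rs : Subgroup (U K)), x ∈ E ↔ B e₀.a x.c = B x.a e₀.c := fun x hx => by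
    rw [← er1_cmW h3 hR hW hx (hR eE)]
    exact ⟨fun k => cm_comm ((mem_Uc.1 eL).2 x k), he x hx⟩
  have h0 : e₀.a ≠ 0 ∨ e₀.c ≠ 0 := by
    by_contra! k
    exact n fun x hx => (mE x hx).2 (by rw [k.1, k.2, zero_B, B_zero])
  have XR : ∀ a c : K, Xr a c 0 ∈ (Rs : Subgroup (U K)) := fun _ _ => rfl
  have cl : ∀ y : U K, y ∈ Uc (ch_Zc E) → ∃ r, θ r = r ∧ y.a = r * e₀.a ∧ y.c = r * e₀.c := fun y hy =>
    er1_fld h2 h0 fun A C e => (er1_cmW h3 hR hW (XR A C) (hR (mem_Uc.1 hy).1)).1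
      (cm_comm ((mem_Uc.1 hy).2 _ ((mE _ (XR A C)).2 e)))
  choose! r hr using cl
  obtain ⟨A, C, A', C', hw⟩ := er1_fld2 h2 h0
  obtain ⟨y, -, yL, k⟩ := h.ff s₀ (fun y => Xr (r y * A) (r y * C) 0) (fun y _ _ => XR _ _)
    (fun y hy yL y' hy' yL' k b _ => by
      rw [mE _ (mul_mem (inv_mem (XR _ _)) (XR _ _))] at k
      obtain ⟨f, ea, ec⟩ := hr y yL
      obtain ⟨f', ea', ec'⟩ := hr y' yL'
      have e : r y' - r y = 0 := (ind_of_wd hw (by rw [map_sub, f, f']) (map_zero θ) (by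
        simp only [UE, Xr_co, f, f'] at k ⊢
        linear_combination k)).1
      refine (er1_W h3 hR hW).2 (cm_S_Z3 b ?_)
      simp only [mem_Z3, UC, mem_Rs.1 (hR hy), mem_Rs.1 (hR hy'), ea, ec, ea', ec', true_and]
      exact ⟨by linear_combination e₀.a * e, by linear_combination e₀.c * e⟩)
    (s₀.nm _ (XR A' C'))
  rw [mE _ (mul_mem (inv_mem (XR _ _)) (XR _ _))] at k
  obtain ⟨f, -⟩ := hr y yL
  exact one_ne_zero (ind_of_wd hw (s := -r y) (by rw [map_neg, f]) (map_one θ) (by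
    simp only [UE, Xr_co, f] at k ⊢
    linear_combination k)).2

/-- `x = (x * (Xa x.a)⁻¹) * Xa x.a` with `P 0 1`, `P 1 0`. -/
theorem er1 (h : Dc (Tri.p K) E G M₀) (h3 : Z3 ≤ E) (hR : E ≤ Rs) (hW : Zc E ≤ Z2) : Rs ≤ E := by
  by_cases h2 : (2 : K) = 0
  · exact er_two h h2 h3 hR hW
  intro x hx
  rw [← inv_mul_cancel_right x (Xa x.a)]
  refine mul_mem (er_odd h h2 h3 hR hW (map_zero θ) (map_one θ) (.inr one_ne_zero) ?_)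
    (er_odd h h2 h3 hR hW (map_one θ) (map_zero θ) (.inl one_ne_zero) ?_)
  · simp only [mem_P, UC, mem_Rs.1 hx, add_neg_cancel, and_self]
  · simp only [mem_P, UC, and_self]

end Cfsg.Agent.D4F
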