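import Cfsg.Agent.D4F.EQ

/-!
Essential subgroups `Z3 ≤ E ≤ Rs` with centre larger than `Z2` do not exist.  `W = Zc E` consists of the `y ∈ Z3` (`mem_Z3_of_comm`) with
`T (g.a y.d) = T (g.c y.d) = 0` for `g ∈ E` (`cm_e3`, `cm_zR3`); `Rs` normalises `E` (`cm_Rs_Rs`).
Read `D4F/U`, `D4F/Cm`, `D4F/Ex` and the signatures of `D4F/Fld`, `D4F/Dc1`, `D4F/Dc2`, `U5F/Es`, `RFS/Es` (model: `U5F/EA`).  Commuting elements have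
`cm g h = 1` (`cm_eq_one`); read off coordinates with the `cm_*` formulas; `cm_swap`, `cm_comm`, `nm_of_cm`.  Invariance: `iv_of_ch`.
-/

set_option autoImplicit false
set_option linter.unusedSectionVars false
set_option linter.unusedSimpArgs false

namespace Cfsg.Agent.D4F

open Subgroup Cfsg.Agent.RFS Cfsg.Agent.U5F Cfsg.Agent.Fus

variable {K : Type*} [Field K] [Tri K] {E : Subgroup (U K)} {G M₀ : Subgroup (MulAut E)}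

/-- The elements of `Rs` with `a, c` orthogonal to `v`. -/
def Rv (v : K) : Subgroup (U K) where
  carrier := {g | g.b = 0 ∧ T (g.a * v) = 0 ∧ T (g.c * v) = 0}
  mul_mem' {g h} hg hh := by
    simp only [Set.mem_ofPred_eq, UC, hg.1, hh.1, add_mul, T_add, hg.2, hh.2, and_self]
  one_mem' := by simp only [Set.mem_ofPred_eq, UC, and_self]
  inv_mem' {g} hg := by simp only [Set.mem_ofPred_eq, UC, hg.1, neg_mul, T_neg, hg.2, and_self]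

theorem mem_Rv {v : K} {g : U K} : g ∈ Rv v ↔ g.b = 0 ∧ T (g.a * v) = 0 ∧ T (g.c * v) = 0 := Iff.rfl

/-- The centre of `Rv v`. -/
def Yv (v : K) : Subgroup (U K) where
  carrier := {g | g ∈ Z3 ∧ ∃ r, θ r = r ∧ g.d = r * v}
  mul_mem' := fun ⟨a, r, b, c⟩ ⟨a', r', b', c'⟩ => ⟨mul_mem a a', r + r', by rw [map_add, b, b'], by
    simp only [UC, a.1, c, c', add_mul]⟩
  one_mem' := ⟨one_mem _, 0, map_zero _, by simp only [UC]⟩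
  inv_mem' := fun ⟨a, r, b, c⟩ => ⟨inv_mem a, -r, by rw [map_neg, b], by simp only [UC, a.1, c, neg_mul]⟩

namespace ER2

variable {H : Subgroup (U K)} {g x y : U K} {v : K}

theorem cm3 (hg : g ∈ Rs) (hy : y ∈ Z3) : g * y = y * g ↔ T (g.a * y.d) = 0 ∧ T (g.c * y.d) = 0 := by
  have k := mem_Z2.1 (cm_S_Z3 g hy)
  rw [← cm_eq_one, ← cm_e3 g hy, ← cm_zR3 hg hy]
  exact ⟨fun e => by rw [e]; exact ⟨rfl, rfl⟩, fun e => by ext <;> simp only [k, e, UC]⟩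

theorem nmR (h3 : Z3 ≤ E) (hR : E ≤ Rs) (hx : x ∈ Rs) : Nm E x := nm_of_cm fun _ hy => h3 (cm_Rs_Rs hx (hR hy))

theorem mem_W (h3 : Z3 ≤ E) (hR : E ≤ Rs) : y ∈ Zc E ↔ y ∈ Z3 ∧ ∀ g ∈ E, T (g.a * y.d) = 0 ∧ T (g.c * y.d) = 0 := by
  refine mem_Zc.trans ⟨fun k => ?_, fun k => ⟨h3 k.1, fun g hg => ((cm3 (hR hg) k.1).2 (k.2 g hg)).symm⟩⟩
  have := mem_Z3_of_comm fun n hn => k.2 n (h3 hn)
  exact ⟨this, fun g hg => (cm3 (hR hg) this).1 (k.2 g hg).symm⟩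

theorem T_sm {r a : K} (hr : θ r = r) (h : T (a * v) = 0) : T (r * a * v) = 0 := by
  rw [mul_assoc, T_smul hr, h, mul_zero]

theorem comY (hx : x ∈ Rv v) (hy : y ∈ Yv v) : x * y = y * x := by
  obtain ⟨a, r, b, c⟩ := hy
  rw [cm3 hx.1 a, c, mul_left_comm, mul_left_comm x.c, T_smul b, T_smul b, hx.2.1, hx.2.2, mul_zero, and_self]

theorem Z2_Y : Z2 ≤ Yv v := fun _ h => ⟨Z2_le_Z3 h, 0, map_zero _, by rw [h.2.2.2, zero_mul]⟩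

theorem Z3_R : Z3 ≤ Rv v := fun _ h => ⟨h.2.1, by simp only [h.1, h.2.2, UC, and_self]⟩

theorem Xr_R {a c d : K} (ha : T (a * v) = 0) (hc : T (c * v) = 0) : Xr a c d ∈ Rv v := ⟨rfl, ha, hc⟩

theorem T0 : T (0 * v) = 0 := by rw [zero_mul, T_zero]

theorem Z2_gen {g' : U K} (ha : g.a ≠ 0) (h4 : g' ∈ Z4) (hc : g'.c ≠ 0)
    (h : ∀ d, cm g (Xd d) ∈ H ∧ cm g' (Xd d) ∈ H) : Z2 ≤ H := fun y hy => by
  have z3 : ∀ d : K, Xd d ∈ Z3 := fun _ => ⟨rfl, rfl, rfl⟩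
  obtain ⟨d, e⟩ := exists_T ha y.he
  obtain ⟨d', e'⟩ := exists_T hc (r := y.z - (cm g (Xd d)).z) (by simp only [TE])
  have a := mem_Z2.1 (cm_S_Z3 g (z3 d))
  have b := mem_Z2.1 (cm_S_Z3 g' (z3 d'))
  rw [mem_Z2] at hy
  rw [show y = cm g (Xd d) * cm g' (Xd d') by
    ext <;> simp only [UC, a, b, hy, cm_e3 _ (z3 _), cm_zR3 h4.2 (z3 _), h4.1, e, e', add_sub_cancel]]
  exact mul_mem (h d).1 (h d').2

theorem of_d (h2 : Z2 ≤ H) (hx : x ∈ H) (h3 : x ∈ Z3) (hy : y ∈ Z3) (e : y.d = x.d) : y ∈ H := by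
  rw [mem_Z3] at h3 hy
  simpa using mul_mem hx (h2 (x := x⁻¹ * y) (by simp only [mem_Z2, UC, h3, hy, e, neg_add_cancel, and_self]))

theorem of_ac (h3 : Z3 ≤ H) (hx : x ∈ H) (b : x.b = 0) (b' : y.b = 0) (a : y.a = x.a) (c : y.c = x.c) : y ∈ H := by
  simpa using mul_mem hx (h3 (x := x⁻¹ * y) (by simp only [mem_Z3, UC, b, b', a, c, neg_add_cancel, and_self]))

theorem wd_mem {a c : K} (hv : v ≠ 0) (ha : T (a * v) = 0) (hc : T (c * v) = 0) : ∃ r, θ r = r ∧ wd a c = r * v := by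
  by_cases h : wd a c = 0
  · exact ⟨0, map_zero _, by rw [h, zero_mul]⟩
  obtain ⟨r, h1, h2⟩ := perp2 h ha hc
  exact ⟨r⁻¹, by rw [map_inv₀, h1], by rw [h2, inv_mul_cancel_left₀ (left_ne_zero_of_mul (h2 ▸ hv))]⟩

theorem cmY (h2 : (2 : K) = 0) (hv : v ≠ 0) (hx : x ∈ Rv v) (hy : y ∈ Rv v) : cm x y ∈ Yv v := by
  obtain ⟨r, a, b⟩ := wd_mem hv hy.2.1 hx.2.2
  obtain ⟨r', a', b'⟩ := wd_mem hv hx.2.1 hy.2.2
  exact ⟨cm_Rs_Rs hx.1 hy.1, r - r', by rw [map_sub, a, a'], by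
    rw [cm_dR hx.1 hy.1, B_eq_wd h2, B_eq_wd h2, b, b', sub_mul]⟩

theorem cm_st {s t ξ : K} (hs : θ s = s) (ht : θ t = t) (hx : x.b = 0 ∧ x.a = s * ξ ∧ x.c = t * ξ) (hy : y ∈ Rs) :
    (cm x y).d = B ξ (t * y.a - s * y.c) := by
  rw [cm_dR hx.1 hy, hx.2.1, hx.2.2]
  simp only [TE, hs, ht]; ring

theorem B_pr (h2 : (2 : K) ≠ 0) {a m c r r₁ : K} (ha : a ≠ 0) (hm : m ≠ 0) (h : θ r = r) (h₁ : θ r₁ = r₁)
    (e₁ : B a m = r₁ * v) (e : B a c = r * v) : ∃ ρ, θ ρ = ρ ∧ c = ρ * m := by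
  have n : r₁ ≠ 0 := fun k => hm (B_inj h2 ha (by rw [e₁, k, zero_mul]))
  have k : θ (-(r / r₁)) = -(r / r₁) := by simp only [TE, h, h₁]
  refine ⟨r / r₁, by simp only [TE, h, h₁], sub_eq_zero.1 (B_inj h2 ha ?_)⟩
  rw [sub_eq_add_neg, ← neg_mul, B_add, B_smul k, e, e₁]
  field_simp
  ring

theorem ex_st {s t : K} (hs : θ s = s) (ht : θ t = t) (h0 : s ≠ 0 ∨ t ≠ 0) :
    ∃ s' t', θ s' = s' ∧ θ t' = t' ∧ t * s' - s * t' = 1 := by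
  rcases h0 with h | h
  · exact ⟨0, -s⁻¹, map_zero _, by simp only [TE, hs], by field_simp; ring⟩
  · exact ⟨t⁻¹, 0, by simp only [TE, ht], map_zero _, by field_simp; ring⟩

theorem T_st {s t ξ : K} (hs : θ s = s) (ht : θ t = t) (h0 : s ≠ 0 ∨ t ≠ 0) (a : T (s * ξ * v) = 0)
    (c : T (t * ξ * v) = 0) : T (ξ * v) = 0 := by
  rw [mul_assoc, T_smul (by assumption), mul_eq_zero] at a c
  exact h0.elim a.resolve_left c.resolve_left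

/-- The commutators with an involution. -/
theorem onto (h2 : (2 : K) = 0) (hv : v ≠ 0) (hg : g ∈ Rv v) (h3 : g ∉ Z3) (hq : g * g = 1) (hy : y ∈ Yv v) :
    ∃ x ∈ Rv v, cm g x = y := by
  let H : Subgroup (U K) :=
    { carrier := {y | ∃ x ∈ Rv v, cm g x = y}
      mul_mem' := by
        rintro _ _ ⟨x, a, rfl⟩ ⟨x', b, rfl⟩
        exact ⟨x * x', mul_mem a b, by
          rw [← mul_inv_cancel_right (cm g x') x, ← comY a (cmY h2 hv hg b)]; simp only [cm]; group⟩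
      one_mem' := ⟨1, one_mem _, by simp [cm]⟩
      inv_mem' := by
        rintro _ ⟨x, a, rfl⟩
        exact ⟨x⁻¹, inv_mem a, by
          rw [← inv_mul_cancel_right (cm g x) x, mul_assoc, ← mul_assoc (cm g x), ← comY (inv_mem a) (cmY h2 hv hg a)]
          simp only [cm]; group⟩ }
  have q1 := sq_dR hg.1
  have q2 := sq_eR hg.1
  have q3 := sq_zR hg.1
  simp only [hq, h2, UC, B_eq_wd h2, eq_comm (a := (0 : K)), neg_eq_zero] at q1 q2 q3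
  obtain ⟨s, t, u, hs, ht, h0, hu, ea, ec⟩ := dep_of_wd q1 (by_contra fun k => h3 ⟨by tauto, hg.1, by tauto⟩)
  obtain ⟨s', t', hs', ht', e1⟩ := ex_st hs ht h0
  have uv := T_st hs ht h0 (ea ▸ hg.2.1) (ec ▸ hg.2.2)
  have n0 : T (u * χ u) ≠ 0 := by
    rw [T_mul_χ, show (3 : K) = 2 + 1 by norm_num, h2, zero_add, one_mul]; exact N_ne_zero hu
  have τ : T (u * g.d) = s * t * T (u * χ u) := by
    rw [ea, ec] at q2 q3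
    simp only [TE, hs, ht] at q2 q3 ⊢
    linear_combination (-t') * q2 - s' * q3 - (u * g.d + θ u * θ g.d + θ (θ u) * θ (θ g.d) -
      3 * s * t * (u * θ u * θ (θ u))) * e1
  have hX : ∀ m, T (m * v) = 0 → cm g (Xr (s' * m) (t' * m) 0) ∈ H ∧ (cm g (Xr (s' * m) (t' * m) 0)).d = wd u m :=
    fun m hm => ⟨⟨_, Xr_R (T_sm hs' hm) (T_sm ht' hm), rfl⟩, by
      rw [cm_st hs ht ⟨hg.1, ea, ec⟩ rfl, B_eq_wd h2]
      exact congrArg _ (by simp only [Xr_co]; linear_combination m * e1)⟩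
  have z2 : Z2 ≤ H := fun y hy => by
    obtain ⟨m, hm, em⟩ := exists_sq h2 (r := (t * y.e - s * y.z) / T (u * χ u)) (by
      simp only [map_div₀, map_sub, map_mul, θT, hs, ht, y.he, y.hz])
    obtain ⟨a, b⟩ := hX _ (T_sm hm uv)
    have c := cm_Rs_Rs hg.1 (h := Xr (s' * (m * u)) (t' * (m * u)) 0) rfl
    have ce := cm_eR hg.1 (h := Xr (s' * (m * u)) (t' * (m * u)) 0) rfl
    have cz := cm_zR hg.1 (h := Xr (s' * (m * u)) (t' * (m * u)) 0) rfl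
    rw [wd_smul hm] at b
    rw [b] at cz
    generalize cm g (Xr (s' * (m * u)) (t' * (m * u)) 0) = w at a b c ce cz
    obtain ⟨d, ed⟩ := exists_T hu (r := t' * (w.e - y.e) - s' * (w.z - y.z)) (by simp only [TE, hs', ht'])
    have z3 : Xd d ∈ Z3 := ⟨rfl, rfl, rfl⟩
    have k := mem_Z2.1 (cm_S_Z3 g z3)
    have k1 : t * w.e - s * w.z = t * y.e - s * y.z := by
      rw [← div_mul_cancel₀ (t * y.e - s * y.z) n0, ← em, ce, cz, ea, ec]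
      simp only [Xr_co, UC] at τ ⊢
      simp only [TE, hs, ht, hs', ht', hm] at τ ⊢
      linear_combination -m * (t * s' - s * t') * τ + 3 * m ^ 2 * (u * θ u * θ (θ u)) * (t * s' + s * t') * e1 +
        3 * m ^ 2 * (u * θ u * θ (θ u)) * (s * t' * h2 + e1)
    rw [mem_Z2] at hy
    rw [mem_Z3] at c
    rw [show y = w * cm g (Xd d) by
      ext <;> simp only [UC, k, b, c, hy, cm_e3 _ z3, cm_zR3 hg.1 z3, ea, ec, mul_assoc, T_smul hs, T_smul ht, ed]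
      · linear_combination (w.e - y.e) * e1 - s' * k1
      · linear_combination (w.z - y.z) * e1 - t' * k1]
    exact mul_mem a ⟨_, Z3_R z3, rfl⟩
  obtain ⟨u', b1, b2⟩ := plane_not_line v u
  obtain ⟨ρ, b3, b4⟩ := perp2 (fun k => b2 (of_wd hu k)) uv b1
  obtain ⟨a, r, hr, er⟩ := hy
  have k : θ (r * ρ) = r * ρ := by rw [map_mul, hr, b3]
  obtain ⟨c1, c2⟩ := hX _ (T_sm k b1)
  exact of_d z2 c1 (cm_Rs_Rs hg.1 rfl) a (by rw [c2, er, ← B_eq_wd h2, B_smul k, B_eq_wd h2, mul_assoc, ← b4])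

end ER2

open ER2

/-- `t1` with `L = Z2`, `Top = Z3` (`mem_Z3_of_comm`) for `x ∈ Rs`. -/
theorem R_le_of_ch (h : Dc (Tri.p K) E G M₀) (h3 : Z3 ≤ E) (hR : E ≤ Rs) (c2 : Ch E Z2) (c3 : Ch E Z3) : Rs ≤ E := by
  exact fun x hx => h.t1 (iv_of_ch c2 G) (iv_of_ch c3 G) (fun y _ k => mem_Z3_of_comm fun n hn => k n (h3 hn) hn)
    (nmR h3 hR hx) (fun y _ k => com_Z2 hx k) fun y _ k => cm_S_Z3 x k

/-- PROOF.  `W = {y ∈ Z3 | T (u y.d) = 0}`.  Let `B₀ = Rs` if `2 = 0`, `B₀ = Rv (χ u)` otherwise; `[B₀, E] ≤ W` (`cm_dR`, `T_B_self`).  `¬ B₀ ≤ E`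
(`plane_not_line`).  `m0` for `Sec G B₀ ⊥ W ⊤` gives `d₀` with `B₀ ⊓ Rv d₀ ≤ E`.  For `2 = 0` this contradicts `plane_not_line`.  Otherwise
`exists_perp (χ u) d₀` gives `r u ≠ 0` orthogonal to `χ u`, `d₀`; so `T (u χ u) = 0` and `Xr (r u) 0 0`, `Xr 0 (r u) 0 ∈ E` for all `r ∈ k`.  Then
`D = Dm E ⊤ ⊤` has `Z2 ≤ D` (commutators with `Xd d`) and `D ≤ {y ∈ Z3 | y.d ∈ k χ u}` (`B_self`); `c2` with `D`, `W` gives `B₀ ≤ E`. -/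
theorem er_line (h : Dc (Tri.p K) E G M₀) (h3 : Z3 ≤ E) (hR : E ≤ Rs) (hQ : ¬ E ≤ Qs) {u : K}
    (hu : ∀ g ∈ E, (∃ r, θ r = r ∧ g.a = r * u) ∧ ∃ r, θ r = r ∧ g.c = r * u) : False := by
  obtain ⟨g₀, g1, g2⟩ := SetLike.not_le_iff_exists.1 hQ
  obtain ⟨r₀, r1, r2⟩ := (hu g₀ g1).1
  have u0 : u ≠ 0 := fun k => g2 (show g₀.a = 0 by rw [r2, k, mul_zero])
  have hW : ∀ x ∈ Rv (2 * χ u), ∀ y ∈ E, cm x y ∈ Zc E := fun x hx y hy => by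
    refine (mem_W h3 hR).2 ⟨cm_Rs_Rs hx.1 (hR hy), fun g hg => ?_⟩
    obtain ⟨⟨r, a, b⟩, r', a', b'⟩ := hu y hy
    obtain ⟨⟨s, c, d⟩, s', c', d'⟩ := hu g hg
    have k : T (u * (cm x y).d) = 0 := by
      have k1 := hx.2.1
      have k2 := hx.2.2
      rw [cm_dR hx.1 (hR hy), b, b']
      simp only [TE, a, a'] at k1 k2 ⊢
      linear_combination r * k2 - r' * k1
    exact ⟨d ▸ T_sm c k, d' ▸ T_sm c' k⟩
  have nle : ¬ Rv (2 * χ u) ≤ E := fun k =>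
    let ⟨x, a, b⟩ := plane_not_line (2 * χ u) u; b (hu _ (k (Xr_R (d := 0) a T0))).1
  obtain ⟨e, -, e1, e2⟩ := h.m0 (B := Rv (2 * χ u)) (M := ⊥) (L := Zc E) (Top := ⊤) ⟨iv_of_ch Ch.bot G, iv_of_ch (ch_Zc E) G,
    iv_of_ch Ch.top G, fun y _ k => mem_bot.1 k ▸ one_mem _, sc_top, nle, fun b k => nmR h3 hR k.1,
    fun y _ k y' k' _ => cm_eq_one.2 ((mem_Zc.1 k).2 y' k'), fun b _ y _ k => by rw [mem_bot.1 k, mul_one, one_mul],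
    fun b _ b' k y _ k' => cm_eq_one.2 (com_Z2 k.1 (cm_S_Z3 b ((mem_W h3 hR).1 k').1)), fun b k y k' _ => hW b k y k'⟩
  have e3 : ∀ a c, T (a * (2 * χ u)) = 0 → T (c * (2 * χ u)) = 0 → T (a * e.d) = 0 → T (c * e.d) = 0 → Xr a c 0 ∈ E :=
    fun a c k1 k2 k3 k4 => e2 _ (Xr_R k1 k2) (cm_eq_one.2 ((cm3 rfl ((mem_W h3 hR).1 e1).1).2 ⟨k3, k4⟩))
  by_cases h2 : (2 : K) = 0
  · obtain ⟨x, a, b⟩ := plane_not_line e.d u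
    exact b (hu _ (e3 x 0 (by simp only [h2, UC]) T0 a T0)).1
  obtain ⟨x, x0, x1, x2⟩ := exists_perp (2 * χ u) e.d
  rw [mul_comm] at x1 x2
  obtain ⟨r, a, b⟩ := (hu _ (e3 x 0 x1 T0 x2 T0)).1
  have r0 : r ≠ 0 := fun k => x0 (by rw [show x = r * u from b, k, zero_mul])
  rw [show x = r * u from b] at x1 x2
  have y1 := T_st a a (.inl r0) x1 x1
  have y2 := T_st a a (.inl r0) x2 x2
  have z2 : Z2 ≤ Dm E ⊤ ⊤ := Z2_gen (g := Xr u 0 0) (g' := Xr 0 u 0) u0 ⟨rfl, rfl⟩ u0 fun d =>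
    ⟨mem_Dm (e3 _ _ y1 T0 y2 T0) trivial (h3 ⟨rfl, rfl, rfl⟩) trivial,
      mem_Dm (e3 _ _ T0 y1 T0 y2) trivial (h3 ⟨rfl, rfl, rfl⟩) trivial⟩
  have dY : Dm E ⊤ ⊤ ≤ Yv (2 * χ u) := Dm_le fun g hg _ y hy _ => by
    obtain ⟨⟨r, a, b⟩, r', a', b'⟩ := hu y hy
    obtain ⟨⟨s, c, d⟩, s', c', d'⟩ := hu g hg
    exact ⟨cm_Rs_Rs (hR hg) (hR hy), r * s' - s * r', by simp only [TE, a, a', c, c'], by
      rw [cm_dR (hR hg) (hR hy), b, b', d, d']; simp only [TE, a, a', c, c']; ring⟩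
  exact nle fun x hx => h.c2 (ch_Dm Ch.top Ch.top) (ch_Zc E) (nmR h3 hR hx.1) (fun y _ k => comY hx (dY k))
    (fun y _ k => z2 (cm_S_Z3 x ((mem_W h3 hR).1 k).1)) (hW x hx)

/-- PROOF.  Suppose not.  `L = Uc (ch_Zc E) ≥ Z3`, `s₀ : Sec G B₀ W L ⊤`, `B₀ = P s t ⊓ Rv v`; `(cm x y).d = B ξ (μ y)` as in `ER1`,
`μ y = t y.a - s y.c` is orthogonal to `v`.  `m0` gives `e₀`, `m₀ = μ e₀ ≠ 0`, and for `ξ` orthogonal to `v`: `Xr (s ξ) (t ξ) 0 ∈ E ↔ B ξ m₀ ∈ k v`.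
If only `ξ = 0` occurs take `f y = Xr (s μ y) (t μ y) 0`.  Otherwise let `ξ₁ ≠ 0` occur: `B ξ₁ m₀ = r₁ v ≠ 0` (`B_inj`), `y ∈ L` has
`μ y = r m₀`, `r ∈ k` (`B ξ₁ (μ y) ∈ k v`), the `ξ` that occur lie in `k ξ₁`; take `ξ₂` outside (`plane_not_line`), `f y = Xr (s r ξ₂) (t r ξ₂) 0`,
`r = μ y / m₀`.  `ff` for `x = Xa a`, `T (a v) ≠ 0`, is contradictory because `B₀, E ≤ Rv v`. -/
theorem er_pl_odd (h : Dc (Tri.p K) E G M₀) (h2 : (2 : K) ≠ 0) (h3 : Z3 ≤ E) {v : K} (hv : v ≠ 0) (hE : E ≤ Rv v)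
    (hW : ∀ y ∈ Zc E, ∃ r, θ r = r ∧ y.d = r * v) {s t : K} (hs : θ s = s) (ht : θ t = t) (h0 : s ≠ 0 ∨ t ≠ 0) :
    P s t ⊓ Rv v ≤ E := by
  by_contra nle
  have hR : E ≤ Rs := fun g k => (hE k).1
  have eW : ∀ y, y ∈ Zc E ↔ y ∈ Yv v := fun y => ⟨fun k => ⟨((mem_W h3 hR).1 k).1, hW y k⟩,
    fun k => mem_Zc.2 ⟨h3 k.1, fun g hg => (comY (hE hg) k).symm⟩⟩
  have s₀ : Sec G (P s t ⊓ Rv v) (Zc E) (Uc (ch_Zc E)) ⊤ := ⟨iv_of_ch (ch_Zc E) G, iv_of_ch (ch_Uc _) G, iv_of_ch Ch.top G,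
    fun y k k' => ⟨k, fun g hg => cm_eq_one.2 ((mem_Zc.1 k').2 g hg) ▸ one_mem _⟩, sc_top, nle, fun b k => nmR h3 hR k.2.1,
    fun y _ k y' k' _ => k.2 y' k', fun b k y _ k' => comY k.2 ((eW y).1 k'),
    fun b k b' _ y k' _ => (eW _).2 (Z2_Y (cm_S_Z3 b' (cm_Rs_Rs k.2.1 (hR k')))),
    fun b k y k' _ => ⟨h3 (cm_Rs_Rs k.2.1 (hR k')), fun g _ =>
      (eW _).2 (Z2_Y (cm_comm (cm_S_Z3 g (cm_Rs_Rs k.2.1 (hR k')))))⟩⟩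
  obtain ⟨s', t', hs', ht', e1⟩ := ex_st hs ht h0
  have hP : ∀ x ∈ P s t ⊓ Rv v, ∀ y ∈ Rs, t * y.a - s * y.c = 0 → cm x y ∈ Zc E := fun x hx y hy k =>
    (eW _).2 ⟨cm_Rs_Rs hx.2.1 hy, 0, map_zero _, by
      rw [cm_st hs ht (ξ := s' * x.c - t' * x.a) ⟨hx.2.1, by linear_combination s' * hx.1.2 - x.a * e1,
        by linear_combination t' * hx.1.2 - x.c * e1⟩ hy, k, B_zero, zero_mul]⟩
  have hX : ∀ ξ, T (ξ * v) = 0 → Xr (s * ξ) (t * ξ) 0 ∈ P s t ⊓ Rv v := fun ξ k =>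
    ⟨⟨rfl, by simp only [Xr_co]; ring⟩, Xr_R (T_sm hs k) (T_sm ht k)⟩
  have hL : ∀ ξ, Xr (s * ξ) (t * ξ) 0 ∈ E → ∀ y ∈ Uc (ch_Zc E), ∃ r, θ r = r ∧ B ξ (t * y.a - s * y.c) = r * v :=
    fun ξ k y k' => cm_st hs ht (x := Xr (s * ξ) (t * ξ) 0) ⟨rfl, rfl, rfl⟩ (hR k'.1) ▸ hW _ (cm_comm (k'.2 _ k))
  have fin : ∀ φ : K → K, (∀ y ∈ Uc (ch_Zc E), T (φ (t * y.a - s * y.c) * v) = 0) → (∀ y ∈ Uc (ch_Zc E),
      ∀ y' ∈ Uc (ch_Zc E), ∀ ξ, ξ = φ (t * y'.a - s * y'.c) - φ (t * y.a - s * y.c) → T (ξ * v) = 0 →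
      Xr (s * ξ) (t * ξ) 0 ∈ E → t * y'.a - s * y'.c = t * y.a - s * y.c) → False := fun φ k1 k2 => by
    obtain ⟨a, ha⟩ := exists_T hv (map_one θ)
    obtain ⟨y, -, y1, y2⟩ := h.ff s₀ (fun y => Xr (s * φ (t * y.a - s * y.c)) (t * φ (t * y.a - s * y.c)) 0)
      (fun y _ k => hX _ (k1 y k)) (fun y a k y' a' k' e b hb => hP b hb _ (hR (mul_mem (inv_mem a) a')) (by
        have := k2 y k y' k' _ rfl (by rw [sub_mul, T_sub, k1 y k, k1 y' k', sub_zero])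
          (of_ac h3 e (by simp only [UC, Xr_co]) rfl (by simp only [UC, Xr_co]; ring) (by simp only [UC, Xr_co]; ring))
        simp only [UC, mem_Rs.1 (hR a), mem_Rs.1 (hR a')]
        linear_combination this)) (nmR h3 hR (x := Xr a 0 0) rfl)
    have : T (a * v) = 0 := (((Rv v).mul_mem_cancel_left ((Rv v).inv_mem (hX _ (k1 y y1)).2)).1 (hE y2)).2.1
    exact one_ne_zero (ha.symm.trans (mul_comm a v ▸ this))
  by_cases c : ∀ ξ, T (ξ * v) = 0 → Xr (s * ξ) (t * ξ) 0 ∈ E → ξ = 0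
  · exact fin id (fun y k => by rw [id, sub_mul, T_sub, T_sm ht (hE k.1).2.1, T_sm hs (hE k.1).2.2, sub_zero])
      fun y _ y' _ ξ e a b => sub_eq_zero.1 (e.symm.trans (c ξ a b))
  push Not at c
  obtain ⟨ξ₁, -, c1, c2⟩ := c
  obtain ⟨e₀, a1, a2, a3⟩ := h.m0 s₀
  have m0 : t * e₀.a - s * e₀.c ≠ 0 := fun k => nle fun b hb => a3 b hb (hP b hb _ (hR a1) k)
  obtain ⟨r₁, b1, b2⟩ := hL _ c1 _ a2
  obtain ⟨ξ₂, d1, d2⟩ := plane_not_line v ξ₁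
  have hρ : ∀ y ∈ Uc (ch_Zc E), θ ((t * y.a - s * y.c) / (t * e₀.a - s * e₀.c)) =
      (t * y.a - s * y.c) / (t * e₀.a - s * e₀.c) := fun y k => by
    obtain ⟨r, k1, k2⟩ := hL _ c1 y k
    obtain ⟨ρ, k3, k4⟩ := B_pr h2 c2 m0 k1 b1 b2 k2
    rwa [k4, mul_div_cancel_right₀ _ m0]
  refine fin (fun m => m / (t * e₀.a - s * e₀.c) * ξ₂) (fun y k => T_sm (hρ y k) d1) fun y k y' k' ξ e _ b => ?_
  obtain ⟨r, k1, k2⟩ := hL _ b _ a2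
  obtain ⟨ρ, k3, k4⟩ := B_pr h2 m0 c2 k1 b1 ((B_comm _ ξ₁).trans b2) ((B_comm _ ξ).trans k2)
  by_contra n
  have n' := sub_ne_zero.2 fun k => n ((div_left_inj' m0).1 k)
  exact d2 ⟨ρ / ((t * y'.a - s * y'.c) / (t * e₀.a - s * e₀.c) - (t * y.a - s * y.c) / (t * e₀.a - s * e₀.c)), by
    rw [map_div₀, map_sub, hρ y' k', hρ y k, k3], by
    rw [div_mul_eq_mul_div, eq_div_iff n', ← k4, e]; ring⟩

/-- PROOF.  `Ch.of_comm hN hN`.  `span3`: `cm gᵢ (Xc (r aⱼ))` has `d = - r B aᵢ aⱼ` (`cm_d4`), and `B a a = 2 χ a`; `Z2` is generated by the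
commutators of `Xc a₁` and of `g₁` with `Xd d`. -/
theorem ch_Z3_odd (h2 : (2 : K) ≠ 0) {N : Subgroup (U K)} (hN : Ch E N) {v a₁ a₂ : K} (hw : wd a₁ a₂ ≠ 0)
    (h1 : T (a₁ * v) = 0 ∧ T (a₂ * v) = 0) (hv : v ≠ 0) (hR : ∀ g ∈ E, g ∈ N → g ∈ Rs) {g₁ g₂ : U K}
    (hg : g₁ ∈ E ∧ g₁ ∈ N ∧ g₁.a = a₁ ∧ g₂ ∈ E ∧ g₂ ∈ N ∧ g₂.a = a₂) (h4 : ∀ y ∈ Z4, T (y.c * v) = 0 → y ∈ E ∧ y ∈ N) :
    Ch E Z3 := by
  obtain ⟨a1, a2, a3, b1, b2, b3⟩ := hg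
  have n : a₁ ≠ 0 := fun k => hw (by simp only [wd, k, TE, UC])
  refine Ch.of_comm hN hN (fun a k k' b l l' => cm_Rs_Rs (hR a k k') (hR b l l')) fun H hH y hy => ?_
  have hd : ∀ d, Xd d ∈ E ∧ Xd d ∈ N := fun d => h4 _ ⟨rfl, rfl⟩ T0
  have hc : ∀ {c}, T (c * v) = 0 → Xc c ∈ E ∧ Xc c ∈ N := fun k => h4 _ ⟨rfl, rfl⟩ k
  obtain ⟨s, t, r, hs, ht, hr, e⟩ := span3 hw y.d
  have c1 := hc (T_sm (r := -s / 2) (by simp only [TE, hs]) h1.1)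
  have c2 := hc (T_sm (r := -t) (by simp only [TE, ht]) h1.2)
  have c3 := hc (T_sm (r := -r / 2) (by simp only [TE, hr]) h1.2)
  have z : ∀ g (c : K), cm g (Xc c) ∈ Z3 ∧ (cm g (Xc c)).d = -B g.a c := fun g c =>
    ⟨cm_S_Z4 g ⟨rfl, rfl⟩, cm_d4 g ⟨rfl, rfl⟩⟩
  refine of_d (Z2_gen (g' := Xc a₁) (a3 ▸ n) ⟨rfl, rfl⟩ n fun d =>
    ⟨hH _ a1 a2 _ (hd d).1 (hd d).2, hH _ (hc h1.1).1 (hc h1.1).2 _ (hd d).1 (hd d).2⟩)
    (mul_mem (mul_mem (hH _ a1 a2 _ c1.1 c1.2) (hH _ a1 a2 _ c2.1 c2.2)) (hH _ b1 b2 _ c3.1 c3.2))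
    (mul_mem (mul_mem (z _ _).1 (z _ _).1) (z _ _).1) hy ?_
  simp only [e, UC, cm_a, z, a3, b3]
  simp only [TE, hs, ht, hr]
  field_simp
  ring

/-- PROOF.  `Y = {y ∈ Z3 | y.d ∈ k v}` is the centre of `Rv v`, `[Rv v, Rv v] ≤ Y` (`B_eq_wd`, `span2`).  `Ch.of_gen` with the property
`g ∈ N ∧ g * g = 1 ∧ ¬ ∀ w ∈ E, w ∈ Y → ∃ x ∈ E, x ∈ N ∧ cm g x = w`.  It holds on `Z3` (`w = Xd v`).  An involution `g ∈ Rv v \ Z3` has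
`(a, c) = (s u, t u)` (`sq_dR`), `T (u g.d) = s t N u` (`sq_eR`, `sq_zR`); `x ↦ cm g x` is a homomorphism `Rv v → Y` whose image contains
`Ln s t` (`x = Xd d`), elements of `Z2` with `t e + s z = m ^ 2 N u` (`t x.a + s x.c = m u`, the computation of `cen_pure` in `EB`; `exists_sq`),
and elements with `d = r B u u'` (`wd u u' ≠ 0`). -/
theorem ch_Z3_two (h2 : (2 : K) = 0) {N Y : Subgroup (U K)} (hN : Ch E N) (hY : Ch E Y) {v : K} (hv : v ≠ 0)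
    (h1 : Rv v ≤ E) (eN : ∀ g ∈ E, g ∈ N ↔ g ∈ Rv v) (eY : ∀ g ∈ E, g ∈ Y ↔ g ∈ Z3 ∧ ∃ r, θ r = r ∧ g.d = r * v) :
    Ch E Z3 := by
  refine Ch.of_gen (fun g => g ∈ N ∧ g * g = 1 ∧ ¬ ∀ w ∈ E, w ∈ Y → ∃ x ∈ E, x ∈ N ∧ cm g x = w)
    (fun α g hg k => ⟨hN α g hg k.1, afn_sq α hg k.2.1, fun l => k.2.2 fun w a b => ?_⟩) (fun g hg k => ?_)
    fun H hH y hy => hH y (h1 (Z3_R hy)) ⟨(eN y (h1 (Z3_R hy))).2 (Z3_R hy), ?_, fun k => ?_⟩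
  · obtain ⟨x, c, d, e⟩ := l _ (afn_mem α a) (hY α w a b)
    exact ⟨_, afn_mem α⁻¹ c, hN α⁻¹ x c d, by
      rw [← afn_inv_afn α a, ← e, afn_cm _ (afn_mem α hg) c, afn_inv_afn α hg]⟩
  · by_contra n
    exact k.2.2 fun w a b => let ⟨x, c, d⟩ := onto h2 hv ((eN g hg).1 k.1) n k.2.1 ((eY w a).1 b)
      ⟨x, h1 c, (eN x (h1 c)).2 c, d⟩
  · rw [← sq, ← two_eq_zero_iff.1 h2, pow_p_Z3 hy]
  · have z : Xd v ∈ Z3 := ⟨rfl, rfl, rfl⟩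
    obtain ⟨x, -, -, e⟩ := k _ (h1 (Z3_R z)) ((eY _ (h1 (Z3_R z))).2 ⟨z, 1, map_one _, (one_mul v).symm⟩)
    exact hv (e ▸ cm_comm (cm_S_Z3 x hy) : Xd v ∈ Z2).2.2.2

/-- `Ch.of_comm c3 Ch.top`; `cm_e3`, `cm_zR3`. -/
theorem ch_Z2_of (h3 : Z3 ≤ E) (c3 : Ch E Z3) {g g' : U K} (hg : g ∈ E) (ha : g.a ≠ 0) (hg' : g' ∈ E) (h4 : g' ∈ Z4)
    (hc : g'.c ≠ 0) : Ch E Z2 := by
  exact Ch.of_comm c3 Ch.top (fun a _ k b _ _ => cm_comm (cm_S_Z3 b k)) fun H hH => Z2_gen ha h4 hc fun d =>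
    ⟨cm_comm (hH _ (h3 ⟨rfl, rfl, rfl⟩) ⟨rfl, rfl, rfl⟩ g hg trivial),
      cm_comm (hH _ (h3 ⟨rfl, rfl, rfl⟩) ⟨rfl, rfl, rfl⟩ g' hg' trivial)⟩

/-- PROOF.  `v = y₀.d ≠ 0`, `E ≤ Rv v`.  If all `g.a, g.c` are pairwise dependent they lie in `k u`, `u = g₀.a ≠ 0` (`of_wd`): `er_line`.
Otherwise two of them are independent and `W = {y ∈ Z3 | y.d ∈ k v}` (`perp2`).  Then `Rv v ≤ E`: for `2 ≠ 0` by `er_pl_odd` with
`(0, 1)`, `(1, 0)`; for `2 = 0` by `c1 (ch_Zc E)` (`B_eq_wd`, `span2`).  `ch_Z3_odd` (`N = ⊤`) or `ch_Z3_two` (`N = ⊤`, `Y = W`), `ch_Z2_of`,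
`R_le_of_ch`, `¬ Rs ≤ Rv v`. -/
theorem er2 (h : Dc (Tri.p K) E G M₀) (h3 : Z3 ≤ E) (hR : E ≤ Rs) (hQ : ¬ E ≤ Qs) : Zc E ≤ Z2 := by
  intro y₀ hy
  by_contra n
  obtain ⟨y3, y4⟩ := (mem_W h3 hR).1 hy
  have hv : y₀.d ≠ 0 := fun k => n ⟨y3.1, y3.2.1, y3.2.2, k⟩
  have hE : E ≤ Rv y₀.d := fun g hg => ⟨hR hg, y4 g hg⟩
  obtain ⟨g₀, g1, g2⟩ := SetLike.not_le_iff_exists.1 hQ
  obtain ⟨x, x1, x2⟩ : ∃ x, wd g₀.a x ≠ 0 ∧ ∀ y ∈ Zc E, T (x * y.d) = 0 := by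
    by_contra! k
    refine er_line h h3 hR hQ (u := g₀.a) fun g hg => ⟨of_wd g2 (by_contra fun l => ?_), of_wd g2 (by_contra fun l => ?_)⟩
    · exact let ⟨y, a, b⟩ := k _ l; b (((mem_W h3 hR).1 a).2 g hg).1
    · exact let ⟨y, a, b⟩ := k _ l; b (((mem_W h3 hR).1 a).2 g hg).2
  obtain ⟨r₀, r1, r2⟩ := perp2 x1 (y4 g₀ g1).1 (x2 y₀ hy)
  have hW : ∀ y ∈ Zc E, ∃ r, θ r = r ∧ y.d = r * y₀.d := fun y k => by
    obtain ⟨r, a, b⟩ := perp2 x1 (((mem_W h3 hR).1 k).2 g₀ g1).1 (x2 y k)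
    exact ⟨r / r₀, by rw [map_div₀, a, r1], by
      rw [b, r2, ← mul_assoc, div_mul_cancel₀ _ (left_ne_zero_of_mul (r2 ▸ hv))]⟩
  clear r2
  generalize y₀.d = v at hv hE hW
  have eW : ∀ y, y ∈ Zc E ↔ y ∈ Yv v := fun y => ⟨fun k => ⟨((mem_W h3 hR).1 k).1, hW y k⟩,
    fun k => mem_Zc.2 ⟨h3 k.1, fun g hg => (comY (hE hg) k).symm⟩⟩
  have h1 : Rv v ≤ E := fun x hx => by
    by_cases h2 : (2 : K) = 0
    · exact h.c1 (ch_Zc E) (nmR h3 hR hx.1) (fun y _ k => comY hx ((eW y).1 k)) fun y k => (eW _).2 (cmY h2 hv hx (hE k))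
    · exact of_ac h3 (mul_mem
        (er_pl_odd h h2 h3 hv hE hW (map_zero θ) (map_one θ) (.inr one_ne_zero) (x := Xr 0 x.c 0)
          ⟨⟨rfl, by simp only [UC, Xr_co]⟩, Xr_R T0 hx.2.2⟩)
        (er_pl_odd h h2 h3 hv hE hW (map_one θ) (map_zero θ) (.inl one_ne_zero) (x := Xr x.a 0 0)
          ⟨⟨rfl, by simp only [UC, Xr_co]⟩, Xr_R hx.2.1 T0⟩)) (by simp only [UC, Xr_co]) hx.1
        (by simp only [UC, Xr_co]) (by simp only [UC, Xr_co])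
  have c3 : Ch E Z3 := by
    by_cases h2 : (2 : K) = 0
    · exact ch_Z3_two h2 Ch.top (ch_Zc E) hv h1 (fun g k => iff_of_true trivial (hE k)) fun g _ => eW g
    · obtain ⟨a, c, k1, k2, k3, -⟩ := plane_basis hv
      exact ch_Z3_odd h2 Ch.top k1 ⟨k2, k3⟩ hv (fun g k _ => hR k) (g₁ := Xr a 0 0) (g₂ := Xr c 0 0)
        ⟨h1 (Xr_R k2 T0), trivial, rfl, h1 (Xr_R k3 T0), trivial, rfl⟩
        fun y k l => ⟨h1 ⟨k.2, by rw [show y.a = 0 from k.1]; exact T0, l⟩, trivial⟩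
  obtain ⟨a, ha⟩ := exists_T hv (map_one θ)
  have : T (a * v) = 0 := (hE (R_le_of_ch h h3 hR (ch_Z2_of h3 c3 g1 g2 (g' := Xr 0 g₀.a 0)
    (h1 (Xr_R T0 (hE g1).2.1)) ⟨rfl, rfl⟩ g2) c3 (x := Xr a 0 0) rfl)).2.1
  exact one_ne_zero (ha.symm.trans (mul_comm a v ▸ this))

end Cfsg.Agent.D4F
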