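import Cfsg.Agent.D4F.EB
import Cfsg.Agent.D4F.ER1
import Cfsg.Agent.D4F.EF

/-! The essential subgroups of a saturated fusion system on `U K` are among `Qs`, `Rs`. -/

set_option autoImplicit false
set_option linter.unusedSectionVars false

namespace Cfsg.Agent.D4F

open Subgroup Cfsg.Agent.RFS Cfsg.Agent.U5F Cfsg.Agent.Fus Cfsg.FusionSystem

variable {K : Type*} [Field K] [Tri K] {E : Subgroup (U K)}

theorem eq_QR {G M₀ : Subgroup (MulAut E)} (h : Dc (Tri.p K) E G M₀) (hE : E ≠ ⊤) : E = Qs ∨ E = Rs := by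
  by_cases hQ : E ≤ Qs
  · exact .inl (caseQ h hQ)
  by_cases hR : E ≤ Rs
  · have h3 := Z3_le_R h hR
    exact .inr (le_antisymm hR (er1 h h3 hR (er2 h h3 hR hQ)))
  obtain ⟨g, hg, ha, hb⟩ := exists_not_two hQ hR
  exact absurd (ef_top h (Z4_le h (Z3_le_N h hg ha hb) hg ha hb) hg ha hb) hE

theorem pS : IsPGroup (Tri.p K) (⊤ : Subgroup (U K)) := isPGroup_U.to_subgroup _

theorem ess_QR {F : FusionSystem (⊤ : Subgroup (U K))} (hF : F.IsSaturated (Tri.p K)) (hE : F.IsEssential (Tri.p K) E) :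
    E = Qs ∨ E = Rs :=
  let ⟨_, h⟩ := dc_of_essential pS hE
  eq_QR h (essential_lt pS hF hE).ne

end Cfsg.Agent.D4F
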