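import Cfsg.Agent.U5F.Gen
import Cfsg.Agent.U5F.FF

/-!
Groups `G` of automorphisms of a `p`-subgroup `E` with a strongly `p`-embedded subgroup `M` (modulo `Inn E`), and quadratic sections.
`cm`, `Nm`, `nm_of_cm`, `Ch` and its lemmas come from `RFS/Es`; `Cn`, `Zc`, `Dm`, `Sm`, `Zd`, `cm_swap`, `cm_comm`, `exists_not_two` from `U5F/Es`.
-/

set_option autoImplicit false
set_option linter.unusedSectionVars false

namespace Cfsg.Agent.D4F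

open Subgroup Cfsg.Agent.RFS Cfsg.Agent.U5F Cfsg.Agent.Fus Cfsg.FusionSystem

variable {Ω : Type*} [Group Ω] {E L W : Subgroup Ω}

/-- `L ∩ E` is invariant under `G`. -/
def Iv (G : Subgroup (MulAut E)) (L : Subgroup Ω) : Prop := ∀ α ∈ G, ∀ y ∈ E, y ∈ L → afn α y ∈ L

theorem iv_of_ch (h : Ch E L) (G : Subgroup (MulAut E)) : Iv G L := fun α _ => h α

/-- `t` is conjugation by `x`. -/
def Ind (t : MulAut E) (x : Ω) : Prop := ∀ y ∈ E, afn t y = x * y * x⁻¹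

/-- `L ∩ E` contains its centraliser in `E`. -/
def Sc (E L : Subgroup Ω) : Prop := ∀ y ∈ E, (∀ g ∈ E, g ∈ L → y * g = g * y) → y ∈ L

theorem sc_top : Sc E ⊤ := fun _ _ _ => trivial

theorem ch_conj (h : Ch E L) {a y : Ω} (ha : a ∈ E) (hy : y ∈ E) (hy' : y ∈ L) : a * y * a⁻¹ ∈ L := by
  have := h (MulAut.conj (⟨a, ha⟩ : E)) y hy hy'
  rwa [afn_apply _ hy] at this

/-- The preimage of the centre of `E / W`. -/
def Uc (h : Ch E W) : Subgroup Ω where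
  carrier := {y | y ∈ E ∧ ∀ g ∈ E, cm y g ∈ W}
  mul_mem' {a b} ha hb := ⟨mul_mem ha.1 hb.1, fun g hg => by
    rw [show cm (a * b) g = a * cm b g * a⁻¹ * cm a g by simp only [cm]; group]
    exact mul_mem (ch_conj h ha.1 (cm_mem hb.1 hg) (hb.2 g hg)) (ha.2 g hg)⟩
  one_mem' := ⟨one_mem _, fun g _ => by simpa [cm] using one_mem _⟩
  inv_mem' {a} ha := ⟨inv_mem ha.1, fun g hg => by
    rw [show cm a⁻¹ g = a⁻¹ * (cm a g)⁻¹ * a⁻¹⁻¹ by simp only [cm]; group]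
    exact ch_conj h (inv_mem ha.1) (inv_mem (cm_mem ha.1 hg)) (inv_mem (ha.2 g hg))⟩

theorem mem_Uc {h : Ch E W} {y : Ω} : y ∈ Uc h ↔ y ∈ E ∧ ∀ g ∈ E, cm y g ∈ W := Iff.rfl

theorem ch_Uc (h : Ch E W) : Ch E (Uc h) :=
  Ch.top.of_cm h fun _ hy => ⟨fun k g hg _ => k.2 g hg, fun k => ⟨hy, fun g hg => k g hg trivial⟩⟩

/-- `Ω₁(Z(E))`. -/
def Om (p : ℕ) (E : Subgroup Ω) : Subgroup Ω where
  carrier := {y | y ∈ Zc E ∧ y ^ p = 1}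
  mul_mem' {a b} ha hb := ⟨mul_mem ha.1 hb.1, by
    rw [Commute.mul_pow ((mem_Zc.1 ha.1).2 b (mem_Zc.1 hb.1).1), ha.2, hb.2, one_mul]⟩
  one_mem' := ⟨one_mem _, one_pow _⟩
  inv_mem' {a} ha := ⟨inv_mem ha.1, by rw [inv_pow, ha.2, inv_one]⟩

theorem mem_Om {p : ℕ} {y : Ω} : y ∈ Om p E ↔ y ∈ Zc E ∧ y ^ p = 1 := Iff.rfl

theorem ch_Om (p : ℕ) (E : Subgroup Ω) : Ch E (Om p E) := fun α y hy h => ⟨ch_Zc E α y hy h.1, by
  have := congrArg (afn α) h.2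
  rwa [(homOn_afn α).map_one, (homOn_afn α).map_pow hy] at this⟩

/-- `L ⊔ C_E(L)` is characteristic and contains its centraliser. -/
theorem ch_sup_Cn (h : Ch E L) (hL : L ≤ E) : Ch E (L ⊔ Cn E L) ∧ Sc E (L ⊔ Cn E L) := by
  refine ⟨Ch.of_gen (fun y => y ∈ L ∨ y ∈ Cn E L) (fun α y hy k => k.imp (h α y hy) (ch_Cn h α y hy))
    (fun y _ k => k.elim mem_sup_left mem_sup_right) fun T hT =>
      sup_le (fun y hy => hT y (hL hy) (.inl hy)) fun y hy => hT y hy.1 (.inr hy), fun y hy k => ?_⟩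
  exact mem_sup_right ⟨hy, fun g hg hg' => k g hg (mem_sup_left hg')⟩

/-- `M ≥ Aut_Ω(E)` is strongly `p`-embedded in `G` modulo `Inn E`. -/
structure Dc (p : ℕ) (E : Subgroup Ω) (G M : Subgroup (MulAut E)) : Prop where
  pE : IsPGroup p E
  cen : ∀ x, (∀ y ∈ E, y * x = x * y) → x ∈ E
  le : M ≤ G
  ne : ¬ G ≤ M
  ind : ∀ x, Nm E x → ∃ t ∈ M, Ind t x
  ti : ∀ β ∈ G, β ∉ M → ∀ (t : MulAut E) (x : Ω), x ∉ E → Ind t x → β⁻¹ * t * β ∉ M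
  np : ∀ β ∈ G, β ∉ M → ∀ (t : MulAut E) (x : Ω), x ∉ E → Ind t x →
    ∀ N : Subgroup (MulAut E), IsPGroup p N → t ∈ N → β * t * β⁻¹ ∉ N
  rad : ∀ N : Subgroup (MulAut E), IsPGroup p N → N ≤ G → (∀ α ∈ G, ∀ κ ∈ N, α * κ * α⁻¹ ∈ N) → N ≤ Inn E

/-- `B ≰ E` centralises `M ∩ E`, acts quadratically on the abelian section `L ∩ E / M ∩ E` and trivially on `Top ∩ E / L ∩ E`;
`Top` contains its centraliser in `E` (often `Top = ⊤`, `sc_top`). -/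
structure Sec (G : Subgroup (MulAut E)) (B M L Top : Subgroup Ω) : Prop where
  iM : Iv G M
  iL : Iv G L
  iT : Iv G Top
  ML : ∀ y ∈ E, y ∈ M → y ∈ L
  top : Sc E Top
  nle : ¬ B ≤ E
  nm : ∀ b ∈ B, Nm E b
  ab : ∀ y ∈ E, y ∈ L → ∀ y' ∈ E, y' ∈ L → cm y y' ∈ M
  h0 : ∀ b ∈ B, ∀ y ∈ E, y ∈ M → b * y = y * b
  h1 : ∀ b ∈ B, ∀ b' ∈ B, ∀ y ∈ E, y ∈ L → cm b' (cm b y) ∈ M
  h2 : ∀ b ∈ B, ∀ y ∈ E, y ∈ Top → cm b y ∈ L

theorem Dc.zc {p : ℕ} {G M : Subgroup (MulAut E)} (h : Dc p E G M) {z : Ω} (hc : ∀ g ∈ E, g * z = z * g) : z ∈ Zc E :=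
  mem_Zc.2 ⟨h.cen z hc, fun g hg => (hc g hg).symm⟩

end Cfsg.Agent.D4F
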