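import Cfsg.Agent.D4F.Hx

/-!
The groups `³D₄(q) Φ`.
-/

set_option autoImplicit false
set_option linter.unusedSectionVars false
set_option linter.unusedSimpArgs false
set_option linter.unnecessarySeqFocus false

namespace Cfsg.Agent.D4F

open Subgroup Cfsg.Agent.FW Cfsg.Agent.RootSub Cfsg.Agent.Comm.Hex
open scoped MatrixGroups

universe u

section Aut

variable {K G : Type*} [Field K] [Tri K] [Group G] {E : Hex (kk K) K G}

/-- `ε` is induced by the field automorphism `f`. -/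
structure IsF (E : Hex (kk K) K G) (f : K ≃+* K) (ε : MulAut G) : Prop where
  φ : ∀ A, ε (E.φ A) = E.φ (Matrix.SpecialLinearGroup.map (fk f : kk K →+* kk K) A)
  ψ : ∀ A, ε (E.ψ A) = E.ψ (Matrix.SpecialLinearGroup.map (f : K →+* K) A)
  τ : ∀ c, ε (E.τ c) = E.τ (Units.map (f : K →* K) c.1, Units.map (fk f : kk K →* kk K) c.2)

theorem Nz.exists_isF (h : Nz E) (hg : E.gen = ⊤) (f : K ≃+* K) : ∃ ε, IsF E f ε := by
  obtain ⟨e, h1, h2, h3⟩ := (h.same (h.re f)).equiv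
  exact ⟨((topEquiv.symm.trans (MulEquiv.subgroupCongr hg.symm)).trans e).trans
    ((MulEquiv.subgroupCongr ((E.re_gen _ _).trans hg)).trans topEquiv), h1, h2, h3⟩

theorem IsF.unique (hg : E.gen = ⊤) {f : K ≃+* K} {ε ε' : MulAut G} (h : IsF E f ε) (h' : IsF E f ε') : ε = ε' := by
  have : E.gen ≤ ε.toMonoidHom.eqLocus ε'.toMonoidHom := sup_le (sup_le
    (by rintro _ ⟨A, rfl⟩; exact (h.φ A).trans (h'.φ A).symm) (by rintro _ ⟨A, rfl⟩; exact (h.ψ A).trans (h'.ψ A).symm))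
    (by rintro _ ⟨A, rfl⟩; exact (h.τ A).trans (h'.τ A).symm)
  exact MulEquiv.ext fun g => this (hg ▸ mem_top g)

theorem IsF.mul {f f' : K ≃+* K} {ε ε' : MulAut G} (h : IsF E f ε) (h' : IsF E f' ε') : IsF E (f * f') (ε * ε') where
  φ A := by rw [MulAut.mul_apply, h'.φ, h.φ]; rfl
  ψ A := by rw [MulAut.mul_apply, h'.ψ, h.ψ]; rfl
  τ A := by rw [MulAut.mul_apply, h'.τ, h.τ]; rfl

/-- The field automorphisms of the group. -/
noncomputable def Nz.ε (h : Nz E) (hg : E.gen = ⊤) : (K ≃+* K) →* MulAut G :=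
  MonoidHom.mk' (fun f => (h.exists_isF hg f).choose) fun f f' =>
    (h.exists_isF hg _).choose_spec.unique hg ((h.exists_isF hg f).choose_spec.mul (h.exists_isF hg f').choose_spec)

theorem IsF.NN (h : Nz E) {f : K ≃+* K} {ε : MulAut G} (k : IsF E f ε) (u : U K) : ε (h.NN u) = h.NN (tf 1 1 f u) := by
  have hm : ε E.m = E.m := (k.ψ _).trans (congrArg _ (Hex.map_ww _))
  have hn : ε E.n = E.n := (k.φ _).trans (congrArg _ (Hex.map_ww _))
  have h0 : ∀ a, ε (E.x0 a) = E.x0 (f a) := fun a => (k.ψ _).trans (congrArg _ (Hex.map_xx _ _))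
  have h5 : ∀ a, ε (E.x5 a) = E.x5 (fk f a) := fun a => (k.φ _).trans (congrArg _ (Hex.map_xx _ _))
  have hv : ∀ a b c d e, ε (E.v a b c d e) = E.v (fk f a) (f b) (fk f c) (f d) (fk f e) := fun a b c d e => by
    simp only [Hex.v, ← E.n1, ← E.m4, ← E.m5, ← E.n0, map_mul, map_inv, hm, hn, h0, h5]
  rw [h.NN_apply, h.NN_apply, map_mul, hv, h0]
  congr 2 <;> (try refine Subtype.ext ?_) <;> simp only [tf_apply, tfn, UV, N_one, χ_one, one_mul, one_pow] <;> rfl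

theorem Nz.ε_NN (h : Nz E) (hg : E.gen = ⊤) (f : K ≃+* K) (u : U K) : h.ε hg f (h.NN u) = h.NN (tf 1 1 f u) :=
  (h.exists_isF hg f).choose_spec.NN h u

theorem sd_conj {N H : Type*} [Group N] [Group H] {φ : H →* MulAut N} (g : N ⋊[φ] H) (y : N) :
    g * SemidirectProduct.inl y * g⁻¹ = SemidirectProduct.inl (g.left * φ g.right y * g.left⁻¹) := by
  conv_lhs => rw [← SemidirectProduct.inl_left_mul_inr_right g]
  rw [map_mul, map_mul, SemidirectProduct.inl_aut, map_inv, map_inv]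
  group

end Aut

variable {K : Type u} [Field K] [Tri K]

theorem exists_mod (Φ : Subgroup (K ≃+* K)) (hΦ : ¬ Tri.p K ∣ Nat.card Φ) :
    ∃ (G : Type u) (_ : Group G) (_ : Finite G) (ι : U K →* G),
    Function.Injective ι ∧ ¬ Tri.p K ∣ ι.range.index ∧ (∃ w, ∀ u ∈ Qs, w * ι u * w⁻¹ = ι (ω u)) ∧
    (∃ n, ∀ u ∈ Rs, n * ι u * n⁻¹ = ι (ψ u)) ∧
    (∀ (r : Kˣ) (s : ku K), ∀ f ∈ Φ, ∃ g, ∀ u, g * ι u * g⁻¹ = ι (tf r s f u)) ∧
    ∀ (g : G) (φ : U K → U K), (∀ u, g * ι u * g⁻¹ = ι (φ u)) →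
      ∃ (x : U K) (r : Kˣ) (s : ku K), ∃ f ∈ Φ, ∀ u, φ u = x * tf r s f u * x⁻¹ := by
  have := Fintype.ofFinite K
  have : Finite (K ≃+* K) := Finite.of_injective (fun f : K ≃+* K => (f : K → K)) DFunLike.coe_injective
  obtain ⟨E, hg, h⟩ := exists_nz (K := K)
  let ε := (h.ε hg).comp Φ.subtype
  let G := Cfsg.Lie.twistedD4 K (qq K) ⋊[ε] Φ
  have : Finite G := Finite.of_equiv _ SemidirectProduct.equivProd.symm
  let ι : U K →* G := SemidirectProduct.inl.comp h.NN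
  have inj : Function.Injective ι := SemidirectProduct.inl_injective.comp h.NN_inj
  have key : ∀ (g : G) (u v : U K), g * ι u * g⁻¹ = ι v ↔
      g.left * h.NN (tf 1 1 g.right u) * g.left⁻¹ = h.NN v := fun g u v => by
    rw [← h.ε_NN hg, ← (SemidirectProduct.inl_injective (φ := ε)).eq_iff]
    exact (sd_conj g _).congr_left
  refine ⟨G, inferInstance, inferInstance, ι, inj, ?_, ⟨⟨E.m, 1⟩, fun u hu => (key _ _ _).2 ?_⟩,
    ⟨⟨E.n, 1⟩, fun u hu => (key _ _ _).2 ?_⟩, fun r s f hf => ?_, fun g φ k => ?_⟩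
  · have h1 := ι.range.card_mul_index
    have h2 := h.NN.range.card_mul_index
    rw [← Nat.card_congr (MonoidHom.ofInjective h.NN_inj).toEquiv] at h2
    rw [Nat.card_congr (SemidirectProduct.equivProd (φ := ε)), Nat.card_prod, ← h2,
      ← Nat.card_congr (MonoidHom.ofInjective inj).toEquiv, mul_assoc, mul_right_inj' Nat.card_pos.ne'] at h1
    rw [h1]
    exact fun k => ((Tri.pp (K := K)).dvd_mul.1 k).elim (not_dvd_index h.NN_inj) hΦ
  · show E.m * h.NN (tf 1 1 1 u) * E.m⁻¹ = _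
    rw [tf_one]
    exact h.m_NN hu
  · show E.n * h.NN (tf 1 1 1 u) * E.n⁻¹ = _
    rw [tf_one]
    exact h.n_NN hu
  · refine ⟨⟨E.τ (r, Units.mk0 ⟨kv s, θkv s⟩ fun e => kv_ne s (congrArg Subtype.val e)), ⟨f, hf⟩⟩,
      fun u => (key _ _ _).2 ?_⟩
    rw [tf_eq r s f]
    exact h.τ_NN _ rfl _
  · simp only [key] at k
    obtain ⟨_, hx, c, e⟩ := E.mem_B_of_norm' (g := g.left) (hg ▸ mem_top _) fun y hy => by
      obtain ⟨v, rfl⟩ := h.NN_range.ge hy
      have := k ((tf 1 1 g.right.1)⁻¹ v)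
      rw [MulAut.apply_inv_self] at this
      rw [this, ← h.NN_range]
      exact ⟨_, rfl⟩
    obtain ⟨x, rfl⟩ := h.NN_range.ge hx
    let s := mkk (c.2 : kk K).1 (fun e => c.2.ne_zero (Subtype.ext e)) (c.2 : kk K).2
    refine ⟨x, c.1, s, g.right, g.right.2, fun u => h.NN_inj ?_⟩
    rw [← k, e, tf_eq c.1, map_mul, map_mul, map_inv, MulAut.mul_apply, ← h.τ_NN c (s := s) rfl]
    group

end Cfsg.Agent.D4F
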