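import Cfsg.Agent.D4F.AutS
import Cfsg.Agent.D4F.Cen
import Cfsg.Agent.D4F.Mod
import Cfsg.Agent.U5F.Fin

/-! Saturated fusion systems on the Sylow `p`-subgroup of `³D₄(q)`: the reduction to the essential subgroups and their automizers. -/

set_option autoImplicit false
set_option linter.unusedSectionVars false

namespace Cfsg.Agent.D4F

open Subgroup Cfsg.Agent.RFS Cfsg.Agent.U5F Cfsg.Agent.Fus Cfsg.FusionSystem Cfsg.Agent.SpF

variable {K : Type*} [Field K] [Tri K] {F F' : FusionSystem (⊤ : Subgroup (U K))}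

theorem pT : IsPGroup (Tri.p K) (⊤ : Subgroup (U K)) := isPGroup_U.to_subgroup _

theorem cen_Q (x : U K) (hx : ∀ y ∈ (Qs : Subgroup (U K)), y * x = x * y) : x ∈ Qs :=
  eq_zero_of_T fun s => by
    have := cm_e3 x (n := Xd s) ⟨rfl, rfl, rfl⟩
    rw [cm_eq_one.2 (hx _ rfl).symm] at this
    exact this.symm

theorem cen_R (x : U K) (hx : ∀ y ∈ (Rs : Subgroup (U K)), y * x = x * y) : x ∈ Rs := by
  have := cm_z2 x (n := Xe 1 θ1) ⟨rfl, rfl, rfl, rfl⟩
  rw [cm_eq_one.2 (hx _ rfl).symm] at this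
  simpa only [UC, mem_Rs] using this.symm

/-- Saturated, and the automorphisms of `S` are in normal form. -/
structure Nf (F : FusionSystem (⊤ : Subgroup (U K))) : Prop where
  sat : F.IsSaturated (Tri.p K)
  form : Form (AS F)

/-- The torus and the two reflections are in `F`. -/
structure Std (F : FusionSystem (⊤ : Subgroup (U K))) : Prop extends Nf F where
  tor : TH K ≤ AS F
  ω : ωQ K ∈ F.autGroup Qs
  ψ : ψR K ∈ F.autGroup Rs

/-- The essential subgroups and their automizers. -/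
structure Inp (K : Type*) [Field K] [Tri K] : Prop where
  ess : ∀ F : FusionSystem (⊤ : Subgroup (U K)), Nf F → ∀ E, F.IsEssential (Tri.p K) E → E = Qs ∨ E = Rs
  genQ : ∀ F : FusionSystem (⊤ : Subgroup (U K)), Std F → F.IsEssential (Tri.p K) Qs → ∀ α ∈ F.autGroup Qs,
    ∃ φ ∈ AS F, α = rQ φ ∨ ∃ g, α = cQ g * ωQ K * rQ φ
  genR : ∀ F : FusionSystem (⊤ : Subgroup (U K)), Std F → F.IsEssential (Tri.p K) Rs → ∀ α ∈ F.autGroup Rs,
    ∃ φ ∈ AS F, α = rR φ ∨ ∃ g, α = cR g * ψR K * rR φ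
  tor : ∀ F : FusionSystem (⊤ : Subgroup (U K)), Nf F → F.IsEssential (Tri.p K) Qs → F.IsEssential (Tri.p K) Rs →
    ∃ (γ : MulAut (U K)) (F' : FusionSystem (⊤ : Subgroup (U K))), FIso F F' γ γ.symm ∧ Form (AS F') ∧ TH K ≤ AS F' ∧
      (∃ α ∈ F'.autGroup Qs, (ωQ K)⁻¹ * α ∈ OQ K) ∧ ∃ μ ∈ F'.autGroup Rs, (ψR K)⁻¹ * μ ∈ OR K

theorem le_of (I : Inp K) (H : Std F) (h : AS F ≤ AS F') (hω' : ωQ K ∈ F'.autGroup Qs) (hψ' : ψR K ∈ F'.autGroup Rs) :
    F ≤ F' := by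
  refine alperin_le pT H.sat F' ?_
  rintro P (rfl | hP) α hα
  · obtain ⟨φ, h1, h2⟩ := exists_AS ((mem_autGroup le_rfl).1 hα)
    exact mem_autGroup_of_isMap (h h1) fun x _ => (h2 x).symm
  obtain rfl | rfl := I.ess F H.toNf P hP
  · obtain ⟨φ, h1, rfl | ⟨g, rfl⟩⟩ := I.genQ F H hP α hα
    exacts [res_mem (h h1), mul_mem (mul_mem (res_mem (conj_mem_AS F' g)) hω') (res_mem (h h1))]
  · obtain ⟨φ, h1, rfl | ⟨g, rfl⟩⟩ := I.genR F H hP α hα
    exacts [res_mem (h h1), mul_mem (mul_mem (res_mem (conj_mem_AS F' g)) hψ') (res_mem (h h1))]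

theorem real_of (I : Inp K) (H : Std F) : F.IsRealizable (Tri.p K) := by
  have hT : ∀ r s, tf r s 1 ∈ AS F := fun r s => H.tor ⟨r, s, rfl⟩
  have m : ∀ f f' : K ≃+* K, tf 1 1 f * tf 1 1 f' = tf 1 1 (f * f') := fun f f' => by
    rw [tf_mul]
    exact tf_congr (by simp [UV]) (by simp [UV])
  let τ : (K ≃+* K) →* MulAut (U K) := MonoidHom.mk' (tf 1 1) fun f f' => (m f f').symm
  let Φ : Subgroup (K ≃+* K) := (AS F).comap τ
  have hΦ : ¬ Tri.p K ∣ Nat.card Φ := fun k => not_dvd_TF (sa_AS pT H.sat) (k.trans (card_dvd_of_injective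
    ((τ.comp Φ.subtype).codRestrict _ fun f => ⟨f.2, 1, 1, f, rfl⟩) fun f f' e => Subtype.ext
      (tf_inj (r := 1) (r' := 1) (s := 1) (s' := 1) fun u => by
        rw [show tf 1 1 f.1 = tf 1 1 f'.1 from congrArg Subtype.val e]; exact ⟨rfl, rfl⟩).2.2))
  obtain ⟨G, _, _, ι, hι, hi, ⟨w, hw⟩, ⟨n, hn⟩, h1, h2⟩ := exists_mod Φ hΦ
  let j := ι.comp (⊤ : Subgroup (U K)).subtype
  have hr : j.range = ι.range := by rw [MonoidHom.range_comp, range_subtype, ← MonoidHom.range_eq_map]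
  obtain ⟨b, hb⟩ := gIso_of_injective j (hι.comp Subtype.val_injective)
  obtain ⟨F₀, h⟩ := exists_fIso (groupFusionSystem j.range) hb.symm
  have h3 : F₀.IsRealizedBy j := isRealizedBy_of_fIso h.symm fun x => (hfn_apply j x.2).symm
  have h4 : ∃ T : Sylow (Tri.p K) G, (T : Subgroup G) = j.range :=
    ⟨(isPGroup_U.of_surjective _ ι.rangeRestrict_surjective).toSylow hi, hr.symm⟩
  have e : ∀ x, hfn j x = ι x := fun x => hfn_apply j (mem_top x)
  have k : ∀ {P f} (g : G), (∀ u ∈ P, g * ι u * g⁻¹ = ι (f u)) → IsMap F₀ P f := fun g hg =>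
    IsRealizedBy_isMap h3 le_top (fun _ _ => trivial) g fun z hz => by rw [e, e, hg z hz]
  have k' : ∀ φ ∈ AS F₀, ∃ g r s, ∃ f ∈ Φ, φ = MulAut.conj g * tf r s f := fun φ hφ => by
    obtain ⟨g, hg⟩ := IsRealizedBy_exists_conj h3 hφ
    obtain ⟨x, r, s, f, h5, h6⟩ := h2 g φ fun u => by rw [← e, ← e, hg u trivial]
    exact ⟨x, r, s, f, h5, MulEquiv.ext h6⟩
  have H₀ : Std F₀ :=
    { sat := saturated_of_isRealizedBy h3 h4
      form := fun φ hφ => let ⟨g, r, s, f, _, h⟩ := k' φ hφ; ⟨g, r, s, f, h⟩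
      tor := by
        rintro _ ⟨r, s, rfl⟩
        obtain ⟨x, hx⟩ := h1 r s 1 Φ.one_mem
        exact k x fun u _ => hx u
      ω := mem_autGroup_of_isMap (k w hw) fun _ => afn_ωQ
      ψ := mem_autGroup_of_isMap (k n hn) fun _ => afn_ψR }
  obtain rfl : F = F₀ := by
    refine fs_le_antisymm (le_of I H (fun φ hφ => ?_) H₀.ω H₀.ψ) (le_of I H₀ (fun φ hφ => ?_) H.ω H.ψ)
    · obtain ⟨g, a, b, f, rfl⟩ := H.form φ hφ
      have h5 := (mul_mem_cancel_left (conj_mem_AS F g)).1 hφ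
      rw [tf_eq] at h5
      obtain ⟨x, hx⟩ := h1 a b f ((mul_mem_cancel_left (hT a b)).1 h5)
      exact mul_mem (conj_mem_AS F₀ g) (k x fun u _ => hx u)
    · obtain ⟨s, a, b, f, h5, rfl⟩ := k' φ hφ
      rw [tf_eq]
      exact mul_mem (conj_mem_AS F s) (mul_mem (hT a b) h5)
  exact isRealizable_of_isRealizedBy h3 h4

theorem Nf.real (I : Inp K) (H : Nf F) : F.IsRealizable (Tri.p K) := by
  by_cases hR : F.IsEssential (Tri.p K) Rs
  swap
  · exact isRealizable_of_uniq pT H.sat cen_Q (fun E hE => (I.ess F H E hE).resolve_right fun e => hR (e ▸ hE))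
      fun φ _ x hx => chr_mem φ hx
  by_cases hQ : F.IsEssential (Tri.p K) Qs
  swap
  · exact isRealizable_of_uniq pT H.sat cen_R (fun E hE => (I.ess F H E hE).resolve_left fun e => hQ (e ▸ hE))
      fun φ _ x hx => chr_mem φ hx
  obtain ⟨γ, F₁, e, f₁, hT, hω, hψ⟩ := I.tor F H hQ hR
  have h₁ := e.saturated H.sat
  have a := sa_AS pT h₁
  exact isRealizable_of_push e (real_of I ⟨⟨h₁, f₁⟩, hT,
    ω_mem_of a (lc_AS pT h₁ (imX_chr γ Qs ▸ e.essential hQ : F₁.IsEssential _ Qs)) hT hω,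
    ψ_mem_of a (lc_AS pT h₁ (imX_chr γ Rs ▸ e.essential hR : F₁.IsEssential _ Rs)) hT hψ⟩)

theorem isRealizable_U (I : Inp K) (hF : F.IsSaturated (Tri.p K)) : F.IsRealizable (Tri.p K) := by
  obtain ⟨γ, hγ⟩ := exists_form (sa_AS pT hF)
  obtain ⟨F₁, e⟩ := exists_push' (F' := F) γ
  exact isRealizable_of_push e (Nf.real I ⟨e.saturated hF, fun φ hφ => hγ φ (push_AS e hφ)⟩)

/-- The identity isomorphism, for `Inp.tor` without a push. -/
theorem fIso_one (F : FusionSystem (⊤ : Subgroup (U K))) : FIso F F (1 : MulAut (U K)) (1 : MulAut (U K)).symm :=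
  FIso.refl F

theorem result_of {Ω : Type*} [Group Ω] {S : Subgroup Ω} [Finite S] (p : ℕ) [Fact p.Prime] (F : FusionSystem S)
    (hF : F.IsSaturated p) {K : Type*} [Field K] [Fintype K] [CharP K p] (n : ℕ) (hn : 1 ≤ n)
    (hK : Fintype.card K = (p ^ n) ^ 3) (T : Sylow p ↥(Cfsg.Lie.twistedD4 K (p ^ n)))
    (e : ↥S ≃* ↥(T : Subgroup ↥(Cfsg.Lie.twistedD4 K (p ^ n)))) (I : ∀ [Tri K], Inp K) : F.IsRealizable p := by
  let _ : Tri K := ⟨p, n, Fact.out, hn, inferInstance, inferInstance, by rw [Nat.card_eq_fintype_card, hK]⟩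
  obtain ⟨E, -, h⟩ := exists_nz (K := K)
  have : Finite (Cfsg.Lie.twistedD4 K (p ^ n)) := inferInstance
  let T' : Sylow p ↥(Cfsg.Lie.twistedD4 K (p ^ n)) :=
    (isPGroup_U.of_surjective _ h.NN.rangeRestrict_surjective).toSylow (not_dvd_index h.NN_inj)
  obtain ⟨F', a, b, k⟩ := exists_push F (e.trans ((T.equiv T').trans (MonoidHom.ofInjective h.NN_inj).symm))
  exact isRealizable_of_push k (isRealizable_U I (k.saturated hF))

end Cfsg.Agent.D4F
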