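import Cfsg.Agent.D4F.Cm

/-!
Linear algebra of `K` over `k` (`r ∈ k` is `θ r = r`).  Read the first half of `D4F/U` and `D4F/Cm`.  Identities: `simp only [wd, TE]; ring`;
apply `congrArg θ` once and twice to a hypothesis, then `linear_combination` or `grind`.  `T (x * wd a c)` is the determinant of the conjugates
of `x, a, c`.
-/

set_option autoImplicit false
set_option linter.unusedSectionVars false
set_option linter.unusedSimpArgs false

namespace Cfsg.Agent.D4F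

variable {K : Type*} [Field K] [Tri K]

/-- `r = c / a`: `θ (θ r) = θ r`. -/
theorem of_wd {a c : K} (ha : a ≠ 0) (h : wd a c = 0) : ∃ r, θ r = r ∧ c = r * a := by
  obtain ⟨r, rfl⟩ : ∃ r, c = r * a := ⟨c / a, by field_simp⟩
  refine ⟨r, θ_inj.1 (mul_left_cancel₀ (χ_ne_zero ha) ?_), rfl⟩
  simp only [wd, TE] at h ⊢
  linear_combination h

theorem wd_smul {r : K} (hr : θ r = r) (a : K) : wd a (r * a) = 0 := by
  simp only [wd, TE, hr]; ring

theorem dep_of_wd {a c : K} (h : wd a c = 0) (h0 : a ≠ 0 ∨ c ≠ 0) :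
    ∃ s t u, θ s = s ∧ θ t = t ∧ (s ≠ 0 ∨ t ≠ 0) ∧ u ≠ 0 ∧ a = s * u ∧ c = t * u := by
  by_cases ha : a = 0
  · exact ⟨0, 1, c, map_zero _, map_one _, .inr one_ne_zero, h0.resolve_left (not_not.2 ha), by rw [ha, zero_mul],
      (one_mul _).symm⟩
  · obtain ⟨r, hr, e⟩ := of_wd ha h
    exact ⟨1, r, a, map_one _, hr, .inl one_ne_zero, ha, (one_mul _).symm, e⟩

theorem ind_of_wd {a c s t : K} (h : wd a c ≠ 0) (hs : θ s = s) (ht : θ t = t) (e : s * a + t * c = 0) : s = 0 ∧ t = 0 := by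
  have e1 := congrArg θ e
  have e2 := congrArg θ e1
  simp only [TE, hs, ht] at e1 e2
  refine ⟨mul_right_cancel₀ h ?_, mul_right_cancel₀ h ?_⟩ <;> rw [wd]
  · linear_combination θ (θ c) * e1 - θ c * e2
  · linear_combination θ a * e2 - θ (θ a) * e1

theorem exists_wd {a : K} (ha : a ≠ 0) : ∃ c, wd a c ≠ 0 := by
  obtain ⟨s, hs⟩ := exists_θ_ne (K := K)
  refine ⟨s * a, fun h => ?_⟩
  obtain ⟨r, hr, e⟩ := of_wd ha h
  exact hs (mul_right_cancel₀ ha e ▸ hr)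

/-- Cramer: `s = wd x c / wd a c`, `t = wd a x / wd a c`. -/
theorem span2 {a c x : K} (h : wd a c ≠ 0) (hx : T (x * wd a c) = 0) : ∃ s t, θ s = s ∧ θ t = t ∧ x = s * a + t * c := by
  have h1 := θ_ne_zero h
  refine ⟨wd x c / wd a c, wd a x / wd a c, ?_, ?_, ?_⟩
  · rw [map_div₀, div_eq_div_iff h1 h]
    simp only [wd, TE] at hx ⊢
    linear_combination (-θ (θ c)) * hx
  · rw [map_div₀, div_eq_div_iff h1 h]
    simp only [wd, TE] at hx ⊢
    linear_combination (θ (θ a)) * hx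
  · rw [div_mul_eq_mul_div, div_mul_eq_mul_div, ← add_div, eq_div_iff h]
    simp only [wd, TE] at hx ⊢
    linear_combination hx

/-- `r = d / wd a c`; `θ (θ c) * h1 - θ (θ a) * h2` etc. give `d * θ (wd a c) = θ d * wd a c`. -/
theorem perp2 {a c d : K} (h : wd a c ≠ 0) (h1 : T (a * d) = 0) (h2 : T (c * d) = 0) : ∃ r, θ r = r ∧ d = r * wd a c := by
  refine ⟨d / wd a c, ?_, (div_mul_cancel₀ _ h).symm⟩
  rw [map_div₀, div_eq_div_iff (θ_ne_zero h) h]
  simp only [wd, TE] at h1 h2 ⊢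
  linear_combination θ (θ c) * h1 - θ (θ a) * h2

/-- Take `x` with `Δ = T (x * wd a c) ≠ 0`; `d = (r * wd c x + r' * wd x a) / Δ`. -/
theorem dual2 {a c r r' : K} (h : wd a c ≠ 0) (hr : θ r = r) (hr' : θ r' = r') : ∃ d, T (a * d) = r ∧ T (c * d) = r' := by
  obtain ⟨x, hx⟩ := exists_T h (map_one θ)
  refine ⟨r * wd c x + r' * wd x a, ?_, ?_⟩ <;> simp only [wd, TE, hr, hr'] at hx ⊢
  · linear_combination r * hx
  · linear_combination r' * hx

theorem perp1 {a x : K} (ha : a ≠ 0) (h : ∀ d, T (a * d) = 0 → T (x * d) = 0) : ∃ r, θ r = r ∧ x = r * a := by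
  refine of_wd ha (by_contra fun k => ?_)
  obtain ⟨d, h1, h2⟩ := dual2 k (map_zero θ) (map_one θ)
  exact one_ne_zero (h2.symm.trans (h d h1))

theorem exists_perp (a c : K) : ∃ d, d ≠ 0 ∧ T (a * d) = 0 ∧ T (c * d) = 0 := by
  by_cases h : wd a c = 0
  · by_cases h0 : a ≠ 0 ∨ c ≠ 0
    · obtain ⟨s, t, u, hs, ht, -, hu, rfl, rfl⟩ := dep_of_wd h h0
      obtain ⟨y, hy⟩ := exists_wd hu
      exact ⟨_, hy, by rw [mul_assoc, T_smul hs, T_wd_left, mul_zero], by rw [mul_assoc, T_smul ht, T_wd_left, mul_zero]⟩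
    · push Not at h0
      exact ⟨1, one_ne_zero, by rw [h0.1, zero_mul, T_zero], by rw [h0.2, zero_mul, T_zero]⟩
  · exact ⟨_, h, T_wd_left a c, T_wd_right a c⟩

/-- two independent vectors orthogonal to `v` -/
theorem Fld.two (v : K) : ∃ a c, wd a c ≠ 0 ∧ T (a * v) = 0 ∧ T (c * v) = 0 := by
  obtain ⟨a, ha, h1, -⟩ := exists_perp v v
  obtain ⟨y, hy⟩ := exists_T ha (map_one θ)
  obtain ⟨c, hc, h2, h3⟩ := exists_perp v y
  refine ⟨a, c, fun h => hc ?_, by rwa [mul_comm], by rwa [mul_comm]⟩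
  obtain ⟨r, hr, rfl⟩ := of_wd ha h
  rw [mul_comm, mul_assoc, T_smul hr, hy, mul_one] at h3
  rw [h3, zero_mul]

/-- A plane is not contained in a line. -/
theorem plane_not_line (v u : K) : ∃ x, T (x * v) = 0 ∧ ¬ ∃ r, θ r = r ∧ x = r * u := by
  obtain ⟨a, c, h, h1, h2⟩ := Fld.two v
  by_contra! k
  obtain ⟨r, hr, rfl⟩ := k a h1
  obtain ⟨r', hr', rfl⟩ := k c h2
  exact h (by simp only [wd, TE, hr, hr']; ring)

/-- A plane has a basis. -/
theorem plane_basis {v : K} (hv : v ≠ 0) : ∃ a c, wd a c ≠ 0 ∧ T (a * v) = 0 ∧ T (c * v) = 0 ∧ ∃ r, θ r = r ∧ v = r * wd a c := by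
  obtain ⟨a, c, h, h1, h2⟩ := Fld.two v
  exact ⟨a, c, h, h1, h2, perp2 h h1 h2⟩

theorem hyp (c d : K) {r : K} (hr : θ r = r) : ∃ c₁ d₁, T (c₁ * d) = 0 ∧ T (c * d₁) = 0 ∧ T (c₁ * d₁) = r := by
  obtain ⟨x, h1, h2⟩ := plane_not_line d c
  by_cases hc : c = 0
  · obtain ⟨y, hy⟩ := exists_T (a := x) (fun e => h2 ⟨0, map_zero _, by rw [e, zero_mul]⟩) hr
    exact ⟨x, y, h1, by rw [hc, zero_mul, T_zero], hy⟩
  · obtain ⟨y, k1, k2⟩ := dual2 (fun e => h2 (of_wd hc e)) (map_zero θ) hr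
    exact ⟨x, y, h1, k1, k2⟩

/-- With `u = c / a`: `s + t (θ u + θ θ u) + r θ u θ θ u = 0`; subtract the conjugates. -/
theorem ind3 {a c s t r : K} (h : wd a c ≠ 0) (hs : θ s = s) (ht : θ t = t) (hr : θ r = r)
    (e : s * χ a + t * B a c + r * χ c = 0) : s = 0 ∧ t = 0 ∧ r = 0 := by
  have e1 := congrArg θ e
  have e2 := congrArg θ e1
  have n := N_ne_zero h
  refine ⟨mul_right_cancel₀ n ?_, mul_right_cancel₀ n ?_, mul_right_cancel₀ n ?_⟩ <;>
    simp only [wd, TE, hs, ht, hr] at e e1 e2 ⊢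
  · linear_combination -(c ^ 2 * (θ a * θ (θ c) - θ (θ a) * θ c) * e + θ c ^ 2 * (θ (θ a) * c - a * θ (θ c)) * e1 +
      θ (θ c) ^ 2 * (a * θ c - θ a * c) * e2)
  · linear_combination a * c * (θ a * θ (θ c) - θ (θ a) * θ c) * e + θ a * θ c * (θ (θ a) * c - a * θ (θ c)) * e1 +
      θ (θ a) * θ (θ c) * (a * θ c - θ a * c) * e2
  · linear_combination -(a ^ 2 * (θ a * θ (θ c) - θ (θ a) * θ c) * e + θ a ^ 2 * (θ (θ a) * c - a * θ (θ c)) * e1 +
      θ (θ a) ^ 2 * (a * θ c - θ a * c) * e2)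

/-- three independent vectors span -/
theorem Fld.span {x y z : K}
    (h : ∀ s t r : K, θ s = s → θ t = t → θ r = r → s * x + t * y + r * z = 0 → s = 0 ∧ t = 0 ∧ r = 0) (w : K) :
    ∃ s t r, θ s = s ∧ θ t = t ∧ θ r = r ∧ w = s * x + t * y + r * z := by
  let f : kk K × kk K × kk K → K := fun v => v.1 * x + v.2.1 * y + v.2.2 * z
  have inj : Function.Injective f := fun v v' e => by
    obtain ⟨a, b, c⟩ := h _ _ _ (sub_mem v.1.2 v'.1.2) (sub_mem v.2.1.2 v'.2.1.2) (sub_mem v.2.2.2 v'.2.2.2)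
      (by simp only [f] at e; linear_combination e)
    exact Prod.ext (Subtype.ext (sub_eq_zero.1 a))
      (Prod.ext (Subtype.ext (sub_eq_zero.1 b)) (Subtype.ext (sub_eq_zero.1 c)))
  obtain ⟨v, hv⟩ := ((Nat.bijective_iff_injective_and_card f).2 ⟨inj, by
    rw [Nat.card_prod, Nat.card_prod, card_kk, card_K, pow_three]⟩).2 w
  exact ⟨v.1, v.2.1, v.2.2, v.1.2, v.2.1.2, v.2.2.2, hv.symm⟩

/-- Counting (`card_kk`, `card_K`: an injective map `kk K × kk K × kk K → K` is onto). -/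
theorem span3 {a c : K} (h : wd a c ≠ 0) (x : K) : ∃ s t r, θ s = s ∧ θ t = t ∧ θ r = r ∧ x = s * χ a + t * B a c + r * χ c := by
  exact Fld.span (fun _ _ _ hs ht hr e => ind3 h hs ht hr e) x

/-- `1, u, u ^ 2` is a basis. -/
theorem span_pow {u : K} (h : θ u ≠ u) (x : K) : ∃ s t r, θ s = s ∧ θ t = t ∧ θ r = r ∧ x = s + t * u + r * u ^ 2 := by
  have k : θ (θ u) ≠ u := fun e => h ((congrArg θ e).symm.trans (θθθ u))
  have := Fld.span (x := 1) (y := u) (z := u ^ 2) (fun s t r hs ht hr e => ?_) x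
  · simpa only [mul_one] using this
  have e1 := congrArg θ e
  simp only [TE, hs, ht, hr] at e1
  have f : t + r * (u + θ u) = 0 := mul_left_cancel₀ (sub_ne_zero.2 h) (by linear_combination e1 - e)
  have f1 := congrArg θ f
  simp only [TE, hs, ht, hr] at f1
  have g : r = 0 := mul_left_cancel₀ (sub_ne_zero.2 k) (by linear_combination f1 - f)
  have g1 : t = 0 := by linear_combination f - (u + θ u) * g
  exact ⟨by linear_combination e - u * g1 - u ^ 2 * g, g1, g⟩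

theorem B_inj (h2 : (2 : K) ≠ 0) {a c : K} (ha : a ≠ 0) (h : B a c = 0) : c = 0 := by
  obtain ⟨r, -, k, e⟩ := B_eq_zero ha h
  rw [e, (mul_eq_zero.1 k).resolve_left h2, zero_mul]

theorem B_surj (h2 : (2 : K) ≠ 0) {a : K} (ha : a ≠ 0) (d : K) : ∃ c, B a c = d := by
  refine Finite.surjective_of_injective (f := B a) (fun c c' e => sub_eq_zero.1 (B_inj h2 ha ?_)) d
  simp only [TE] at e ⊢
  linear_combination e

/-- `d = a⁻¹ * (θ t - t)` by `exists_of_T`; solve for `c = a * u`: `B a (a u) = χ a (θ u + θ θ u)`. -/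
theorem B_surj2 (h2 : (2 : K) = 0) {a d : K} (ha : a ≠ 0) (h : T (a * d) = 0) : ∃ c, B a c = d := by
  obtain ⟨t, e⟩ := exists_of_T h
  obtain ⟨c, hc⟩ : ∃ c, χ a * c = θ (θ t) := ⟨θ (θ t) / χ a, mul_div_cancel₀ _ (χ_ne_zero ha)⟩
  have e1 := congrArg θ hc
  have e2 := congrArg θ e1
  refine ⟨c, mul_left_cancel₀ ha ?_⟩
  simp only [TE] at e1 e2 ⊢
  linear_combination e1 + e2 - e + t * h2

theorem B_span (d : K) : ∃ a a' c c', d = B a c + B a' c' := by
  by_cases h2 : (2 : K) = 0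
  · obtain ⟨s, hs⟩ := exists_wd (one_ne_zero (α := K))
    obtain ⟨y, k1, k2⟩ := dual2 hs (θT d) (map_zero θ)
    obtain ⟨c, hc⟩ := B_surj2 h2 one_ne_zero (d := d - y) (by rw [mul_sub, T_sub, k1, one_mul, sub_self])
    obtain ⟨c', hc'⟩ := B_surj2 h2 (fun e : s = 0 => hs (by simp [e, wd])) k2
    exact ⟨1, s, c, c', by rw [hc, hc', sub_add_cancel]⟩
  · obtain ⟨c, hc⟩ := B_surj h2 one_ne_zero d
    exact ⟨1, 0, c, 0, by rw [hc, B_zero, add_zero]⟩

/-- Put `c = a u`, `c' = a u'`: `T u = T u' = 0` and `T (c' * B a c) = - N a * T (u u')`; `plane_not_line 1 1`, `perp1`. -/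
theorem exists_cc {a : K} (ha : a ≠ 0) : ∃ c c', T (χ a * c) = 0 ∧ T (χ a * c') = 0 ∧ T (c' * B a c) ≠ 0 := by
  obtain ⟨u, u', h1, h2, h3⟩ := hyp (1 : K) 1 (map_one θ)
  refine ⟨a * u, a * u', ?_, ?_, fun e => N_ne_zero ha ?_⟩ <;> simp only [TE] at *
  · linear_combination a * θ a * θ (θ a) * h1
  · linear_combination a * θ a * θ (θ a) * h2
  · linear_combination -e - a * θ a * θ (θ a) * h3 + a * θ a * θ (θ a) * (u' + θ u' + θ (θ u')) * h1

/-- For `2 ≠ 0` and `m ≠ 0` the products `B a m`, `B c m` are independent. -/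
theorem eq_zero_of_B2 (h2 : (2 : K) ≠ 0) {a c m v r r' : K} (h : wd a c ≠ 0) (hr : θ r = r) (hr' : θ r' = r')
    (h1 : B a m = r * v) (h3 : B c m = r' * v) : m = 0 := by
  by_contra hm
  have k : r' * a + -r * c = 0 := B_inj h2 hm (by
    simp only [TE, hr, hr'] at h1 h3 ⊢
    linear_combination r' * h1 - r * h3)
  have k1 := (ind_of_wd h hr' (by rw [map_neg, hr]) k).1
  have k2 : c = 0 := B_inj h2 hm (by rw [B_comm, h3, k1, zero_mul])
  exact h (by simp [k2, wd])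

/-- The trilinear form does not vanish on a plane: otherwise `χ a, B a c, χ c` are orthogonal to `a` (`span3`). -/
theorem tri_ne (h2 : (2 : K) ≠ 0) {a c : K} (h : wd a c ≠ 0) : ∃ x ∈ ({a, c} : Set K), ∃ y ∈ ({a, c} : Set K),
    ∃ z ∈ ({a, c} : Set K), T (x * B y z) ≠ 0 := by
  by_contra! k
  have ma : a ∈ ({a, c} : Set K) := Set.mem_insert _ _
  have mc : c ∈ ({a, c} : Set K) := Set.mem_insert_of_mem _ rfl
  have k1 := k a ma a ma a ma
  have k2 := k a ma a ma c mc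
  have k3 := k a ma c mc c mc
  have k4 : a = 0 := eq_zero_of_T fun x => by
    obtain ⟨s, t, r, hs, ht, hr, rfl⟩ := span3 h x
    refine mul_left_cancel₀ h2 ?_
    simp only [TE, hs, ht, hr] at k1 k2 k3 ⊢
    linear_combination s * k1 + 2 * t * k2 + r * k3
  exact h (by simp [k4, wd])

theorem exists_sq (h2 : (2 : K) = 0) {r : K} (hr : θ r = r) : ∃ s, θ s = s ∧ s ^ 2 = r := by
  have inj : Function.Injective fun s : K => s ^ 2 := fun s t (e : s ^ 2 = t ^ 2) =>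
    sub_eq_zero.1 (pow_eq_zero_iff two_ne_zero |>.1 (by linear_combination e + (t ^ 2 - s * t) * h2))
  obtain ⟨s, hs⟩ := Finite.surjective_of_injective inj r
  exact ⟨s, inj (show θ s ^ 2 = s ^ 2 by rw [← map_pow, show s ^ 2 = r from hs, hr]), hs⟩

theorem χ_eq_zero {a : K} : χ a = 0 ↔ a = 0 := by
  exact ⟨fun h => by_contra fun k => χ_ne_zero k h, fun h => by rw [h, χ_zero]⟩

end Cfsg.Agent.D4F
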