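import Cfsg.Agent.D4F.Fld

/-!
Arithmetic of `K` over `k`.
-/

set_option autoImplicit false
set_option linter.unusedSectionVars false
set_option linter.unusedSimpArgs false

namespace Cfsg.Agent.D4F

variable {K : Type*} [Field K] [Tri K]

/-- PROOF.  Work in the finite field `k = kk K` (`FiniteField.exists_root_sum_quadratic`, or count: `α x²` and `r - γ y²` take
`(q + 1) / 2` values each). -/
theorem exists_sq_add (h2 : (2 : K) ≠ 0) {α γ r : K} (hα : θ α = α) (hγ : θ γ = γ) (hr : θ r = r) (h0 : α ≠ 0) (h1 : γ ≠ 0) :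
    ∃ x y, θ x = x ∧ θ y = y ∧ α * x ^ 2 + γ * y ^ 2 = r := by
  classical
  have := Fintype.ofFinite (kk K)
  have hc : Fintype.card (kk K) % 2 = 1 := by
    rw [← Nat.card_eq_fintype_card, card_kk, ← Nat.odd_iff]
    exact (Tri.pp.odd_of_ne_two fun e => h2 (two_eq_zero_iff.2 e)).pow
  have a0 : (⟨α, hα⟩ : kk K) ≠ 0 := fun e => h0 (congrArg Subtype.val e)
  have a1 : (⟨γ, hγ⟩ : kk K) ≠ 0 := fun e => h1 (congrArg Subtype.val e)
  obtain ⟨x, y, e⟩ := FiniteField.exists_root_sum_quadratic (R := kk K)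
    (f := Polynomial.C ⟨α, hα⟩ * Polynomial.X ^ 2)
    (g := Polynomial.C ⟨γ, hγ⟩ * Polynomial.X ^ 2 + Polynomial.C 0 * Polynomial.X + Polynomial.C (-⟨r, hr⟩))
    (Polynomial.degree_C_mul_X_pow 2 a0) (Polynomial.degree_quadratic a1) hc
  refine ⟨x, y, x.2, y.2, ?_⟩
  have e' := congrArg Subtype.val e
  simp only [Polynomial.eval_add, Polynomial.eval_mul, Polynomial.eval_C, Polynomial.eval_pow, Polynomial.eval_X, zero_mul,
    add_zero, Subfield.coe_add, Subfield.coe_mul, Subfield.coe_neg, Subfield.coe_zero, SubmonoidClass.coe_pow] at e'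
  linear_combination e'

/-- PROOF.  `a = c u`: `T u = 0`, `N c * T (χ u) = r`, and `2 T (χ u) = - T (u u)` if `T u = 0`.  The form `T (u u')` is non-degenerate on the plane
`T u = 0` (`3 ≠ 0`, `perp1`): take `u₁` in the plane with `T (u₁ u₁) ≠ 0` (polarise), `u₂ = wd 1 u₁ ≠ 0` is orthogonal to `1, u₁`, and
`T (u₂ u₂) ≠ 0` (else `u₂` is orthogonal to `1, u₁, u₂`; `span2`: `u₂ = s + t u₁` forces `s = t = 0`).  `exists_sq_add`. -/
theorem univ (h2 : (2 : K) ≠ 0) (h3 : (3 : K) ≠ 0) {c r : K} (hc : c ≠ 0) (hr : θ r = r) :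
    ∃ a, T (χ c * a) = 0 ∧ T (χ a * c) = r := by
  obtain ⟨u, hu, hu'⟩ : ∃ u : K, T u = 0 ∧ T (u * u) ≠ 0 := by
    by_contra! k
    obtain ⟨u, hu, hn⟩ := plane_not_line (1 : K) 1
    refine hn (perp1 one_ne_zero fun d hd => mul_left_cancel₀ h2 ?_)
    rw [mul_one] at hu
    rw [one_mul] at hd
    have k1 := k _ hu
    have k2 := k _ hd
    have k3 := k (u + d) (by rw [T_add, hu, hd, add_zero])
    simp only [TE] at k1 k2 k3 ⊢
    linear_combination k3 - k1 - k2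
  have n0 := N_ne_zero hc
  obtain ⟨x, y, hx, hy, e⟩ := exists_sq_add h2 (α := T (u * u)) (γ := 3 * T (u * u)) (r := -2 * (r / N c)) (θT _)
    (by rw [map_mul, θT, map_ofNat]) (by rw [map_mul, map_div₀, θN, hr, map_neg, map_ofNat]) hu' (mul_ne_zero h3 hu')
  have e1 : T (x * u + y * (θ (θ u) - θ u)) = 0 := by
    simp only [TE, hx, hy] at hu ⊢
    linear_combination x * hu
  have e2 : T (χ (x * u + y * (θ (θ u) - θ u))) = r / N c := mul_left_cancel₀ h2 (by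
    simp only [T, χ, map_add, map_mul, map_sub, θθθ, hx, hy] at hu e ⊢
    linear_combination -e + (x ^ 2 + y ^ 2) * (u + θ u + θ (θ u)) * hu)
  refine ⟨c * (x * u + y * (θ (θ u) - θ u)), ?_, ?_⟩
  · rw [← mul_assoc, mul_comm (χ c), mul_χ, T_smul (θN c), e1, mul_zero]
  · rw [χ_mul, mul_right_comm, mul_comm (χ c), mul_χ, T_smul (θN c), e2, mul_div_cancel₀ _ n0]

/-- PROOF.  `a = u / y` reduces to `N u = κ' T u`, `κ' = κ N y`.  It suffices to find `u` with `T u ≠ 0` and `κ' T u / N u = s ^ 2`, `s ∈ k` (take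
`s u`).  With `u = w⁻¹ = χ w / N w`: it suffices to find `w` with `T (χ w) = κ'` (then `w ≠ 0`, `T u = κ' / N w`, `N u = 1 / N w`, `s = κ'`).
If `3 ≠ 0` use `univ` with `c = 1`.  If `3 = 0`: `T (χ (w₀ + r)) = T (χ w₀) + 2 r T w₀` for `r ∈ k`, with `T w₀ ≠ 0`. -/
theorem exists_NT (h2 : (2 : K) ≠ 0) {κ y : K} (hκ : θ κ = κ) (h0 : κ ≠ 0) (hy : y ≠ 0) : ∃ a, a ≠ 0 ∧ N a = κ * T (a * y) := by
  have k0 : κ * N y ≠ 0 := mul_ne_zero h0 (N_ne_zero hy)
  have k1 : θ (κ * N y) = κ * N y := by rw [map_mul, hκ, θN]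
  obtain ⟨w, hw⟩ : ∃ w : K, T (χ w) = κ * N y := by
    by_cases h3 : (3 : K) = 0
    · obtain ⟨w, hw⟩ := exists_T_ne (K := K)
      obtain ⟨r, hr, e⟩ : ∃ r : K, θ r = r ∧ r * (2 * T w) = κ * N y - T (χ w) :=
        ⟨(κ * N y - T (χ w)) / (2 * T w), by rw [map_div₀, map_sub, k1, θT, map_mul, θT, map_ofNat],
          div_mul_cancel₀ _ (mul_ne_zero h2 hw)⟩
      refine ⟨w + r, ?_⟩
      simp only [T, χ, map_add, map_mul, θθθ, hr] at e ⊢
      linear_combination e + r ^ 2 * h3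
    · obtain ⟨w, -, hw⟩ := univ h2 h3 one_ne_zero k1
      exact ⟨w, by rwa [mul_one] at hw⟩
  have w0 : w ≠ 0 := by
    rintro rfl
    rw [χ_zero, T_zero] at hw
    exact k0 hw.symm
  obtain ⟨a, ha⟩ : ∃ a : K, a * y * w = κ * N y := ⟨κ * N y / (y * w), by
    rw [mul_assoc, div_mul_cancel₀ _ (mul_ne_zero hy w0)]⟩
  refine ⟨a, fun e => k0 (by rw [← ha, e, zero_mul, zero_mul]), ?_⟩
  have e1 := congrArg N ha
  rw [N_mul, N_mul, N_fix k1] at e1
  have e2 : N w * T (a * y) = κ * N y * (κ * N y) := by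
    rw [← T_smul (θN w), ← mul_χ w, show w * χ w * (a * y) = a * y * w * χ w by ring, ha, T_smul k1, hw]
  refine mul_left_cancel₀ (mul_ne_zero (N_ne_zero hy) (N_ne_zero w0)) ?_
  linear_combination e1 - κ * N y * e2

/-- `f u` is a root of `(X - u) (X - θ u) (X - θ θ u)`; `span_pow`. -/
theorem gal {f : K ≃+* K} (h : ∀ s, θ s = s → f s = s) : (∀ x, f x = x) ∨ (∀ x, f x = θ x) ∨ ∀ x, f x = θ (θ x) := by
  obtain ⟨u, hu⟩ := exists_θ_ne (K := K)
  have e : u ^ 3 - T u * u ^ 2 + T (χ u) * u - N u = 0 := by simp only [TE]; ring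
  have e1 := congrArg f e
  simp only [map_add, map_sub, map_mul, map_pow, map_zero, h _ (θT _), h _ (θN _)] at e1
  have e2 : (f u - u) * (f u - θ u) * (f u - θ (θ u)) = 0 := by
    simp only [TE] at e1
    linear_combination e1
  rcases mul_eq_zero.1 e2 with e3 | e3
  · rcases mul_eq_zero.1 e3 with e3 | e3
    · refine Or.inl fun x => ?_
      obtain ⟨s, t, r, hs, ht, hr, rfl⟩ := span_pow hu x
      simp only [map_add, map_mul, map_pow, h _ hs, h _ ht, h _ hr, sub_eq_zero.1 e3]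
    · refine Or.inr (Or.inl fun x => ?_)
      obtain ⟨s, t, r, hs, ht, hr, rfl⟩ := span_pow hu x
      simp only [map_add, map_mul, map_pow, h _ hs, h _ ht, h _ hr, sub_eq_zero.1 e3, hs, ht, hr]
  · refine Or.inr (Or.inr fun x => ?_)
    obtain ⟨s, t, r, hs, ht, hr, rfl⟩ := span_pow hu x
    simp only [map_add, map_mul, map_pow, h _ hs, h _ ht, h _ hr, sub_eq_zero.1 e3, hs, ht, hr]

theorem gal_sq {f : K ≃+* K} (h : ∀ s, θ s = s → f s = s) (h2 : ∀ x, f (f x) = x) (x : K) : f x = x := by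
  rcases gal h with e | e | e
  · exact e x
  · have := h2 (θ x)
    rw [e, e, θθθ] at this
    rw [e, ← this]
  · have := h2 x
    rw [e, e, θθθ] at this
    rw [e, this, this]

/-- `f` fixes `k` and `c / a`; `span_pow`. -/
theorem fix_two {f : K ≃+* K} {l a c : K} (h : wd a c ≠ 0) (h1 : ∀ s, θ s = s → l * f (s * a) = s * a) (h2 : l * f c = c) :
    l = 1 ∧ ∀ x, f x = x := by
  have a0 : a ≠ 0 := by
    rintro rfl
    exact h (by simp [wd])
  have e1 := h1 1 (map_one _)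
  rw [one_mul] at e1
  have e2 : ∀ s, θ s = s → f s = s := fun s hs => mul_right_cancel₀ a0 (by
    have := h1 s hs
    rw [map_mul] at this
    linear_combination this - f s * e1)
  obtain ⟨u, rfl⟩ : ∃ u, c = u * a := ⟨c / a, (div_mul_cancel₀ _ a0).symm⟩
  have e3 : f u = u := mul_right_cancel₀ a0 (by
    rw [map_mul] at h2
    linear_combination h2 - f u * e1)
  have e4 : ∀ x, f x = x := fun x => by
    obtain ⟨s, t, r, hs, ht, hr, rfl⟩ := span_pow (u := u) (fun k => h (wd_smul k a)) x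
    simp only [map_add, map_mul, map_pow, e2 _ hs, e2 _ ht, e2 _ hr, e3]
  rw [e4] at e1
  exact ⟨mul_right_cancel₀ a0 (by rw [e1, one_mul]), e4⟩

/-- PROOF.  `φ` is symmetric.  Fix `u` with `wd 1 u ≠ 0`, `x ≠ 0` orthogonal to `φ 1`, `φ u` (`exists_perp`); `φ x` is orthogonal to `1, u, x`.
So `φ x = r * wd 1 u` (`perp2`), and `r = 0` unless `x = s + t u` (`span2`).  In that case `m = T (u * φ 1) = T (φ u)` has `t m = s m = 0`, so
`φ 1`, `φ u` are multiples of `wd 1 u` and a combination of `1, u` is killed. -/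
theorem alt_ker (h2 : (2 : K) = 0) {φ : K → K} (ha : ∀ x y, φ (x + y) = φ x + φ y) (hs : ∀ r x, θ r = r → φ (r * x) = r * φ x)
    (h : ∀ x, T (x * φ x) = 0) : ∃ x, x ≠ 0 ∧ φ x = 0 := by
  have sy : ∀ x y, T (x * φ y) = T (y * φ x) := fun x y => by
    have k := h (x + y)
    rw [ha, add_mul, mul_add, mul_add, T_add, T_add, T_add, h, h] at k
    linear_combination k - T (y * φ x) * h2
  obtain ⟨u, hu⟩ := exists_wd (one_ne_zero (α := K))
  obtain ⟨x, x0, x1, x2⟩ := exists_perp (φ 1) (φ u)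
  rw [mul_comm] at x1 x2
  obtain ⟨r, hr, e⟩ := perp2 hu (d := φ x) (by rw [sy, x1]) (by rw [sy, x2])
  by_cases r0 : r = 0
  · exact ⟨x, x0, by rw [e, r0, zero_mul]⟩
  obtain ⟨s, t, hs', ht, rfl⟩ := span2 hu (x := x) (mul_left_cancel₀ r0 (by
    rw [← T_smul hr, mul_left_comm, ← e, h, mul_zero]))
  rw [add_mul, T_add, mul_assoc, mul_assoc, T_smul hs', T_smul ht, h, mul_zero] at x1 x2
  rw [sy 1 u] at x2
  have m0 : T (u * φ 1) = 0 := by_contra fun m0 => x0 (by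
    rw [zero_add] at x1
    rw [add_zero] at x2
    rw [(mul_eq_zero.1 x1).resolve_right m0, (mul_eq_zero.1 x2).resolve_right m0]
    ring)
  obtain ⟨r1, hr1, e1⟩ := perp2 hu (h 1) m0
  obtain ⟨r2, hr2, e2⟩ := perp2 hu (d := φ u) (by rw [sy, m0]) (h u)
  by_cases r10 : r1 = 0
  · exact ⟨1, one_ne_zero, by rw [e1, r10, zero_mul]⟩
  refine ⟨r2 * 1 + r1 * u, fun k => r10 (ind_of_wd hu hr2 hr1 k).2, ?_⟩
  rw [ha, hs _ _ hr2, hs _ _ hr1, e1, e2]
  linear_combination r1 * r2 * wd 1 u * h2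

/-- PROOF.  `l = N c₁ * c₂ ^ 2`; `χ c₁ = w ^ 2` with `w = c₁ ^ (q (q + 1) / 2)`, `(N w) ^ 2 = (N c₁) ^ 2`; `t = ± c₁ c₂ w`. -/
theorem tor_surj {c₁ c₂ : K} (h1 : c₁ ≠ 0) (h2 : c₂ ≠ 0) (hc : θ c₂ = c₂) :
    ∃ t l, t ≠ 0 ∧ l ≠ 0 ∧ θ l = l ∧ c₁ = t ^ 2 * l⁻¹ ∧ c₂ = (N t)⁻¹ * l ^ 2 := by
  obtain ⟨w, hw⟩ : ∃ w, w ^ 2 = χ c₁ := by
    obtain ⟨m, hm⟩ := Nat.even_mul_succ_self (qq K)
    refine ⟨c₁ ^ m, ?_⟩
    rw [χ, θ_def, θ_def, ← pow_mul, ← pow_mul, ← pow_add, mul_two, ← hm]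
    congr 1
    ring
  have n1 := N_ne_zero h1
  have w0 : w ≠ 0 := by
    rintro rfl
    exact χ_ne_zero h1 (by rw [← hw]; ring)
  have e : N w ^ 2 = N c₁ ^ 2 := by
    rw [pow_two, ← N_mul, ← pow_two, hw]
    simp only [TE]
    ring
  obtain ⟨v, hv, v0, e'⟩ : ∃ v, v ^ 2 = χ c₁ ∧ v ≠ 0 ∧ N v = N c₁ := by
    rcases sq_eq_sq_iff_eq_or_eq_neg.1 e with e | e
    · exact ⟨w, hw, w0, e⟩
    · refine ⟨-w, by rw [neg_sq, hw], neg_ne_zero.2 w0, ?_⟩
      rw [← neg_neg (N c₁), ← e]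
      simp only [N, map_neg]
      ring
  have l0 : N c₁ * c₂ ^ 2 ≠ 0 := mul_ne_zero n1 (pow_ne_zero _ h2)
  refine ⟨c₁ * c₂ * v, N c₁ * c₂ ^ 2, mul_ne_zero (mul_ne_zero h1 h2) v0, l0, by rw [map_mul, map_pow, θN, hc], ?_, ?_⟩
  · rw [eq_mul_inv_iff_mul_eq₀ l0, mul_pow, hv, ← mul_χ]
    ring
  · rw [N_mul, N_mul, e', N_fix hc, eq_inv_mul_iff_mul_eq₀ (mul_ne_zero (mul_ne_zero n1 (pow_ne_zero _ h2)) n1)]
    ring

end Cfsg.Agent.D4F
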