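import Cfsg.Agent.D4F.Lin
import Cfsg.Agent.FW.HexRel2
import Cfsg.Agent.FW.HexD4
import Cfsg.Agent.S1067

/-!
The group `U K` inside a hexagon datum.
-/

set_option autoImplicit false
set_option linter.unusedSectionVars false
set_option linter.unusedSimpArgs false
set_option linter.unnecessarySeqFocus false

namespace Cfsg.Agent.D4F

open Subgroup Cfsg.Agent.FW Cfsg.Agent.RootSub Cfsg.Agent.Comm.Hex
open scoped MatrixGroups

variable {K G : Type*} [Field K] [Tri K] [Group G]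

/-- A datum whose embedding is the inclusion. -/
def Nz (E : Hex (kk K) K G) : Prop := ∀ t, E.ι0 t = t

namespace Nz

variable {E : Hex (kk K) K G} (h : Nz E)
include h

theorem N0 (s : K) : (E.N0 s : K) = N s := by
  have := Fintype.ofFinite K
  have := Fintype.ofFinite (kk K)
  have e : Fintype.card (kk K) = qq K := by rw [← Nat.card_eq_fintype_card, card_kk]
  rw [← h, N, mul_assoc, θ_def, θ_def, ← e]
  by_cases h2 : (2 : K) = 0
  · have : CharP K 2 := CharTwo.of_one_ne_zero_of_two_eq_zero one_ne_zero h2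
    refine (E.norm_eq2 (.inr ?_) s).1
    rw [← Nat.card_eq_fintype_card, card_K]
    exact lt_of_lt_of_le (by norm_num) (Nat.pow_le_pow_left two_le_qq 3)
  · exact (E.norm_eq h2 s).1

theorem χ_eq (s : K) : E.χ s = χ s := by
  by_cases hs : s = 0
  · simp [hs, Hex.χ, χ_zero]
  · rw [Hex.χ, h, h.N0, ← mul_χ]
    field_simp

theorem e2 (s u : K) : E.e2 s u = -B s u := by
  rw [E.e2_eq, h.χ_eq, h.χ_eq, h.χ_eq]
  simp only [TE]
  ring

theorem e1_aux (s u : K) : (E.e1 s u : K) = T (s * χ u) - T (χ s * u) - E.γ s (χ u) := by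
  rw [E.e1_eq, h.χ_eq, show χ (-u) = χ u by simp only [TE]; ring]
  push_cast
  simp only [h.N0, TE]
  ring

theorem γ1 (s : K) : (E.γ s 1 : K) = T s := by
  by_cases hq : ∃ t : kk K, t ≠ 0 ∧ t ≠ 1
  · obtain ⟨t, h0, h1⟩ := hq
    rw [← h, (E.trace_eq h0 h1 s).1, h.e2]
    simp only [TE]
    ring
  push Not at hq
  have n1 : ∀ u : K, u ≠ 0 → N u = 1 := fun u hu =>
    congrArg Subtype.val (hq ⟨N u, θN u⟩ fun e => N_ne_zero hu (congrArg Subtype.val e))
  have h2 : (2 : K) = 0 := by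
    have := n1 (-1) (by simp)
    simp only [TE] at this
    linear_combination -this
  have : CharP K 2 := CharTwo.of_one_ne_zero_of_two_eq_zero one_ne_zero h2
  have c1 : ∀ u : K, χ u = u⁻¹ := fun u => by
    by_cases hu : u = 0
    · simp [hu, χ_zero]
    · exact eq_inv_of_mul_eq_one_right ((mul_χ u).trans (n1 u hu))
  have q2 : qq K = 2 := by
    rw [← card_kk, Nat.card_eq_two_iff]
    exact ⟨0, 1, zero_ne_one, Set.eq_univ_of_forall fun t => by simpa [or_iff_not_imp_left] using hq t⟩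
  obtain ⟨a, ha⟩ := exists_θ_ne (K := K)
  refine sub_eq_zero.1 (Hex.add_inv_eq_zero (d := fun s => (E.γ s 1 : K) - T s) (a := a)
    (fun u hu => by simpa [N_def, q2] using n1 u hu) (by rintro rfl; simp at ha) (by rintro rfl; simp at ha)
    (fun u v => by simp only [E.γ_add, T_add]; push_cast; ring) (fun u v => ?_) s)
  have k : ∀ u, (E.γ u⁻¹ 1 : K) - T u⁻¹ = -T u - E.e1 1 u := fun u => by
    rw [h.e1_aux, E.γ_mul 1, c1, c1]
    simp only [one_mul, inv_one]
    ring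
  simp only [k, E.e1_add, T_add]
  push_cast
  ring

theorem γ (s u : K) : (E.γ s u : K) = T (s * u) := by rw [E.γ_mul, h.γ1]

theorem e1 (s u : K) : (E.e1 s u : K) = -T (χ s * u) := by rw [h.e1_aux, h.γ]; ring

theorem e3 (s u : K) : (E.e3 s u : K) = T (χ u * s) := by rw [E.e3_eq]; push_cast; rw [h.e1, neg_neg]

theorem fb (s : K) (t : kk K) : (E.fb s t : K) = N s * t ^ 2 := by
  obtain ⟨x, h1, h2, -⟩ := exists_N_one (K := K)
  have k := congrArg Subtype.val (E.fb_add (x - 1) 1 1)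
  rw [E.fb_eq, E.fb_eq (x - 1), E.fa_eq, E.fc_eq, sub_add_cancel] at k
  push_cast at k
  rw [h.e3, h.γ, h.N0, h.N0, h.χ_eq, h, h1] at k
  have k2 := N_add (x - 1) 1
  rw [sub_add_cancel, h1, N_one] at k2
  have k3 : (E.fb 1 1 : K) = 1 := mul_left_cancel₀ (N_ne_zero (sub_ne_zero.2 h2)) (by
    simp only [OneMemClass.coe_one, mul_one, mul_neg, T_neg, neg_mul, one_mul,
      show χ (-1 : K) = χ 1 by simp only [TE]; ring, mul_comm (χ (1 : K))] at k k2 ⊢
    linear_combination -k + k2)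
  rw [E.fb_eq]
  push_cast
  rw [h.N0, k3, mul_one]

theorem same {G' : Type*} [Group G'] {E' : Hex (kk K) K G'} (h' : Nz E') : Hex.Same E E' :=
  Hex.Same.of (RingHom.ext fun t => (h t).trans (h' t).symm) (funext fun s => Subtype.ext ((h.N0 s).trans (h'.N0 s).symm))
    (funext₂ fun s u => Subtype.ext ((h.γ s u).trans (h'.γ s u).symm))
    (funext₂ fun s u => Subtype.ext ((h.e3 s u).trans (h'.e3 s u).symm))
    (funext₂ fun s u => Subtype.ext ((h.fb s u).trans (h'.fb s u).symm))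

/-- The embedding of `U K`. -/
def NN : U K →* G := MonoidHom.mk' (fun u => E.v ⟨u.b, u.hb⟩ u.c ⟨u.z, u.hz⟩ u.d ⟨u.e, u.he⟩ * E.x0 u.a) fun u w => by
  rw [mul_assoc, ← mul_assoc (E.x0 u.a), ← inv_mul_cancel_right (E.x0 u.a * _) (E.x0 u.a), E.a_v, mul_assoc, ← E.x0_add,
    ← mul_assoc, E.v_mul]
  congr 2
  · simp only [UC, E.fa_eq, h _]; ring
  · refine Subtype.ext ?_
    simp only [E.β_eq, E.fa_eq, E.fc_eq, h _, h.χ_eq]
    push_cast
    simp only [h.γ, h.fb, h.e3, UE]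
    ring
  · simp only [UC, E.fc_eq, h _, h.χ_eq, h.e2]; ring
  · refine Subtype.ext ?_
    simp only [E.fd_eq]
    push_cast
    simp only [h.γ, h.e1, h.N0, UC]
    ring

theorem NN_apply (u : U K) : h.NN u = E.v ⟨u.b, u.hb⟩ u.c ⟨u.z, u.hz⟩ u.d ⟨u.e, u.he⟩ * E.x0 u.a := rfl

theorem NN_inj : Function.Injective h.NN := fun u v e => by
  obtain ⟨a, b, c, d, e, f⟩ := E.vx_inj e
  exact U.ext f (congrArg Subtype.val a) b d (congrArg Subtype.val e) (congrArg Subtype.val c)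

theorem NN_range : h.NN.range = E.U := by
  ext x
  rw [E.mem_U]
  exact ⟨by rintro ⟨u, rfl⟩; exact ⟨_, _, _, _, _, _, rfl⟩, by
    rintro ⟨b, c, z, d, e, a, rfl⟩; exact ⟨⟨a, b, c, d, e, z, b.2, e.2, z.2⟩, rfl⟩⟩

theorem NN_a (t : K) : h.NN (Xa t) = E.x0 t := by
  rw [NN_apply]; exact mul_eq_right.2 E.v_zero
theorem NN_b (t : K) (ht : θ t = t) : h.NN (Xb t ht) = E.x5 ⟨t, ht⟩ := by
  rw [NN_apply, E.x5_v]; exact mul_eq_left.2 E.x0_zero
theorem NN_c (t : K) : h.NN (Xc t) = E.x4 t := by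
  rw [NN_apply, E.x4_v]; exact mul_eq_left.2 E.x0_zero
theorem NN_d (t : K) : h.NN (Xd t) = E.x2 t := by
  rw [NN_apply, E.x2_v]; exact mul_eq_left.2 E.x0_zero
theorem NN_e (t : K) (ht : θ t = t) : h.NN (Xe t ht) = E.x1 ⟨t, ht⟩ := by
  rw [NN_apply, E.x1_v]; exact mul_eq_left.2 E.x0_zero
theorem NN_z (t : K) (ht : θ t = t) : h.NN (Xz t ht) = E.x3 ⟨t, ht⟩ := by
  rw [NN_apply, E.x3_v]; exact mul_eq_left.2 E.x0_zero

theorem m_NN {u : U K} (hu : u ∈ Qs) : E.m * h.NN u * E.m⁻¹ = h.NN (ω u) := by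
  rw [NN_apply, NN_apply, mem_Qs.1 hu, show (ω u).a = 0 from rfl, E.x0_zero, mul_one, mul_one, E.m_v]
  congr 1
  refine Subtype.ext ?_
  rw [E.β_eq]
  push_cast
  simp only [h.γ, ω, neg_mul, T_neg, mul_comm u.d]
  ring

theorem n_NN {u : U K} (hu : u ∈ Rs) : E.n * h.NN u * E.n⁻¹ = h.NN (ψ u) := by
  have e : ψ u = Xa (-u.c) * Xe (-u.z) (by rw [map_neg, u.hz]) * Xd u.d * Xz u.e u.he * Xc u.a := by
    ext <;> simp only [ψ, UE] <;> ring
  have e' : u = Xc u.c * Xz u.z u.hz * Xd u.d * Xe u.e u.he * Xa u.a := by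
    ext <;> simp only [UC, mem_Rs.1 hu]
  rw [e]
  conv_lhs => rw [e']
  simp only [map_mul, NN_a, NN_c, NN_d, NN_e, NN_z, ← conj_mul, E.n0, E.n1, E.n2, E.n3, E.n4]
  rfl

theorem τ_NN (c : Kˣ × (kk K)ˣ) {s : ku K} (hs : kv s = c.2) (u : U K) :
    E.τ c * h.NN u * (E.τ c)⁻¹ = h.NN (tf c.1 s 1 u) := by
  have h1 := c.1.ne_zero
  have h2 := kv_ne s
  rw [NN_apply, NN_apply, ← conj_mul, E.τ_v, E.τ0]
  congr 2
  · exact Subtype.ext (by simp only [tf_apply, tfn, UV, hs]; rfl)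
  · simp only [tf_apply, tfn, UV, hs, E.coe_ι, h _]; ring
  · refine Subtype.ext ?_
    simp only [Units.val_mul, Units.val_inv_eq_inv_val, E.coe_N]
    push_cast
    simp only [tf_apply, tfn, UV, ← hs, E.coe_ι, h _, h.N0, N_mul, N_fix (θkv s)]
    field_simp
  · simp only [Units.val_mul, Units.val_inv_eq_inv_val, E.coe_ι, h _, E.coe_N]
    push_cast
    simp only [tf_apply, tfn, UV, ← hs, h.N0, ← mul_χ]
    field_simp
  · refine Subtype.ext ?_
    simp only [Units.val_mul, E.coe_N]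
    push_cast
    simp only [tf_apply, tfn, UV, ← hs, h.N0]

end Nz

/-- The restriction of a field automorphism to `k`. -/
def fk (f : K ≃+* K) : kk K ≃+* kk K where
  toFun t := ⟨f t, θf f t.2⟩
  invFun t := ⟨f.symm t, θf f.symm t.2⟩
  left_inv t := Subtype.ext (f.symm_apply_apply t)
  right_inv t := Subtype.ext (f.apply_symm_apply t)
  map_mul' s t := Subtype.ext (map_mul f s.1 t.1)
  map_add' s t := Subtype.ext (map_add f s.1 t.1)

theorem Nz.re {E : Hex (kk K) K G} (h : Nz E) (f : K ≃+* K) : Nz (E.re (fk f) f) := fun t =>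
  f.injective ((E.re_ι0 (fk f) f t).trans (h _))

theorem exists_nz [Fintype K] : ∃ E : Hex (kk K) K (Cfsg.Lie.twistedD4 K (qq K)), E.gen = ⊤ ∧ Nz E := by
  have := Fintype.ofFinite (kk K)
  have e : Fintype.card (kk K) = qq K := by rw [← Nat.card_eq_fintype_card, card_kk]
  have := exists_hex_D4' (kk K) K (by rw [e, ← Nat.card_eq_fintype_card, card_K])
  rw [e] at this
  obtain ⟨E, hE⟩ := this
  let a : kk K →+* kk K := E.ι0.codRestrict (kk K) fun t => by
    rw [mem_kk, θ_def, ← map_pow, show t ^ qq K = t from e ▸ FiniteField.pow_card t]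
  let α := RingEquiv.ofBijective a (Finite.injective_iff_bijective.1 a.injective)
  exact ⟨E.re α.symm (RingEquiv.refl K), (E.re_gen _ _).trans hE, fun t =>
    (E.re_ι0 α.symm (RingEquiv.refl K) t).trans (congrArg Subtype.val (α.apply_symm_apply t))⟩

theorem not_dvd_index [Fintype K] {ι : U K →* Cfsg.Lie.twistedD4 K (qq K)} (h : Function.Injective ι) :
    ¬ Tri.p K ∣ ι.range.index := by
  have hq : IsPrimePow (qq K) := (Tri.pp (K := K)).isPrimePow.pow (by have := Tri.n1 (K := K); omega)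
  have h1 := ι.range.card_mul_index
  have h2 := two_le_qq (K := K)
  rw [S1067.result hq (by rw [← Nat.card_eq_fintype_card, card_K]), ← Nat.card_congr (MonoidHom.ofInjective h).toEquiv,
    card_U, mul_assoc, mul_assoc, mul_right_inj' (by positivity)] at h1
  have hp : Tri.p K ∣ qq K := dvd_pow_self _ (by have := Tri.n1 (K := K); omega)
  have k : ∀ n, n ≠ 0 → ¬ Tri.p K ∣ qq K ^ n - 1 := fun n hn e => (Tri.pp (K := K)).one_lt.ne' (Nat.dvd_one.1
    ((Nat.dvd_sub_iff_right (Nat.one_le_pow _ _ (by omega)) (dvd_pow hp hn)).1 e))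
  rw [h1, (Tri.pp (K := K)).dvd_mul, (Tri.pp (K := K)).dvd_mul]
  rintro (e | e | e)
  · exact k 2 (by omega) e
  · exact k 6 (by omega) e
  · exact (Tri.pp (K := K)).one_lt.ne' (Nat.dvd_one.1
      ((Nat.dvd_add_right (dvd_add (dvd_pow hp (by omega)) (dvd_pow hp (by omega)))).1 e))

end Cfsg.Agent.D4F
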