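import Cfsg.Agent.D4F.Lin

/-!
The kernels `OQ`, `OR` are `p`-groups.  `U5F/Ker` is the same file for `SU₅` (copy from it).
Read the headers and signatures of `D4F/U`, `U5F/Gen`, `D4F/Def`.  `k` is the fixed field of `θ`.  Tools: `simp only [mem_X, UC, UV, h..]` (`UE`, `TE`
unfold `T N χ B`) then `ring`, `field_simp`, `grind`; `afn_mul`, `afn_mem`, `afn_cm`, `afn_dv`, `afn_res`, `homOn_afn`, `cjQ`, `cjR`, `congQ`,
`congR`, `mem_OQ`, `mem_OR`, `dv_Z1`, `dv_Z2`, `dv_Z3`, `dv_Z4`, `cm_c`, `cm_d4`, `cm_e3`, `cm_z2`, `cm_dR`, `cm_zR3`, `cm_zQ`, `decomp`.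
-/

set_option autoImplicit false
set_option linter.unusedSectionVars false
set_option linter.unusedSimpArgs false
set_option linter.unnecessarySeqFocus false

namespace Cfsg.Agent.D4F

open Subgroup Cfsg.Agent.RFS Cfsg.Agent.U5F Cfsg.Agent.Fus

variable {K : Type*} [Field K] [Tri K] {A₀ : Subgroup (MulAut (U K))}
  {A : Subgroup (MulAut (Qs : Subgroup (U K)))} {B₀ : Subgroup (MulAut (Rs : Subgroup (U K)))}

/-- PROOF.  `z = cm (Xb 1 θ1) (Xe z.z z.hz)`; for `g, h ∈ Qs`, `cm g h ∈ Z1` depends only on `b c d e` (`cm_Qs_Qs`, `cm_zQ`). -/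
theorem OQ_Z1 {α : MulAut (Qs : Subgroup (U K))} (h : α ∈ OQ K) {z : U K} (hz : z ∈ Z1) : afn α z = z := by
  have h1 : Xb (1 : K) θ1 ∈ Qs := rfl
  have h2 : Xe z.z z.hz ∈ Qs := rfl
  have a := mem_Z1.1 (cm_Qs_Qs h1 h2)
  have e : z = cm (Xb 1 θ1) (Xe z.z z.hz) := by
    rw [mem_Z1] at hz
    ext <;> simp only [a, hz, cm_zQ h1 h2, sf, UC]
  have b := mem_Z1.1 (cm_Qs_Qs (afn_mem α h1) (afn_mem α h2))
  rw [e, afn_cm α h1 h2]
  ext <;> simp only [a, b, cm_zQ h1 h2, cm_zQ (afn_mem α h1) (afn_mem α h2), sf, mem_OQ.1 h _ h1, mem_OQ.1 h _ h2]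

/-- PROOF.  `x.d = B t u` (`exists_B`), `y = cm (Xc u) (Xa t) ∈ Z3` has `y.d = x.d` (`cm_dR`), `(α y).d = y.d` (`afn_cm`, `cm_dR`, `mem_OR`),
`y⁻¹ * x ∈ Z2` (`dv_Z2`), `chR_Z2`, `chR_Z3`, `afn_dv`. -/
theorem OR_Z3 {α : MulAut (Rs : Subgroup (U K))} (h : α ∈ OR K) {x : U K} (hx : x ∈ Z3) : (afn α x).d = x.d := by
  obtain ⟨t, u, e⟩ := exists_B x.d
  have h1 : Xc u ∈ Rs := rfl
  have h2 : Xa t ∈ Rs := rfl
  have hy := cm_Rs_Rs h1 h2
  have e1 : (cm (Xc u) (Xa t)).d = x.d := by rw [cm_dR h1 h2, ← e]; simp only [UC]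
  have e2 : (afn α (cm (Xc u) (Xa t))).d = (cm (Xc u) (Xa t)).d := by
    rw [afn_cm α h1 h2, cm_dR (afn_mem α h1) (afn_mem α h2), cm_dR h1 h2]
    simp only [mem_OR.1 h _ h1, mem_OR.1 h _ h2]
  have yR : cm (Xc u) (Xa t) ∈ Rs := hy.2.1
  have xR : x ∈ Rs := hx.2.1
  have k := chR_Z2 α _ (mul_mem (inv_mem yR) xR) ((dv_Z2 hy hx).2 e1.symm)
  rw [afn_dv α yR xR, dv_Z2 (chR_Z3 α _ yR hy) (chR_Z3 α _ xR hx)] at k
  rw [k, e2, e1]

/-- PROOF.  For `g ∈ Rs`, `n ∈ Z3`: `cm g n ∈ Z2` has `e = T (g.a * n.d)`, `z = T (g.c * n.d)`, so it is fixed by `α` (`OR_Z3`).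
`z = cm (Xa 1) (Xd s) * cm (Xc 1) (Xd t)` with `T (1 * s) = z.e`, `T (1 * t) = z.z` (`exists_T`). -/
theorem OR_Z2 {α : MulAut (Rs : Subgroup (U K))} (h : α ∈ OR K) {z : U K} (hz : z ∈ Z2) : afn α z = z := by
  have k : ∀ g ∈ Rs, ∀ n ∈ Z3, afn α (cm g n) = cm g n := fun g hg n hn => by
    have nR : n ∈ Rs := hn.2.1
    have hn' := chR_Z3 α _ nR hn
    have a := mem_Z2.1 (cm_S_Z3 g hn)
    have b := mem_Z2.1 (cm_S_Z3 (afn α g) hn')
    rw [afn_cm α hg nR]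
    ext <;> simp only [a, b, cm_e3 _ hn, cm_e3 _ hn', cm_zR3 hg hn, cm_zR3 (afn_mem α hg) hn', mem_OR.1 h _ hg,
      OR_Z3 h hn]
  obtain ⟨s, hs⟩ := exists_T (one_ne_zero (α := K)) z.he
  obtain ⟨t, ht⟩ := exists_T (one_ne_zero (α := K)) z.hz
  have h1 : Xa (1 : K) ∈ Rs := rfl
  have h2 : Xc (1 : K) ∈ Rs := rfl
  have d3 : ∀ u : K, Xd u ∈ Z3 := fun _ => ⟨rfl, rfl, rfl⟩
  have a := cm_S_Z3 (Xa (1 : K)) (d3 s)
  have b := cm_S_Z3 (Xc (1 : K)) (d3 t)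
  have e : z = cm (Xa 1) (Xd s) * cm (Xc 1) (Xd t) := by
    rw [mem_Z2] at hz a b
    rw [one_mul] at hs ht
    ext <;> simp only [a, b, hz, cm_e3 _ (d3 _), cm_zR3 h1 (d3 _), cm_zR3 h2 (d3 _), UC, hs, ht]
  rw [e, homOn_afn α _ a.2.1 _ b.2.1, k _ h1 _ (d3 s), k _ h2 _ (d3 t)]

/-- `OQ K ≤ St Qs [Z1]`, `isPGroup_St`, `isPGroup_U`. -/
theorem isPGroup_OQ : IsPGroup (Tri.p K) (OQ K) := by
  refine (isPGroup_St (isPGroup_U.to_subgroup Qs) [Z1]).to_le fun β hβ => mem_St.2 fun i x hx h => ?_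
  rcases i with _ | _ | i
  · rw [OQ_Z1 hβ h]
    exact ⟨h, by simp⟩
  · exact ⟨trivial, hβ x hx⟩
  · exact ⟨trivial, trivial⟩

/-- `OR K ≤ St Rs [Z2, Z3]`. -/
theorem isPGroup_OR : IsPGroup (Tri.p K) (OR K) := by
  refine (isPGroup_St (isPGroup_U.to_subgroup Rs) [Z2, Z3]).to_le fun β hβ => mem_St.2 fun i x hx h => ?_
  rcases i with _ | _ | _ | i
  · rw [OR_Z2 hβ h]
    exact ⟨h, by simp⟩
  · exact ⟨chR_Z3 β _ hx h, (dv_Z2 h (chR_Z3 β _ hx h)).2 (OR_Z3 hβ h)⟩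
  · exact ⟨trivial, hβ x hx⟩
  · exact ⟨trivial, trivial⟩

/-- `cjQ` at `Xb 1 θ1`. -/
theorem cQ_mem_OQ {g : U K} : cQ g ∈ OQ K ↔ g ∈ Qs := by
  rw [mem_OQ]
  refine ⟨fun h => ?_, fun h u hu => ?_⟩
  · have h1 : Xb (1 : K) θ1 ∈ Qs := rfl
    obtain ⟨-, a, -⟩ := h _ h1
    rw [(cjQ g h1).2.1] at a
    simp only [UC, neg_eq_zero] at a
    exact a
  · obtain ⟨a, b, c, d⟩ := cjQ g hu
    rw [a, b, c, d, mem_Qs.1 h]
    simp only [UC, and_self]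

theorem cR_mem_OR {g : U K} : cR g ∈ OR K ↔ g ∈ Rs := by
  rw [mem_OR]
  refine ⟨fun h => ?_, fun h u hu => ?_⟩
  · have h1 : Xa (1 : K) ∈ Rs := rfl
    obtain ⟨-, a⟩ := h _ h1
    rw [(cjR g h1).2] at a
    simp only [UC] at a
    exact a
  · obtain ⟨a, b⟩ := cjR g hu
    rw [a, b, mem_Rs.1 h]
    simp only [UC, and_self]

theorem inn_le_OQ : Inn (Qs : Subgroup (U K)) ≤ OQ K := by
  intro α h
  obtain ⟨g, hg, rfl⟩ := mem_Inn'.1 h
  exact cQ_mem_OQ.2 hg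

theorem inn_le_OR : Inn (Rs : Subgroup (U K)) ≤ OR K := by
  intro α h
  obtain ⟨g, hg, rfl⟩ := mem_Inn'.1 h
  exact cR_mem_OR.2 hg

theorem tf_pow (r : Kˣ) (s : ku K) (n : ℕ) : tf r s 1 ^ n = tf (r ^ n) (s ^ n) 1 := by
  induction n with
  | zero => simp only [pow_zero, tf_one]
  | succ n ih => rw [pow_succ, ih, tf_mul, um_one, uk_one, mul_one, pow_succ, pow_succ]

theorem ker_unit_eq_one {r : Kˣ} (h : r ^ Tri.p K = 1) : r = 1 := by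
  have h1 : ((r : K) - 1) ^ Tri.p K = 0 := by
    have := Tri.ch (K := K)
    rw [sub_pow_char (p := Tri.p K), one_pow, ← Units.val_pow_eq_pow_val, h, Units.val_one, sub_self]
  exact Units.ext (sub_eq_zero.1 (pow_eq_zero_iff (Tri.pp (K := K)).ne_zero |>.1 h1))

/-- Cauchy: an element `tf r s 1` of order `p` has `r ^ p = 1`, `s ^ p = 1` (`tf_inj`), so `r = 1`, `s = 1`. -/
theorem not_dvd_TH : ¬ Tri.p K ∣ Nat.card (TH K) := by
  intro hd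
  obtain ⟨⟨φ, r, s, rfl⟩, ho⟩ := exists_prime_orderOf_dvd_card' _ hd
  rw [← orderOf_coe] at ho
  simp only at ho
  have h1 := pow_orderOf_eq_one (tf r s 1)
  rw [ho, tf_pow, ← tf_one] at h1
  obtain ⟨a, b, -⟩ := tf_inj fun u => ⟨congrArg U.a (DFunLike.congr_fun h1 u), congrArg U.b (DFunLike.congr_fun h1 u)⟩
  rw [ker_unit_eq_one a, show s = 1 from Subtype.ext (ker_unit_eq_one (congrArg Subtype.val b)), tf_one,
    orderOf_one] at ho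
  exact (Tri.pp (K := K)).one_lt.ne ho

/-- As `U5F.not_dvd_TF`. -/
theorem not_dvd_TF (h : SA (Tri.p K) A₀) : ¬ Tri.p K ∣ Nat.card (A₀ ⊓ TF K :) := by
  intro hd
  obtain ⟨⟨φ, hθ, r, s, f, rfl⟩, ho⟩ := exists_prime_orderOf_dvd_card' _ hd
  rw [← orderOf_coe] at ho
  simp only at ho
  have hp : IsPGroup (Tri.p K) (zpowers (tf r s f)) :=
    IsPGroup.of_card (n := 1) (by rw [Nat.card_zpowers, ho, pow_one])
  obtain ⟨γ, -, hγ⟩ := h.syl.exists_conj hp (zpowers_le.2 hθ)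
  obtain ⟨g, hg⟩ := hγ _ (mem_zpowers _)
  have e : tf r s f = MulAut.conj (γ⁻¹ g) := by
    have : tf r s f = γ⁻¹ * MulAut.conj g * γ := by rw [hg]; group
    rw [this]
    ext1 u
    simp
  obtain ⟨a, b, c⟩ := tf_inj (r := r) (s := s) (f := f) (r' := 1) (s' := 1) (f' := 1) fun u => by
    rw [e, tf_one, MulAut.conj_apply, MulAut.one_apply]
    simp only [UC]
    exact ⟨by ring, by ring⟩
  rw [a, b, c, tf_one, orderOf_one] at ho
  exact (Tri.pp (K := K)).one_lt.ne ho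

/-- PROOF.  Evaluate `rQ (conj g * tf r' s' f') = rQ (tf r s f) * o` at `Xb 1 θ1` (coordinates `b`, `c`: `s = s'`, `g.a = 0`) and at `Xc t`
(coordinate `c`). -/
theorem faith_Q {g : U K} {r r' : Kˣ} {s s' : ku K} {f f' : K ≃+* K}
    (h : (rQ (tf r s f))⁻¹ * rQ (MulAut.conj g * tf r' s' f') ∈ OQ K) : g ∈ Qs ∧ r = r' ∧ s = s' ∧ f = f' := by
  have k : ∀ x ∈ Qs, (tf r' s' f' x).b = (tf r s f x).b ∧
      (tf r' s' f' x).c - (tf r' s' f' x).b * g.a = (tf r s f x).c := fun x hx => by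
    have c := congQ (rQ (tf r s f)) hx (afn_mem _ hx) (mem_OQ.1 h x hx)
    have m := chr_mem (tf r' s' f') hx
    rw [← afn_mul _ _ hx, mul_inv_cancel_left, map_mul, afn_mul _ _ hx, afn_res _ hx, afn_res _ hx, (cjQ g m).1,
      (cjQ g m).2.1] at c
    exact ⟨c.1, c.2.1⟩
  obtain ⟨a, b⟩ := k (Xb 1 θ1) rfl
  simp only [tf_apply, tfn, UC, map_one, map_zero, neg_eq_zero] at a b
  obtain rfl : s = s' := kv_ext a.symm
  have c : ∀ t, (r' : K) * kv s * f' t = r * kv s * f t := fun t => by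
    simpa only [tf_apply, tfn, UC, map_zero] using (k (Xc t) rfl).2
  obtain rfl : r = r' := Units.ext (mul_right_cancel₀ (kv_ne s) (by simpa using (c 1).symm))
  exact ⟨(mul_eq_zero.1 b).resolve_left (kv_ne s), rfl, rfl,
    RingEquiv.ext fun t => mul_left_cancel₀ (mul_ne_zero r.ne_zero (kv_ne s)) (c t).symm⟩

/-- PROOF.  Evaluate at `Xa t` (coordinates `a`, `c`) and at `Xc 1`. -/
theorem faith_R {g : U K} {r r' : Kˣ} {s s' : ku K} {f f' : K ≃+* K}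
    (h : (rR (tf r s f))⁻¹ * rR (MulAut.conj g * tf r' s' f') ∈ OR K) : g ∈ Rs ∧ r = r' ∧ s = s' ∧ f = f' := by
  have k : ∀ x ∈ Rs, (tf r' s' f' x).a = (tf r s f x).a ∧
      (tf r' s' f' x).c + g.b * (tf r' s' f' x).a = (tf r s f x).c := fun x hx => by
    have c := congR (rR (tf r s f)) hx (afn_mem _ hx) (mem_OR.1 h x hx)
    have m := chr_mem (tf r' s' f') hx
    rw [← afn_mul _ _ hx, mul_inv_cancel_left, map_mul, afn_mul _ _ hx, afn_res _ hx, afn_res _ hx, (cjR g m).1,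
      (cjR g m).2] at c
    exact c
  have c : ∀ t, (r' : K) * f' t = r * f t := fun t => (k (Xa t) rfl).1
  obtain rfl : r = r' := Units.ext (by simpa using (c 1).symm)
  have a := (k (Xa 1) rfl).2
  have b := (k (Xc 1) rfl).2
  simp only [tf_apply, tfn, UC, map_one, map_zero] at a b
  exact ⟨(mul_eq_zero.1 a).resolve_right r.ne_zero, rfl, kv_ext (mul_left_cancel₀ r.ne_zero b.symm),
    RingEquiv.ext fun t => mul_left_cancel₀ r.ne_zero (c t).symm⟩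

end Cfsg.Agent.D4F
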