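import Cfsg.Agent.D4F.Def

/-!
Linear algebra over the fixed field `k` of `θ`.  Read the first half of `D4F/U` (`θ T N χ B`, simp set `TE`, `exists_θ_ne`, `kk`, `fθ`).
-/

set_option autoImplicit false
set_option linter.unusedSectionVars false
set_option linter.unusedSimpArgs false
set_option linter.unnecessarySeqFocus false

namespace Cfsg.Agent.D4F

open Subgroup Cfsg.Agent.RFS Cfsg.Agent.U5F Cfsg.Agent.Fus

variable {K : Type*} [Field K] [Tri K]

/-- `θ` as an automorphism. -/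
noncomputable def θe (K : Type*) [Field K] [Tri K] : K ≃+* K :=
  RingEquiv.ofBijective θ (Finite.injective_iff_bijective.1 (θ (K := K)).injective)

theorem θe_apply (t : K) : θe K t = θ t := rfl

/-- PROOF.  `β = B 1 s₀ ≠ 0` (`eq_zero_of_B`).  For `d ≠ 0` put `x = β / d`: `B x ((N x)⁻¹ * (x * s₀)) = (N x)⁻¹ * χ x * β = d`
(`B_smul`, `mul_χ`). -/
theorem exists_B (d : K) : ∃ t u, B t u = d := by
  by_cases hd : d = 0
  · exact ⟨0, 0, (zero_B 0).trans hd.symm⟩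
  obtain ⟨s, hs⟩ : ∃ s : K, B 1 s ≠ 0 := by
    by_contra! h
    exact one_ne_zero (eq_zero_of_B h)
  have hx : B 1 s / d ≠ 0 := div_ne_zero hs hd
  refine ⟨B 1 s / d, (N (B 1 s / d))⁻¹ * (B 1 s / d * s), ?_⟩
  have e : ∀ x : K, B x (x * s) = χ x * B 1 s := fun x => by simp only [B, χ, map_mul, map_one]; ring
  rw [B_smul (by rw [map_inv₀, θN]), e, ← mul_χ]
  have := χ_ne_zero hx
  field_simp

/-- PROOF.  `t = θ s / s` with `θ s ≠ s`; if `t = -1` then `N t = -1 = 1`, so `t = 1`. -/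
theorem exists_N_one : ∃ t : K, N t = 1 ∧ t ≠ 1 ∧ t ^ 2 ≠ 1 := by
  obtain ⟨s, hs⟩ := exists_θ_ne (K := K)
  have s0 : s ≠ 0 := by rintro rfl; exact hs (map_zero _)
  have h1 : N (θ s / s) = 1 := by
    have := θ_ne_zero s0
    have := θ_ne_zero this
    simp only [N, map_div₀, θθθ]; field_simp
  have h2 : θ s / s ≠ 1 := fun e => hs ((div_eq_one_iff_eq s0).1 e)
  refine ⟨_, h1, h2, fun e => (sq_eq_one_iff.1 e).elim h2 fun e => h2 ?_⟩
  rw [e, N_fix (by rw [map_neg, map_one])] at h1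
  linear_combination e + h1

theorem lin_ne {s : K} (hs : θ s ≠ s) : s - θ s ≠ 0 ∧ s - θ (θ s) ≠ 0 ∧ θ s - θ (θ s) ≠ 0 :=
  ⟨sub_ne_zero.2 hs.symm, sub_ne_zero.2 fun e => hs ((congrArg θ e).trans (θθθ s)),
    sub_ne_zero.2 fun e => hs (θ_inj.1 e).symm⟩

theorem lin_vdm {s α β γ : K} (hs : θ s ≠ s) (h0 : α + β + γ = 0) (h1 : α * s + β * θ s + γ * θ (θ s) = 0)
    (h2 : α * s ^ 2 + β * θ s ^ 2 + γ * θ (θ s) ^ 2 = 0) : α = 0 ∧ β = 0 ∧ γ = 0 := by
  obtain ⟨a, b, c⟩ := lin_ne hs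
  exact ⟨mul_right_cancel₀ (mul_ne_zero a b) (by
      linear_combination h2 - (θ s + θ (θ s)) * h1 + θ s * θ (θ s) * h0),
    mul_right_cancel₀ (mul_ne_zero a c) (by
      linear_combination -h2 + (s + θ (θ s)) * h1 - s * θ (θ s) * h0),
    mul_right_cancel₀ (mul_ne_zero b c) (by linear_combination h2 - (s + θ s) * h1 + s * θ s * h0)⟩

/-- PROOF.  `t = 1, s, s * s` with `θ s ≠ s`: `s, θ s, θ (θ s)` are distinct (see `exists_T_ne`), Vandermonde:
`α (s - θ s) (s - θ (θ s))` is a linear combination of the three equations. -/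
theorem ded {α β γ : K} (h : ∀ t, α * t + β * θ t + γ * θ (θ t) = 0) : α = 0 ∧ β = 0 ∧ γ = 0 := by
  obtain ⟨s, hs⟩ := exists_θ_ne (K := K)
  exact lin_vdm hs (by simpa using h 1) (h s) (by simpa only [map_pow] using h (s ^ (2 : ℕ)))

/-- PROOF.  `h (t + u) - h t - h u` is linear in `u`; `ded` in `u`, then `ded` in `t` give `d = e = f = 0`.  Then
`a w + b θ w + c θ (θ w) = 0` for `w = 1, s, s * s`, `s = s₀ * s₀`, and `θ s ≠ s` (otherwise `θ s₀ = - s₀`, apply `θ` three times: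
`s₀ = - s₀`, so `θ s₀ = s₀`); state the Vandermonde step of `ded` separately. -/
theorem quad {a b c d e f : K} (h : ∀ t, a * t ^ 2 + b * θ t ^ 2 + c * θ (θ t) ^ 2 + d * (t * θ t) + e * (θ t * θ (θ t)) +
    f * (θ (θ t) * t) = 0) : a = 0 ∧ b = 0 ∧ c = 0 ∧ d = 0 ∧ e = 0 ∧ f = 0 := by
  have k : ∀ t, 2 * a * t + d * θ t + f * θ (θ t) = 0 ∧ d * t + 2 * b * θ t + e * θ (θ t) = 0 ∧
      f * t + e * θ t + 2 * c * θ (θ t) = 0 := fun t => ded fun u => by
    have := h (t + u)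
    simp only [map_add] at this
    linear_combination this - h t - h u
  obtain ⟨-, rfl, rfl⟩ := ded fun t => (k t).1
  obtain ⟨-, -, rfl⟩ := ded fun t => (k t).2.1
  obtain ⟨s, hs⟩ := exists_θ_ne (K := K)
  have h1 : θ (s ^ 2) ≠ s ^ 2 := fun e => by
    rw [map_pow, sq_eq_sq_iff_eq_or_eq_neg] at e
    refine e.elim hs fun e => (lin_ne hs).2.1 ?_
    rw [e, map_neg, e, neg_neg, sub_self]
  obtain ⟨h2, h3, h4⟩ := lin_vdm (α := a) (β := b) (γ := c) h1 (by simpa using h 1)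
    (by simpa using h s) (by simpa using h (s ^ (2 : ℕ)))
  exact ⟨h2, h3, h4, rfl, rfl, rfl⟩

theorem lin_quad {a₁ a₂ a₃ b₁ b₂ b₃ c₁ c₂ c₃ p q r e f : K} (h : ∀ t,
    p * ((b₁ * t + b₂ * θ t + b₃ * θ (θ t)) * (c₁ * t + c₂ * θ t + c₃ * θ (θ t))) +
    q * ((c₁ * t + c₂ * θ t + c₃ * θ (θ t)) * (a₁ * t + a₂ * θ t + a₃ * θ (θ t))) +
    r * ((a₁ * t + a₂ * θ t + a₃ * θ (θ t)) * (b₁ * t + b₂ * θ t + b₃ * θ (θ t))) =
    e * (θ t * θ (θ t)) + f * (θ (θ t) * t)) : p * b₁ * c₁ + q * c₁ * a₁ + r * a₁ * b₁ = 0 :=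
  (quad (b := p * b₂ * c₂ + q * c₂ * a₂ + r * a₂ * b₂) (c := p * b₃ * c₃ + q * c₃ * a₃ + r * a₃ * b₃)
    (d := p * (b₁ * c₂ + b₂ * c₁) + q * (c₁ * a₂ + c₂ * a₁) + r * (a₁ * b₂ + a₂ * b₁))
    (e := p * (b₂ * c₃ + b₃ * c₂) + q * (c₂ * a₃ + c₃ * a₂) + r * (a₂ * b₃ + a₃ * b₂) - e)
    (f := p * (b₁ * c₃ + b₃ * c₁) + q * (c₁ * a₃ + c₃ * a₁) + r * (a₁ * b₃ + a₃ * b₁) - f)
    fun t => by linear_combination h t).1

/-- PROOF.  Lagrange: with `x = s, y = θ s, z = θ (θ s)` distinct, `δ = (x - y) (x - z)`: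
`t = T (t * (y z / δ)) + T (t * (-(y + z) / δ)) * s + T (t / δ) * (s * s)` (`TE`, `field_simp`, `ring`).  Apply `F` (`θT`) and expand. -/
theorem lin3 {F : K → K} (ha : ∀ s t, F (s + t) = F s + F t) (hm : ∀ s t, θ s = s → F (s * t) = s * F t) :
    ∃ α β γ, ∀ t, F t = α * t + β * θ t + γ * θ (θ t) := by
  obtain ⟨s, hs⟩ := exists_θ_ne (K := K)
  obtain ⟨a, b, -⟩ := lin_ne hs
  obtain ⟨i, hi⟩ : ∃ i, (s - θ s) * (s - θ (θ s)) * i = 1 := ⟨_, mul_inv_cancel₀ (mul_ne_zero a b)⟩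
  obtain ⟨x, hx⟩ : ∃ x, x = θ s * θ (θ s) * i := ⟨_, rfl⟩
  obtain ⟨y, hy⟩ : ∃ y, y = -(θ s + θ (θ s)) * i := ⟨_, rfl⟩
  refine ⟨x * F 1 + y * F s + i * F (s * s), θ x * F 1 + θ y * F s + θ i * F (s * s),
    θ (θ x) * F 1 + θ (θ y) * F s + θ (θ i) * F (s * s), fun t => ?_⟩
  have e : t = T (t * x) * 1 + T (t * y) * s + T (t * i) * (s * s) := by
    simp only [T, hx, hy, map_mul, map_add, map_neg, θθθ]
    linear_combination (-t) * hi
  conv_lhs => rw [e, ha, ha, hm _ _ (θT _), hm _ _ (θT _), hm _ _ (θT _)]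
  simp only [T, map_mul]
  ring

/-- PROOF.  `lin3`; `θ (F t) = F t` and `ded` give `β = θ α`, `γ = θ β`. -/
theorem exists_T_of_lin {F : K → K} (ha : ∀ s t, F (s + t) = F s + F t) (hm : ∀ s t, θ s = s → F (s * t) = s * F t)
    (hk : ∀ t, θ (F t) = F t) : ∃ a, ∀ t, F t = T (a * t) := by
  obtain ⟨α, β, γ, h⟩ := lin3 ha hm
  obtain ⟨-, h1, h2⟩ := ded (α := θ γ - α) (β := θ α - β) (γ := θ β - γ) fun t => by
    have := hk t
    simp only [h, map_add, map_mul, θθθ] at this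
    linear_combination this
  refine ⟨α, fun t => ?_⟩
  rw [h, ← sub_eq_zero.1 h2, ← sub_eq_zero.1 h1]
  simp only [T, map_mul]

/-- PROOF.  `G` defines a ring endomorphism, so automorphism, of the finite field `kk K`; it is `t ↦ t ^ p ^ j` (copy `RFS.exists_frob`
in `RFS/Def` with `p = Tri.p K`: `FiniteField.exists_forall_apply_eq_pow`); `f = iterateFrobeniusEquiv K p j`. -/
theorem exists_ext {G : K → K} (hk : ∀ s, θ s = s → θ (G s) = G s)
    (ha : ∀ s t, θ s = s → θ t = t → G (s + t) = G s + G t) (hm : ∀ s t, θ s = s → θ t = t → G (s * t) = G s * G t)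
    (h1 : G 1 = 1) : ∃ f : K ≃+* K, ∀ s, θ s = s → G s = f s := by
  let g : kk K →+* kk K :=
    { toFun := fun s => ⟨G s, hk s s.2⟩
      map_one' := Subtype.ext h1
      map_mul' := fun s t => Subtype.ext (hm s t s.2 t.2)
      map_zero' := Subtype.ext (by
        have := ha 0 0 (map_zero _) (map_zero _)
        rwa [add_zero, left_eq_add] at this)
      map_add' := fun s t => Subtype.ext (ha s t s.2 t.2) }
  let f := RingEquiv.ofBijective g (Finite.injective_iff_bijective.1 g.injective)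
  haveI : CharP (kk K) (Tri.p K) := @RingHom.charP _ _ _ _ (kk K).subtype (kk K).subtype_injective (Tri.p K) Tri.ch
  let _ : Algebra (ZMod (Tri.p K)) (kk K) := ZMod.algebra _ _
  obtain ⟨j, hj⟩ := FiniteField.exists_forall_apply_eq_pow (ZMod (Tri.p K)) (Tri.p K) (kk K)
    (AlgEquiv.ofRingEquiv (f := f) fun x => RingHom.congr_fun (RingHom.ext_zmod
      ((f : kk K →+* kk K).comp (algebraMap (ZMod (Tri.p K)) (kk K))) (algebraMap _ _)) x)
  refine ⟨iterateFrobeniusEquiv K (Tri.p K) j, fun s hs => ?_⟩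
  have := congrArg Subtype.val (hj ⟨s, hs⟩)
  rw [Nat.card_zmod] at this
  exact this

theorem lin_mono {F : K → K} {α β γ : K} (h : ∀ t, F t = α * t + β * θ t + γ * θ (θ t)) (h1 : F 1 ≠ 0)
    (k : (β = 0 ∧ γ = 0) ∨ (α = 0 ∧ γ = 0) ∨ (α = 0 ∧ β = 0)) :
    ∃ (r : Kˣ) (f : K ≃+* K), ∀ t, F t = r * f t := by
  rw [h] at h1
  rcases k with ⟨rfl, rfl⟩ | ⟨rfl, rfl⟩ | ⟨rfl, rfl⟩
  · exact ⟨Units.mk0 α (by simpa using h1), RingEquiv.refl K, fun t => by simp [h]⟩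
  · exact ⟨Units.mk0 β (by simpa using h1), θe K, fun t => by simp [h, θe_apply]⟩
  · exact ⟨Units.mk0 γ (by simpa using h1), (θe K).trans (θe K), fun t => by simp [h, θe_apply]⟩

/-- PROOF.  `F t = α x + β y + γ z`, `D t = α' x + β' y + γ' z` (`x = t, y = θ t, z = θ y`; `lin3`).  `D (χ t) = χ (F t)` (`B_self`; `θ 2 = 2`):
`(θγ x + θα y + θβ z) (θθβ x + θθγ y + θθα z) = α' y z + β' z x + γ' x y`.  `quad`: `θγ θθβ = θα θθγ = θβ θθα = 0`, so at most one of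
`α, β, γ` is not zero; `f = 1, θe K, θe K * θe K`. -/
theorem semi_odd (h2 : (2 : K) ≠ 0) {F D : K → K} (ha : ∀ s t, F (s + t) = F s + F t)
    (hm : ∀ s t, θ s = s → F (s * t) = s * F t) (h1 : F 1 ≠ 0) (ha' : ∀ s t, D (s + t) = D s + D t)
    (hm' : ∀ s t, θ s = s → D (s * t) = s * D t) (h : ∀ t u, D (B t u) = B (F t) (F u)) :
    ∃ (r : Kˣ) (f : K ≃+* K), ∀ t, F t = r * f t := by
  obtain ⟨α, β, γ, e⟩ := lin3 ha hm
  obtain ⟨α', β', γ', e'⟩ := lin3 ha' hm'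
  obtain ⟨a, b, c, -⟩ := quad (a := θ γ * θ (θ β)) (b := θ α * θ (θ γ)) (c := θ β * θ (θ α))
    (d := θ γ * θ (θ γ) + θ α * θ (θ β) - γ') (e := θ α * θ (θ α) + θ β * θ (θ γ) - α')
    (f := θ β * θ (θ β) + θ γ * θ (θ α) - β') fun t => by
      have := h t t
      rw [B_self, B_self, hm' _ _ (map_ofNat θ 2)] at this
      have := mul_left_cancel₀ h2 this
      simp only [e, e', χ, map_add, map_mul, θθθ] at this
      linear_combination -this
  simp only [mul_eq_zero, θ_eq_zero] at a b c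
  exact lin_mono e h1 (by tauto)

/-- PROOF.  `c = N (F 1) ∈ k`.  `N_add` for `t + u` and `t + s u` gives `X + Y = 0 = s X + s² Y` for
`X = T (χ (F t) * F u) - c T (χ t * u)`, so `X = 0`.  `F t = α x + β y + γ z` (`lin3`).  `ded` in `u` gives three quadratic identities in
`t`; their `x²`-coefficients (`quad`) are `3 α θγ θθβ = 0` (coefficient of `u`) and `α θγ θθγ + α θα θθβ + β θγ θθβ = 0` (coefficient
of `θ u`).  If two of `α, β, γ` were not zero, the first shows that the third is zero and the second is a contradiction. -/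
theorem semi_norm (h3 : (3 : K) ≠ 0) (hq : ∃ s : K, θ s = s ∧ s ≠ 0 ∧ s ≠ 1) {F : K → K} (ha : ∀ s t, F (s + t) = F s + F t)
    (hm : ∀ s t, θ s = s → F (s * t) = s * F t) (h1 : F 1 ≠ 0) {c : K} (h : ∀ t, N (F t) = c * N t) :
    ∃ (r : Kˣ) (f : K ≃+* K), ∀ t, F t = r * f t := by
  obtain ⟨s, hs, s0, s1⟩ := hq
  obtain ⟨α, β, γ, e⟩ := lin3 ha hm
  have k0 : ∀ t u, T (χ (F t) * F u) - c * T (χ t * u) + (T (F t * χ (F u)) - c * T (t * χ u)) = 0 :=
    fun t u => by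
      have := h (t + u)
      rw [ha, N_add, N_add] at this
      linear_combination this - h t - h u
  have k1 : ∀ t u, T (χ (F t) * F u) = c * T (χ t * u) := fun t u =>
    mul_left_cancel₀ (mul_ne_zero s0 (sub_ne_zero.2 s1)) (by
      have a := k0 t (s * u)
      have b := k0 t u
      rw [hm _ _ hs] at a
      simp only [T, χ, map_mul, hs] at a b ⊢
      linear_combination s * s * b - a)
  have k2 : ∀ t, α * χ (F t) + θ γ * θ (χ (F t)) + θ (θ β) * θ (θ (χ (F t))) - c * χ t = 0 ∧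
      β * χ (F t) + θ α * θ (χ (F t)) + θ (θ γ) * θ (θ (χ (F t))) - c * θ (χ t) = 0 ∧
      γ * χ (F t) + θ β * θ (χ (F t)) + θ (θ α) * θ (θ (χ (F t))) - c * θ (θ (χ t)) = 0 :=
    fun t => ded fun u => by
      have := k1 t u
      rw [e u] at this
      simp only [T, map_add, map_mul, θθθ] at this
      linear_combination this
  have a := lin_quad (a₁ := α) (a₂ := β) (a₃ := γ) (b₁ := θ γ) (b₂ := θ α) (b₃ := θ β) (c₁ := θ (θ β))
    (c₂ := θ (θ γ)) (c₃ := θ (θ α)) (p := α) (q := θ γ) (r := θ (θ β)) (e := c) (f := 0) fun t => by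
      have := (k2 t).1
      simp only [e, χ, map_add, map_mul, θθθ] at this
      linear_combination this
  have b := lin_quad (a₁ := α) (a₂ := β) (a₃ := γ) (b₁ := θ γ) (b₂ := θ α) (b₃ := θ β) (c₁ := θ (θ β))
    (c₂ := θ (θ γ)) (c₃ := θ (θ α)) (p := β) (q := θ α) (r := θ (θ γ)) (e := 0) (f := c) fun t => by
      have := (k2 t).2.1
      simp only [e, χ, map_add, map_mul, θθθ] at this
      linear_combination this
  have a' : α * θ γ * θ (θ β) = 0 := mul_left_cancel₀ h3 (by linear_combination a)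
  simp only [mul_eq_zero, θ_eq_zero] at a'
  refine lin_mono e h1 ?_
  rcases a' with (rfl | rfl) | rfl <;> simp [θ_eq_zero] at b <;> tauto

end Cfsg.Agent.D4F
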