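import Cfsg.Agent.D4F.Ker
import Cfsg.Agent.D4F.Fld

/-! The automizer of `R`. -/

set_option autoImplicit false
set_option linter.unusedSectionVars false
set_option linter.unusedSimpArgs false

namespace Cfsg.Agent.D4F

open Subgroup Cfsg.Agent.RFS Cfsg.Agent.U5F Cfsg.Agent.Fus

variable {K : Type*} [Field K] [Tri K] {A₀ : Subgroup (MulAut (U K))} {B₀ : Subgroup (MulAut (Rs : Subgroup (U K)))}

namespace LR

theorem mc (t : K) : Xc t ∈ (Rs : Subgroup (U K)) := rfl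
theorem ma (t : K) : Xa t ∈ (Rs : Subgroup (U K)) := rfl
theorem md (t : K) : Xd t ∈ (Z3 : Subgroup (U K)) := ⟨rfl, rfl, rfl⟩

theorem dvc {u v : U K} (hu : u ∈ Rs) (hv : v ∈ Rs) : (u⁻¹ * v).c = v.c - u.c := by
  simp only [UE, mem_Rs.1 hu, mem_Rs.1 hv]; ring

theorem dva (u v : U K) : (u⁻¹ * v).a = v.a - u.a := by simp only [UE]; ring

theorem pres {α : MulAut (Rs : Subgroup (U K))} {P : Subgroup (U K)} (h : ∀ x ∈ Rs, x ∈ P → afn α x ∈ P)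
    (x : U K) (hx : x ∈ Rs) : x ∈ P ↔ afn α x ∈ P :=
  ⟨h x hx, fun k => afn_inv_afn α hx ▸ inv_pres h _ (afn_mem α hx) k⟩

theorem eq_Z2 {u v : U K} (hu : u ∈ Z2) (hv : v ∈ Z2) (he : u.e = v.e) (hz : u.z = v.z) : u = v :=
  U.ext (hu.1.trans hv.1.symm) (hu.2.1.trans hv.2.1.symm) (hu.2.2.1.trans hv.2.2.1.symm) (hu.2.2.2.trans hv.2.2.2.symm) he hz

/-- Commutators with `Z3` are transported. -/
theorem cm3 (α : MulAut (Rs : Subgroup (U K))) {x y n m : U K} (hx : x ∈ Rs) (hy : y ∈ Rs) (hn : n ∈ Z3) (hm : m ∈ Z3)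
    (he : T (x.a * n.d) = T (y.a * m.d)) (hz : T (x.c * n.d) = T (y.c * m.d)) :
    T ((afn α x).a * (afn α n).d) = T ((afn α y).a * (afn α m).d) ∧
      T ((afn α x).c * (afn α n).d) = T ((afn α y).c * (afn α m).d) := by
  have e := congrArg (afn α) (eq_Z2 (cm_S_Z3 x hn) (cm_S_Z3 y hm) (by rwa [cm_e3 x hn, cm_e3 y hm])
    (by rwa [cm_zR3 hx hn, cm_zR3 hy hm]))
  have n' := chR_Z3 α n hn.2.1 hn
  have m' := chR_Z3 α m hm.2.1 hm
  rw [afn_cm α hx hn.2.1, afn_cm α hy hm.2.1] at e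
  rw [← cm_e3 _ n', ← cm_e3 _ m', ← cm_zR3 (afn_mem α hx) n', ← cm_zR3 (afn_mem α hy) m', e]
  exact ⟨rfl, rfl⟩

end LR

open LR

theorem mem_OR_of {α β : MulAut (Rs : Subgroup (U K))}
    (h : ∀ x ∈ Rs, (afn β x).a = (afn α x).a ∧ (afn β x).c = (afn α x).c) : α⁻¹ * β ∈ OR K := mem_OR.2 fun x hx => by
  have := congR α⁻¹ (afn_mem α hx) (afn_mem β hx) (h x hx)
  rwa [afn_inv_afn _ hx, ← afn_mul _ _ hx] at this

/-- The image of `Z4` is some `P s t`. -/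
theorem lineR (α : MulAut (Rs : Subgroup (U K))) : ∃ s t : K, θ s = s ∧ θ t = t ∧ (s ≠ 0 ∨ t ≠ 0) ∧
    ∀ x ∈ Rs, x.a = 0 ↔ t * (afn α x).a = s * (afn α x).c := by
  have m := afn_mem α (mc 1)
  have h0 : (afn α (Xc 1)).a ≠ 0 ∨ (afn α (Xc 1)).c ≠ 0 := by
    by_contra! c
    exact one_ne_zero ((pres (chR_Z3 α) _ (mc 1)).2 ⟨c.1, m, c.2⟩).2.2
  have i3 : ∀ d, afn α⁻¹ (Xd d) ∈ Z3 := fun d => chR_Z3 _ _ rfl (md d)
  have hw : wd (afn α (Xc 1)).a (afn α (Xc 1)).c = 0 := by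
    by_contra c
    have e2 : Xe (1 : K) θ1 ∈ Z2 := ⟨rfl, rfl, rfl, rfl⟩
    have n2 := chR_Z2 α _ rfl e2
    obtain ⟨d, h1, h2⟩ := dual2 c (afn α (Xe 1 θ1)).he (afn α (Xe 1 θ1)).hz
    have e := congrArg (afn α⁻¹) (eq_Z2 (cm_S_Z3 _ (md d)) n2 ((cm_e3 _ (md d)).trans h1) ((cm_zR3 m (md d)).trans h2))
    rw [afn_cm _ m rfl, afn_inv_afn _ (mc 1), afn_inv_afn α (x := Xe 1 θ1) rfl] at e
    exact one_ne_zero (e ▸ cm_Qs_Qs (g := Xc 1) rfl (i3 d).1 : Xe (1 : K) θ1 ∈ Z1).2.2.2.2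
  obtain ⟨s, t, u, hs, ht, h1, hu, ea, ec⟩ := dep_of_wd hw h0
  refine ⟨s, t, hs, ht, h1, fun x hx => ⟨fun h => sub_eq_zero.1 (eq_zero_of_T fun d => ?_), fun h => eq_zero_of_T fun d => ?_⟩⟩
  · obtain ⟨d', e⟩ := exists_T (one_ne_zero (α := K)) (θT (x.c * (afn α⁻¹ (Xd d)).d))
    obtain ⟨a, b⟩ := cm3 α hx (mc 1) (i3 d) (md d') (by rw [h]; simp only [UE]) e.symm
    rw [afn_afn_inv α (x := Xd d) rfl] at a b
    rw [sub_mul, T_sub, mul_assoc, mul_assoc, T_smul ht, T_smul hs]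
    change t * T (_ * (Xd d).d) - s * T (_ * (Xd d).d) = 0
    rw [a, b, ea, ec, mul_assoc, mul_assoc, T_smul ht, T_smul hs]
    ring
  · have n := chR_Z3 α _ rfl (md d)
    obtain ⟨y, ya, yc⟩ : ∃ y, (afn α x).a = s * y ∧ (afn α x).c = t * y := by
      rcases h1 with k | k
      · exact ⟨(afn α x).a / s, by field_simp, by field_simp; linear_combination -h⟩
      · exact ⟨(afn α x).c / t, by field_simp; linear_combination h, by field_simp⟩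
    obtain ⟨d', e⟩ := exists_T hu (θT (y * (afn α (Xd d)).d))
    have a := (cm3 α⁻¹ (afn_mem α hx) m n (md d')
      (by rw [ya, ea, mul_assoc, mul_assoc, T_smul hs, T_smul hs, ← e]; rfl)
      (by rw [yc, ec, mul_assoc, mul_assoc, T_smul ht, T_smul ht, ← e]; rfl)).1
    rw [afn_inv_afn α hx, afn_inv_afn α (mc 1), afn_inv_afn α (x := Xd d) rfl] at a
    simpa only [UE] using a

theorem extR (h₀ : SA (Tri.p K) A₀) (L : Lc (Tri.p K) A₀ Rs B₀) {α : MulAut (Rs : Subgroup (U K))} (hα : α ∈ B₀)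
    (h : ∀ u ∈ Rs, u.a = 0 → (afn α u).a = 0) : ∃ φ ∈ A₀, rR φ = α := by
  have p4 : ∀ x ∈ Rs, x ∈ Z4 → afn α x ∈ Z4 := fun x hx k => ⟨h x hx k.1, afn_mem α hx⟩
  have p1 : ∀ x ∈ Rs, x ∈ Z1 → afn α x ∈ Z1 := fun z _ k => by
    obtain ⟨d, e⟩ := exists_T (one_ne_zero (α := K)) z.hz
    rw [eq_Z2 (Z1_le_Z2 k) (cm_S_Z3 (Xc 1) (md d)) (by rw [cm_e3 _ (md d), k.2.2.2.2]; simp only [UE])
      (by rw [cm_zR3 (mc 1) (md d), ← e]; rfl), afn_cm α (mc 1) rfl]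
    exact cm_Qs_Qs (h _ (mc 1) rfl) (h _ rfl rfl)
  refine L.ext' h₀ (isPGroup_St (isPGroup_U.to_subgroup Rs) [Z1, Z2, Z3, Z4]) ?_ hα
    fun t ht => St_conj (fun i x hx => ?_) ht
  · rintro _ ⟨g, rfl⟩ i x hx k
    have e : x⁻¹ * MulAut.conj g x = cm x⁻¹ g := by simp only [cm, MulAut.conj_apply, inv_inv, mul_assoc]
    rw [show afn (((MulAut.characteristic Rs).comp MulAut.conj) g) x = MulAut.conj g x from afn_res _ hx, e]
    rcases i with _ | _ | _ | _ | _ | i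
    · exact ⟨chr_mem (L := Z1) _ k, cm_eq_one.2 (com_Z1 g (inv_mem k)).symm⟩
    · exact ⟨chr_mem (L := Z2) _ k, cm_comm (cm_S_Z2 g (inv_mem k))⟩
    · exact ⟨chr_mem (L := Z3) _ k, cm_comm (cm_S_Z3 g (inv_mem k))⟩
    · exact ⟨chr_mem (L := Z4) _ k, cm_comm (cm_S_Z4 g (inv_mem k))⟩
    · exact ⟨trivial, cm_S_S _ _⟩
    · exact ⟨trivial, trivial⟩
  · rcases i with _ | _ | _ | _ | i
    exacts [pres p1 x hx, pres (chR_Z2 α) x hx, pres (chR_Z3 α) x hx, pres p4 x hx, Iff.rfl]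

/-- Either `α` preserves `Z4`, or it can be changed to map `Z4` onto `P 1 0`. -/
theorem LR.kill (α : MulAut (Rs : Subgroup (U K))) : (∀ u ∈ Rs, u.a = 0 → (afn α u).a = 0) ∨
    ∃ g, ∀ u ∈ Rs, u.a = 0 ↔ (afn (cR g * α) u).c = 0 := by
  obtain ⟨s, t, hs, ht, h0, h⟩ := lineR α
  by_cases k : s = 0
  · refine .inl fun u hu e => ?_
    have := (h u hu).1 e
    rw [k, zero_mul] at this
    exact (mul_eq_zero.1 this).resolve_left (h0.resolve_left (not_not.2 k))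
  refine .inr ⟨Xb (-(t / s)) (by rw [map_neg, map_div₀, hs, ht]), fun u hu => ?_⟩
  rw [h u hu, afn_mul _ _ hu, (cjR _ (afn_mem α hu)).2]
  simp only [UC]
  constructor <;> intro e <;> field_simp at e ⊢ <;> linear_combination -e

theorem genR (h₀ : SA (Tri.p K) A₀) (L : Lc (Tri.p K) A₀ Rs B₀) (hψ : ψR K ∈ B₀) {α : MulAut (Rs : Subgroup (U K))}
    (hα : α ∈ B₀) : ∃ φ ∈ A₀, α = rR φ ∨ ∃ g, α = cR g * ψR K * rR φ := by
  rcases kill α with h | ⟨g, h⟩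
  · obtain ⟨φ, h1, h2⟩ := extR h₀ L hα h
    exact ⟨φ, h1, .inl h2.symm⟩
  obtain ⟨φ, h1, h2⟩ := extR h₀ L (mul_mem (inv_mem hψ) (mul_mem (L.cj h₀ g) hα)) fun u hu e => by
    rw [afn_mul _ _ hu, (afn_ψR_inv (afn_mem _ hu)).1]
    exact (h u hu).1 e
  refine ⟨φ, h1, .inr ⟨g⁻¹, ?_⟩⟩
  rw [h2, mul_assoc, mul_inv_cancel_left, cR, map_inv, map_inv, inv_mul_cancel_left]

theorem hua (h₀ : SA (Tri.p K) A₀) (L : Lc (Tri.p K) A₀ Rs B₀) (d : ku K) :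
    ∃ μ ∈ B₀, ∀ u ∈ Rs, (afn μ u).a = -(kv d)⁻¹ * u.c ∧ (afn μ u).c = kv d * u.a := by
  obtain ⟨α, hα, hn⟩ := L.exists_not_res
  obtain ⟨g, A⟩ := (kill α).resolve_left fun e => hn (extR h₀ L hα e)
  have ha : cR g * α ∈ B₀ := mul_mem (L.cj h₀ g) hα
  generalize cR g * α = a at A ha
  let T := fun s : kk K => a * cR (Xb s.1 s.2) * a⁻¹
  have T0 : ∀ s, ∀ x ∈ Rs, afn (T s) x = afn a (afn (cR (Xb s.1 s.2)) (afn a⁻¹ x)) := fun s x hx => by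
    rw [afn_mul _ _ hx, afn_mul _ _ (afn_mem _ hx)]
  have T2 : ∀ s, ∀ x ∈ Rs, (afn (T s) x).c = x.c := fun s x hx => by
    have m := afn_mem a⁻¹ hx
    have m' := afn_mem (cR (Xb s.1 s.2)) m
    have := (A _ (mul_mem (inv_mem m) m')).1 (by rw [dva, (cjR _ m).1, sub_self])
    rwa [afn_dv _ m m', afn_afn_inv _ hx, dvc hx (afn_mem _ m'), sub_eq_zero, ← T0 s x hx] at this
  have T8 : ∀ s, θ (afn (T s) (Xc 1)).a = (afn (T s) (Xc 1)).a ∧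
      ∀ x ∈ Rs, (afn (T s) x).a = x.a + (afn (T s) (Xc 1)).a * x.c := fun s => by
    obtain ⟨s', t', hs, ht, h0, h⟩ := lineR (T s)
    have b := (h _ (mc 1)).1 rfl
    rw [T2 _ _ (mc 1), show (Xc (1 : K)).c = 1 from rfl, mul_one] at b
    have t0 : t' ≠ 0 := fun e => by simp [← b, e] at h0
    refine ⟨mul_left_cancel₀ t0 (by rw [b, ← hs, ← b, map_mul, ht]), fun x hx => ?_⟩
    have m := afn_mem a⁻¹ (ma x.a)
    have a1 := (congR a m (afn_mem (cR (Xb s.1 s.2)) m) ⟨(cjR _ m).1, by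
      rw [(cjR _ m).2, (A _ m).2 (by rw [afn_afn_inv _ (ma _)]; rfl), mul_zero, add_zero]⟩).1
    rw [afn_afn_inv _ (ma _), ← T0 s _ (ma _)] at a1
    have m2 := mul_mem (inv_mem (ma x.a)) hx
    have a2 := (h _ m2).1 (by simp only [UE, neg_add_cancel])
    rw [T2 s _ m2, afn_dv _ (ma _) hx, dva, a1, dvc (ma _) hx, ← b] at a2
    simp only [UE] at a2
    refine mul_left_cancel₀ t0 ?_
    linear_combination a2
  have inj : Function.Injective fun s => (⟨_, (T8 s).1⟩ : kk K) := fun s s' e => by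
    have m := afn_mem a (ma 1)
    have := (congR a⁻¹ (afn_mem (T s') m) (afn_mem (T s) m) ⟨by
      rw [(T8 s).2 _ m, (T8 s').2 _ m]; exact congrArg (fun z : kk K => _ + z.1 * _) e, by rw [T2 s _ m, T2 s' _ m]⟩).2
    rw [T0 _ _ m, T0 _ _ m, afn_inv_afn _ (ma 1), afn_inv_afn _ (afn_mem _ (ma 1)),
      afn_inv_afn _ (afn_mem _ (ma 1)), (cjR _ (ma 1)).2, (cjR _ (ma 1)).2] at this
    simp only [UE] at this
    exact Subtype.ext this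
  obtain ⟨s, hs⟩ := Finite.injective_iff_surjective.1 inj ⟨-(kv d)⁻¹, by rw [mem_kk, map_neg, map_inv₀, θkv]⟩
  refine ⟨cR (Xb _ (θkv d)) * (T s * cR (Xb _ (θkv d))), mul_mem (L.cj h₀ _) (mul_mem (mul_mem (mul_mem ha
    (L.cj h₀ _)) (inv_mem ha)) (L.cj h₀ _)), fun x hx => ?_⟩
  have m := afn_mem (cR (Xb _ (θkv d))) hx
  rw [afn_mul _ _ hx, afn_mul _ _ hx, (cjR _ (afn_mem _ m)).1, (cjR _ (afn_mem _ m)).2, T2 _ _ m, (T8 _).2 _ m,
    (cjR _ hx).1, (cjR _ hx).2, show (afn (T s) (Xc 1)).a = _ from congrArg Subtype.val hs]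
  have := kv_ne d
  simp only [UE]
  constructor <;> field_simp <;> ring

theorem torR (h₀ : SA (Tri.p K) A₀) (hf : Form A₀) (L : Lc (Tri.p K) A₀ Rs B₀) :
    (∀ s, hb s ∈ A₀) ∧ ∃ μ ∈ B₀, (ψR K)⁻¹ * μ ∈ OR K := by
  obtain ⟨μ, hμ, e⟩ := hua h₀ L 1
  simp only [UV, inv_one, one_mul, neg_mul] at e
  refine ⟨fun d => ?_, μ, hμ, mem_OR_of fun u hu => by rw [afn_ψR hu]; exact e u hu⟩
  obtain ⟨ν, hν, e'⟩ := hua h₀ L d
  have k : ∀ u ∈ Rs, (afn (ν * μ⁻¹) u).a = (kv d)⁻¹ * u.a ∧ (afn (ν * μ⁻¹) u).c = kv d * u.c := fun u hu => by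
    have m := afn_mem μ⁻¹ hu
    have := e _ m
    rw [afn_afn_inv _ hu] at this
    rw [afn_mul _ _ hu, (e' _ m).1, (e' _ m).2, this.1, this.2]
    exact ⟨by ring, rfl⟩
  obtain ⟨φ, hφ, e1⟩ := extR h₀ L (mul_mem hν (inv_mem hμ)) fun u hu c => by rw [(k u hu).1, c, mul_zero]
  obtain ⟨g, r, s, f, rfl⟩ := hf φ hφ
  obtain ⟨-, rfl, rfl, rfl⟩ := faith_R (g := g) (r := (d : Kˣ)⁻¹) (s := d ^ 2) (f := 1) (r' := r) (s' := s) (f' := f)
    (mem_OR_of fun u hu => by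
      have := kv_ne d
      rw [e1, (k u hu).1, (k u hu).2, afn_res _ hu]
      simp only [tf_apply, tfn, UV, true_and]
      field_simp)
  exact (mul_mem_cancel_left (h₀.conj g)).1 hφ

end Cfsg.Agent.D4F
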