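import Cfsg.Agent.D4F.Ker
import Cfsg.Agent.D4F.Fld2

/-!
The automizer of `Q = Qs`: definitions. `V = Q / Z1` has the coordinates `(b, c, d, e)` and the alternating form `sf`.
-/

set_option autoImplicit false
set_option linter.unusedSectionVars false

namespace Cfsg.Agent.D4F

open Subgroup Cfsg.Agent.RFS Cfsg.Agent.U5F Cfsg.Agent.Fus

variable {K : Type*} [Field K] [Tri K]

/-- The basis vector of `Z2 / Z1`. -/
def e0 (K : Type*) [Field K] [Tri K] : U K := Xe 1 θ1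

/-- The basis vector opposite to `e0`. -/
def b0 (K : Type*) [Field K] [Tri K] : U K := Xb 1 θ1

theorem e0_co : (e0 K).a = 0 ∧ (e0 K).b = 0 ∧ (e0 K).c = 0 ∧ (e0 K).d = 0 ∧ (e0 K).e = 1 ∧ (e0 K).z = 0 :=
  ⟨rfl, rfl, rfl, rfl, rfl, rfl⟩

theorem b0_co : (b0 K).a = 0 ∧ (b0 K).b = 1 ∧ (b0 K).c = 0 ∧ (b0 K).d = 0 ∧ (b0 K).e = 0 ∧ (b0 K).z = 0 :=
  ⟨rfl, rfl, rfl, rfl, rfl, rfl⟩

theorem e0_mem : e0 K ∈ (Qs : Subgroup (U K)) := rfl
theorem b0_mem : b0 K ∈ (Qs : Subgroup (U K)) := rfl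
theorem e0_Z2 : e0 K ∈ (Z2 : Subgroup (U K)) := ⟨rfl, rfl, rfl, rfl⟩

/-- The element of `Q` with coordinates `b, c, d, e`. -/
def Xq (b c d e : K) (hb : θ b = b) (he : θ e = e) : U K := ⟨0, b, c, d, e, 0, hb, he, by simp⟩

theorem Xq_co (b c d e : K) (hb : θ b = b) (he : θ e = e) : (Xq b c d e hb he).a = 0 ∧ (Xq b c d e hb he).b = b ∧
    (Xq b c d e hb he).c = c ∧ (Xq b c d e hb he).d = d ∧ (Xq b c d e hb he).e = e ∧ (Xq b c d e hb he).z = 0 :=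
  ⟨rfl, rfl, rfl, rfl, rfl, rfl⟩

/-- The coordinates of a product in `Q`. -/
theorem mul_Q {u : U K} (hu : u ∈ Qs) (v : U K) : (u * v).b = u.b + v.b ∧ (u * v).c = u.c + v.c ∧ (u * v).d = u.d + v.d ∧
    (u * v).e = u.e + v.e := by
  simp only [UC, mem_Qs.1 hu, and_self]

theorem inv_Q {u : U K} (hu : u ∈ Qs) : u⁻¹.b = -u.b ∧ u⁻¹.c = -u.c ∧ u⁻¹.d = -u.d ∧ u⁻¹.e = -u.e := by
  simp only [UC, mem_Qs.1 hu, and_self]

/-- The preimage in `Q` of the `k`-line through `v`. -/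
def Li (v : U K) : Subgroup (U K) where
  carrier := {u | u ∈ Qs ∧ ∃ s, θ s = s ∧ u.b = s * v.b ∧ u.c = s * v.c ∧ u.d = s * v.d ∧ u.e = s * v.e}
  mul_mem' := by
    rintro u w ⟨hu, s, hs, h⟩ ⟨hw, t, ht, h'⟩
    refine ⟨mul_mem hu hw, s + t, by rw [map_add, hs, ht], ?_⟩
    simp only [mul_Q hu, h, h', add_mul, and_self]
  one_mem' := ⟨one_mem _, 0, map_zero _, by simp only [UC, and_self]⟩
  inv_mem' := by
    rintro u ⟨hu, s, hs, h⟩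
    refine ⟨inv_mem hu, -s, by rw [map_neg, hs], ?_⟩
    simp only [inv_Q hu, h, neg_mul, and_self]

theorem mem_Li {u v : U K} : u ∈ Li v ↔
    u ∈ Qs ∧ ∃ s, θ s = s ∧ u.b = s * v.b ∧ u.c = s * v.c ∧ u.d = s * v.d ∧ u.e = s * v.e := Iff.rfl

/-- The involution `hb (-1)`: `a, b, c, d, e, z` have the signs `-, +, -, +, -, -`. -/
def iv (K : Type*) [Field K] [Tri K] : MulAut (U K) := tf (-1) 1 1

theorem iv_co (u : U K) : (iv K u).a = -u.a ∧ (iv K u).b = u.b ∧ (iv K u).c = -u.c ∧ (iv K u).d = u.d ∧ (iv K u).e = -u.e ∧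
    (iv K u).z = -u.z := by
  simp only [iv, tf_apply, tfn, UV, UE]
  refine ⟨?_, ?_, ?_, ?_, ?_, ?_⟩ <;> first | rfl | ring | trivial

theorem iv_eq : iv K = hb (m1 K) := tf_congr (by simp only [UV]; ring) (by simp only [UV]; ring)

theorem hb_co (s : ku K) (u : U K) : (hb s u).a = (kv s)⁻¹ * u.a ∧ (hb s u).b = kv s ^ 2 * u.b ∧ (hb s u).c = kv s * u.c ∧
    (hb s u).d = u.d ∧ (hb s u).e = (kv s)⁻¹ * u.e ∧ (hb s u).z = kv s * u.z := by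
  have := kv_ne s
  simp only [hb, tf_apply, tfn, UV, TE]
  refine ⟨trivial, trivial, ?_, ?_, ?_, ?_⟩ <;> field_simp

/-- The automizers `A₀` of `S` and `A` of `Q`. -/
structure SQ (A₀ : Subgroup (MulAut (U K))) (A : Subgroup (MulAut (Qs : Subgroup (U K)))) : Prop where
  sa : SA (Tri.p K) A₀
  form : Form A₀
  lc : Lc (Tri.p K) A₀ Qs A
  ti : ∀ α ∈ A, ∀ g ∉ (Qs : Subgroup (U K)), α * cQ g * α⁻¹ ∈ Tn Qs → ∃ φ ∈ A₀, rQ φ = α
  hb : ∀ s, hb s ∈ A₀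

/-- The automizers `A₀` of `S` and `B₀` of `R`. -/
structure SR (A₀ : Subgroup (MulAut (U K))) (B₀ : Subgroup (MulAut (Rs : Subgroup (U K)))) : Prop where
  sa : SA (Tri.p K) A₀
  form : Form A₀
  lc : Lc (Tri.p K) A₀ Rs B₀

variable {A₀ : Subgroup (MulAut (U K))} {A : Subgroup (MulAut (Qs : Subgroup (U K)))}

theorem SQ.cq (H : SQ A₀ A) (g : U K) : cQ g ∈ A := H.lc.cj H.sa g
theorem SQ.res (H : SQ A₀ A) {φ : MulAut (U K)} (h : φ ∈ A₀) : rQ φ ∈ A := H.lc.res φ h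
theorem SQ.iv (H : SQ A₀ A) : iv K ∈ A₀ := iv_eq (K := K) ▸ H.hb _

/-- The orbit of `Z2` under `A` is `Z2` and the `S`-conjugates of `Li b0`. -/
def Orb (A : Subgroup (MulAut (Qs : Subgroup (U K)))) : Prop :=
  ∀ α ∈ A, afn α (e0 K) ∉ Z2 → ∃ a, afn (cQ (Xa a) * α) (e0 K) ∈ Li (b0 K)

end Cfsg.Agent.D4F
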