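import Cfsg.Agent.D4F.QX

/-! Characteristic two: the stabiliser of two conjugates of `Z2` is transitive on `S / Q ∖ 1`. -/

set_option autoImplicit false
set_option linter.unusedSectionVars false

namespace Cfsg.Agent.D4F

open Subgroup Cfsg.Agent.RFS Cfsg.Agent.U5F Cfsg.Agent.Fus

variable {K : Type*} [Field K] [Tri K] {A₀ : Subgroup (MulAut (U K))} {A : Subgroup (MulAut (Qs : Subgroup (U K)))}
  {α β μ : MulAut (Qs : Subgroup (U K))} {u v w y : U K}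

/-- `ρ = u u'`, `n` the order of `ρ` in `X ⧸ I`, `u ρ^j u = (ρ^j)⁻¹`, `u' ρ^j u' = (ρ^j)⁻¹`. `n = 2 j`: `z = ρ^j` (`z u z⁻¹ u⁻¹ = z z`). `n = 2 j + 1`: `s = ρ^j u`,
`s u s⁻¹ = ρ^(2j) u`, `u' = ρ⁻¹ u`, `u'⁻¹ (s u s⁻¹) = u⁻¹ ρ^(2j+1) u`. -/
theorem dih {X : Type*} [Group X] [Finite X] {I G : Subgroup X} [I.Normal] {u u' : X} (hu : u * u = 1) (hu' : u' * u' = 1)
    (h : u ∈ G) (h' : u' ∈ G) : (∃ z ∈ G, z ∉ I ∧ z * z ∈ I ∧ z * u * z⁻¹ * u⁻¹ ∈ I ∧ z * u' * z⁻¹ * u'⁻¹ ∈ I) ∨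
      ∃ s ∈ G, s * s = 1 ∧ u'⁻¹ * (s * u * s⁻¹) ∈ I := by
  have i1 : u⁻¹ = u := inv_eq_of_mul_eq_one_right hu
  have i2 : u'⁻¹ = u' := inv_eq_of_mul_eq_one_right hu'
  have k1 : ∀ j : ℕ, u * ((u * u') ^ j)⁻¹ * u⁻¹ = (u * u') ^ j := fun j => by
    rw [← inv_pow, ← conj_pow, mul_inv_rev, i1, i2, mul_assoc, mul_assoc, hu, mul_one]
  have k2 : ∀ j : ℕ, u' * ((u * u') ^ j)⁻¹ * u'⁻¹ = (u * u') ^ j := fun j => by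
    rw [← inv_pow, ← conj_pow, mul_inv_rev, i1, i2, ← mul_assoc, hu', one_mul]
  have m : ∀ j : ℕ, (u * u') ^ j ∈ I ↔ ((u * u' : X) : X ⧸ I) ^ j = 1 := fun j => by
    rw [← QuotientGroup.mk_pow, QuotientGroup.eq_one_iff]
  have hn := (m _).2 (pow_orderOf_eq_one _)
  have h0 := orderOf_pos ((u * u' : X) : X ⧸ I)
  have mG : ∀ j : ℕ, (u * u') ^ j ∈ G := pow_mem (mul_mem h h')
  rcases Nat.even_or_odd' (orderOf ((u * u' : X) : X ⧸ I)) with ⟨j, e | e⟩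
  · rw [e, two_mul, pow_add] at hn
    refine Or.inl ⟨(u * u') ^ j, mG j, fun k => pow_ne_one_of_lt_orderOf (by omega) (by omega) ((m j).1 k), hn, ?_, ?_⟩
    · rwa [mul_assoc, mul_assoc, ← mul_assoc u, k1]
    · rwa [mul_assoc, mul_assoc, ← mul_assoc u', k2]
  · rw [e, pow_succ', two_mul, pow_add] at hn
    refine Or.inr ⟨(u * u') ^ j * u, mul_mem (mG j) h, ?_, ?_⟩
    · have := k1 j
      generalize (u * u') ^ j = z at this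
      calc z * u * (z * u) = z * u * (u * z⁻¹ * u⁻¹ * u) := by rw [this]
        _ = z * (u * u) * z⁻¹ := by group
        _ = 1 := by rw [hu]; group
    · have := k1 j
      have h3 := ‹I.Normal›.conj_mem _ hn u⁻¹
      generalize (u * u') ^ j = z at this h3
      convert h3 using 1
      calc u'⁻¹ * (z * u * u * (z * u)⁻¹) = u'⁻¹ * z * (u * z⁻¹ * u⁻¹) * u := by group
        _ = _ := by rw [this, i2]; group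

private theorem qd_sq (h2 : (2 : K) = 0) (t : K) : cQ (Xa t) * cQ (Xa t) = 1 := by
  have : Xa t * Xa t = 1 := by
    ext <;> simp only [UE]
    rw [← two_mul, h2, zero_mul]
  rw [← map_mul, ← map_mul, this, map_one, map_one]

private theorem SQ.qd_tn (H : SQ A₀ A) (h2 : (2 : K) = 0) {z : MulAut (Qs : Subgroup (U K))} (hz : z ∈ A)
    (h1 : z * z ∈ Inn (Qs : Subgroup (U K))) {t : K} (ht : t ≠ 0)
    (h3 : z * cQ (Xa t) * z⁻¹ * (cQ (Xa t))⁻¹ ∈ Inn (Qs : Subgroup (U K))) : z ∈ Tn Qs := by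
  obtain ⟨φ, -, e⟩ := H.ti z hz _ (qx_Xa ht)
    ((Subgroup.mul_mem_cancel_right _ (inv_mem (⟨Xa t, rfl⟩ : cQ (Xa t) ∈ Tn Qs))).1 (inn_le_Tn h3))
  obtain ⟨k, hk⟩ := isPGroup_OQ ⟨_, inn_le_OQ h1⟩
  refine H.mem_Tn hz (e ▸ qx_res φ) (n := k + 1) ?_
  rw [pow_succ', pow_mul]
  nth_rewrite 1 [two_eq_zero_iff.1 h2]
  rw [sq]
  exact congrArg Subtype.val hk

/-- `dih` with `I = Inn Qs` (`inn_normal`, `inn_le_Tn`), `u = cQ (Xa a)`, `u' = β * cQ (Xa 1) * β⁻¹` (`Xa t * Xa t = 1`). First case: `z u z⁻¹ ∈ Tn Qs`, so `z = rQ φ` (`H.ti`), `z` is a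
`2`-element (`z z ∈ Inn Qs ≤ OQ K`, `isPGroup_OQ`, `two_eq_zero_iff`), `z = cQ g` (`SQ.mem_Tn`), `g ∉ Qs` (`mem_Inn'`); the same for `z' = β⁻¹ z β` and `cQ (Xa 1)`: `z' ∈ Tn Qs`.
`H.ti β⁻¹`: `β⁻¹ = rQ φ`, so `β e0 ∈ Z2`: absurd. Second case: `(β⁻¹ s) u (β⁻¹ s)⁻¹ ∈ cQ (Xa 1) Inn ≤ Tn Qs`, so `β⁻¹ * s = rQ φ` keeps `Z2`; `Z2_iff`. -/
theorem SQ.invol (H : SQ A₀ A) (h2 : (2 : K) = 0) (hβ : β ∈ A) (h : afn β (e0 K) ∉ Z2) {a : K} (ha : a ≠ 0) :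
    ∃ s ∈ A, s * s = 1 ∧ afn s (e0 K) ∈ Li (afn β (e0 K)) ∧
      (β * cQ (Xa 1) * β⁻¹)⁻¹ * (s * cQ (Xa a) * s⁻¹) ∈ Inn (Qs : Subgroup (U K)) := by
  have n := inn_normal (E := (Qs : Subgroup (U K)))
  rcases dih (I := Inn (Qs : Subgroup (U K))) (G := A) (u := cQ (Xa a)) (u' := β * cQ (Xa 1) * β⁻¹) (qd_sq h2 a)
    (by rw [conj_mul, qd_sq h2, mul_one, mul_inv_cancel]) (H.cq _) (mul_mem (mul_mem hβ (H.cq _)) (inv_mem hβ)) with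
    ⟨z, hz, h0, h1, h3, h4⟩ | ⟨s, hs, h1, h3⟩
  · exfalso
    obtain ⟨g, rfl⟩ := U5F.mem_Tn.1 (H.qd_tn h2 hz h1 ha h3)
    have h5 := H.qd_tn h2 (mul_mem (mul_mem (inv_mem hβ) hz) (inv_mem (inv_mem hβ)))
      (by rw [conj_mul]; exact n.conj_mem _ h1 _) one_ne_zero (by
        convert n.conj_mem _ h4 β⁻¹ using 1
        group)
    obtain ⟨φ, -, e⟩ := H.ti β⁻¹ (inv_mem hβ) g (fun k => h0 (mem_Inn'.2 ⟨g, k, rfl⟩)) h5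
    refine h ?_
    rw [← inv_inv β, ← e, ← map_inv]
    exact qx_res _
  · refine ⟨s, hs, h1, Z2_iff.1 ?_, h3⟩
    obtain ⟨φ, -, e⟩ := H.ti (β⁻¹ * s) (mul_mem (inv_mem hβ) hs) _ (qx_Xa ha) (by
      convert mul_mem (⟨Xa 1, rfl⟩ : cQ (Xa (1 : K)) ∈ Tn Qs) (inn_le_Tn (n.conj_mem _ h3 β⁻¹)) using 1
      group)
    exact e ▸ qx_res φ

/-- `s₁, s₂` from `SQ.invol` for `a, a'`; `δ = s₂ * s₁`. `s₁ v ∈ Li e0` (`Li_symm`, `afn_Li s₁`, `s₁ s₁ = 1`), so `δ v ∈ Li (s₂ e0) ≤ Li v`. Modulo `Inn Qs`: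
`δ cQ (Xa a) δ⁻¹ ≡ s₂ u' s₂⁻¹ ≡ cQ (Xa a')`, so `δ = rQ φ` (`H.ti`), `φ = conj g * tf r s f` (`H.form`), `cQ ((Xa a')⁻¹ * φ (Xa a)) ∈ Inn Qs ≤ OQ K` (`res_conj`),
`cQ_mem_OQ`, `co_form_a`. -/
theorem SQ.trans2 (H : SQ A₀ A) (h2 : (2 : K) = 0) (hβ : β ∈ A) (h : afn β (e0 K) ∉ Z2) {a a' : K} (ha : a ≠ 0) (ha' : a' ≠ 0) :
    ∃ (g : U K) (r : Kˣ) (s : ku K) (f : K ≃+* K), MulAut.conj g * tf r s f ∈ A₀ ∧ r * f a = a' ∧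
      afn (rQ (MulAut.conj g * tf r s f)) (afn β (e0 K)) ∈ Li (afn β (e0 K)) := by
  have n := inn_normal (E := (Qs : Subgroup (U K)))
  obtain ⟨s₁, a1, a2, a3, a4⟩ := H.invol h2 hβ h ha
  obtain ⟨s₂, b1, b2, b3, b4⟩ := H.invol h2 hβ h ha'
  have hv := afn_mem β (e0_mem (K := K))
  have c1 : afn (s₂ * s₁) (afn β (e0 K)) ∈ Li (afn β (e0 K)) := by
    have k := afn_Li s₁ (afn_mem s₁ e0_mem) (Li_symm a3 hv (e0_not s₁))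
    rw [← afn_mul _ _ e0_mem, a2, afn_one] at k
    rw [afn_mul _ _ hv]
    exact Li_le b3 (afn_Li s₂ e0_mem k)
  have c2 : (cQ (Xa a'))⁻¹ * (s₂ * s₁ * cQ (Xa a) * (s₂ * s₁)⁻¹) ∈ Inn (Qs : Subgroup (U K)) := by
    have k := n.conj_mem _ (mul_mem (inv_mem b4) a4) s₂⁻¹
    rw [← inv_eq_of_mul_eq_one_right b2]
    convert k using 1
    group
  obtain ⟨φ, hφ, e⟩ := H.ti (s₂ * s₁) (mul_mem b1 a1) _ (qx_Xa ha)
    ((Subgroup.mul_mem_cancel_left _ (inv_mem (⟨Xa a', rfl⟩ : cQ (Xa a') ∈ Tn Qs))).1 (inn_le_Tn c2))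
  rw [← e] at c1 c2
  rw [res_conj, ← map_inv, ← map_mul, ← map_inv, ← map_mul] at c2
  have c3 := mem_Qs.1 (cQ_mem_OQ.1 (inn_le_OQ c2))
  obtain ⟨g, r, s, f, rfl⟩ := H.form φ hφ
  refine ⟨g, r, s, f, hφ, ?_, c1⟩
  simp only [UC, co_form_a] at c3
  linear_combination c3

end Cfsg.Agent.D4F
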