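import Cfsg.Agent.D4F.QD

/-! The orbit of `Z2` under the automizer of `Q` in characteristic two. -/

set_option autoImplicit false
set_option linter.unusedSectionVars false

namespace Cfsg.Agent.D4F

open Subgroup Cfsg.Agent.RFS Cfsg.Agent.U5F Cfsg.Agent.Fus

variable {K : Type*} [Field K] [Tri K] {A₀ : Subgroup (MulAut (U K))} {A : Subgroup (MulAut (Qs : Subgroup (U K)))}
  {α β μ σ : MulAut (Qs : Subgroup (U K))} {u v w y : U K}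

/-- `plane_not_line`. -/
theorem not_line (c : K) : ¬ ∀ x, x ≠ 0 → ∃ s, θ s = s ∧ x = s * c := fun h => by
  obtain ⟨x, -, hx⟩ := plane_not_line c c
  by_cases e : x = 0
  · exact hx ⟨0, map_zero _, by rw [e, zero_mul]⟩
  · exact hx (h x e)

/-- `SQ.trans2` with `a = χ d`, `a' = χ d'`; apply `χ` to `r * f (χ d) = χ d'` (`χ_mul`, `fχ`, `χχ`, `fN`): `t = N d' / N (f d)`. -/
theorem SQ.trans_d (H : SQ A₀ A) (h2 : (2 : K) = 0) (hβ : β ∈ A) (h : afn β (e0 K) ∉ Z2) {d d' : K} (hd : d ≠ 0) (hd' : d' ≠ 0) :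
    ∃ (g : U K) (r : Kˣ) (s : ku K) (f : K ≃+* K) (t : K), MulAut.conj g * tf r s f ∈ A₀ ∧ θ t = t ∧ t ≠ 0 ∧ χ (r : K) * f d = t * d' ∧
      afn (rQ (MulAut.conj g * tf r s f)) (afn β (e0 K)) ∈ Li (afn β (e0 K)) := by
  obtain ⟨g, r, s, f, h1, e, h3⟩ := H.trans2 h2 hβ h (χ_ne_zero hd) (χ_ne_zero hd')
  have n := N_ne_zero ((map_ne_zero f).2 hd)
  refine ⟨g, r, s, f, N d' / N (f d), h1, by rw [map_div₀, θN, θN], div_ne_zero (N_ne_zero hd') n, ?_, h3⟩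
  have e' := congrArg χ e
  rw [χ_mul, fχ, χχ, χχ] at e'
  rw [div_mul_eq_mul_div, eq_div_iff n, ← e']
  ring

/-- `v = α e0 = (b, c, d, e) ∉ Z2`. If `b = 0`: `c ≠ 0` (`SQ.of3`); for `x ≠ 0`, `SQ.trans2` (`a = c`, `a' = x`) and the `c`-coordinate (`co_form`) give `s x = t c`: against `not_line`.
If `b ≠ 0`: `β = cQ (Xa (c / b)) * α` has the vector `(b, 0, d', e')` (`cjQ`). If `d' ≠ 0`, for `x ≠ 0` `SQ.trans_d`: the `c`-coordinate gives `g.a = 0`, the `d`-coordinate `s t x = t' d'`: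
against `not_line`. `sing3 h2 β` (`β⁻¹ (β e0) = e0 ∈ Z3`) gives `e' b = 0`; `mem_Li_b0`. -/
theorem SQ.orb_two (H : SQ A₀ A) (h2 : (2 : K) = 0) : Orb A := by
  intro α hα hn
  have hv := afn_mem α (e0_mem (K := K))
  by_cases hb : (afn α (e0 K)).b = 0
  · have hc : (afn α (e0 K)).c ≠ 0 := fun c => hn (H.of3 hα ⟨hv, hb, c⟩)
    refine (not_line (afn α (e0 K)).c fun x hx => ?_).elim
    obtain ⟨g, r, s, f, -, e, -, t, ht, -, k, -⟩ := H.trans2 h2 hα hn hc hx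
    rw [(co_form g r s f hv).2.1, hb, map_zero] at k
    refine ⟨t / kv s, by rw [map_div₀, ht, θkv], ?_⟩
    rw [div_mul_eq_mul_div, eq_div_iff (kv_ne s), ← k, ← e]
    ring
  refine ⟨(afn α (e0 K)).c / (afn α (e0 K)).b, ?_⟩
  have hβ := mul_mem (H.cq (Xa ((afn α (e0 K)).c / (afn α (e0 K)).b))) hα
  obtain ⟨w1, w2, -⟩ := cjQ (Xa ((afn α (e0 K)).c / (afn α (e0 K)).b)) hv
  rw [← afn_mul _ _ e0_mem] at w1 w2
  rw [← w1] at hb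
  have w3 := w2.trans (sub_eq_zero.2 (mul_div_cancel₀ _ (w1 ▸ hb)).symm)
  clear w1 w2
  generalize cQ (Xa ((afn α (e0 K)).c / (afn α (e0 K)).b)) * α = β at hβ hb w3
  have hw := afn_mem β (e0_mem (K := K))
  refine mem_Li_b0.2 ⟨hw, w3, by_contra fun hd => not_line (afn β (e0 K)).d fun x hx => ?_, ?_⟩
  · obtain ⟨g, r, s, f, t, -, t1, t0, e, -, t', ht', -, k1, k2, -⟩ :=
      H.trans_d h2 hβ (fun k => hb k.2.1) hd hx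
    obtain ⟨-, c1, -, -, -, c2⟩ := co_form g r s f hw
    rw [c1, w3, map_zero, mul_zero, mul_zero, zero_sub, neg_eq_zero] at k1
    rw [(c2 ((mul_eq_zero.1 k1).resolve_left (mul_ne_zero (kv_ne s) ((map_ne_zero f).2 hb)))).1] at k2
    refine ⟨t' / (kv s * t), by rw [map_div₀, map_mul, ht', θkv, t1], ?_⟩
    rw [div_mul_eq_mul_div, eq_div_iff (mul_ne_zero (kv_ne s) t0), ← k2]
    linear_combination -kv s * e
  · have := sing3 h2 β hw (by rw [afn_inv_afn _ e0_mem]; exact Z2_le_Z3 e0_Z2)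
    rw [w3, zero_mul, T_zero, add_zero] at this
    exact (mul_eq_zero.1 this).resolve_right hb

theorem qe_b (h : afn μ (e0 K) ∈ Li (b0 K)) : (afn μ (e0 K)).b ≠ 0 := fun c =>
  have k := mem_Li_b0.1 h
  e0_not μ ⟨k.1, c, k.2⟩

/-- The elements fixing `Li b0` keep `μ Z3`: `SQ.u3` for `rQ φ * μ` and `μ` at `afn (rQ φ) y`; `g.a = 0` from the `c`-coordinate (`co_form`, `(μ e0).b ≠ 0` by `e0_not`). -/
theorem SQ.keepU (H : SQ A₀ A) (hμ : μ ∈ A) (h : afn μ (e0 K) ∈ Li (b0 K)) {g : U K} {r : Kˣ} {s : ku K} {f : K ≃+* K}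
    (h1 : MulAut.conj g * tf r s f ∈ A₀) (h3 : afn (rQ (MulAut.conj g * tf r s f)) (afn μ (e0 K)) ∈ Li (afn μ (e0 K))) :
    g.a = 0 ∧ ∀ y ∈ Qs, afn μ⁻¹ y ∈ Z3 → afn μ⁻¹ (afn (rQ (MulAut.conj g * tf r s f)) y) ∈ Z3 := by
  refine ⟨?_, fun y hy k => ?_⟩
  · obtain ⟨-, t, -, -, k, -⟩ := h3
    rw [(co_form g r s f (afn_mem μ e0_mem)).2.1, (mem_Li_b0.1 h).2.1, map_zero, mul_zero, mul_zero, zero_sub,
      neg_eq_zero] at k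
    exact (mul_eq_zero.1 k).resolve_left (mul_ne_zero (kv_ne s) ((map_ne_zero f).2 (qe_b h)))
  · refine (H.u3 (mul_mem (H.res h1) hμ) hμ (by rwa [afn_mul _ _ e0_mem]) (afn_mem _ hy)).1 ?_
    rwa [mul_inv_rev, afn_mul _ _ (afn_mem _ hy), afn_inv_afn _ hy]

/-- Let `U = μ Z3`; its elements have `e = 0` (`mem3` with `μ e0`). Suppose all `Xd d ∈ U`; then they also have `c = 0` (`mem3`, `eq_zero_of_T`). `μ⁻¹ e0 ∉ Z2` (`keep_Z2`/`Z2_iff`, `Li_symm`).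
`t = μ * cQ (Xa 1) * μ⁻¹`: `t e0 ∉ Z2 = Li e0` (`afn_Li_iff μ`, `SQ.semi` for `μ⁻¹`), so `O` gives `a` with `γ = cQ (Xa a) * t`, `γ e0 ∈ Li b0 ≤ Li (μ e0)`, and `γ Z3 ⊆ U` (`SQ.u3`).
Take `T d₀ ≠ 0`, `μ (Xd d₀) = (b₁, 0, d₁, 0)`, `n = μ⁻¹ (Xd d₁) ∈ Z3`; `n.d = d₀` (`(Xd d₁)⁻¹ * μ (Xd d₀) ∈ Li b0`, so `n⁻¹ * Xd d₀ ∈ Z2`). `m = n⁻¹ * cQ (Xa 1) n ∈ Z2` has
`e = T d₀ ≠ 0` (`cjQ`), so `μ m ∈ Li b0 ∖ Z1`, and `t (Xd d₁) = Xd d₁ * μ m = (b', 0, d₁, 0)`, `b' ≠ 0`. `γ (Xd d₁) ∈ U` has `c = -b' a = 0`, so `a = 0`, `t e0 ∈ Li (μ e0)`,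
`cQ (Xa 1) (μ⁻¹ e0) ∈ Z2`, `μ⁻¹ e0 ∈ Z2`: absurd. -/
theorem SQ.not_all_d (H : SQ A₀ A) (O : Orb A) (hμ : μ ∈ A) (h : afn μ (e0 K) ∈ Li (b0 K)) : ¬ ∀ d, afn μ⁻¹ (Xd d) ∈ Z3 := by
  intro hd
  have Uc : ∀ y ∈ (Qs : Subgroup (U K)), afn μ⁻¹ y ∈ Z3 → y.c = 0 ∧ y.e = 0 := fun y hy k => by
    refine ⟨eq_zero_of_T fun s => ?_, ?_⟩
    · simpa only [sf, UC] using (mem3 μ hy).1 k (Xd s) rfl (hd s)
    · have := (mem3 μ hy).1 k _ (afn_mem μ e0_mem) (by rw [afn_inv_afn _ e0_mem]; exact Z2_le_Z3 e0_Z2)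
      simp only [sf, UC, mem_Li_b0.1 h, neg_eq_zero] at this
      exact (mul_eq_zero.1 this).resolve_left (qe_b h)
  have n1 : afn μ⁻¹ (e0 K) ∉ Z2 := fun k => by
    have k1 := qx_inv k
    rw [inv_inv] at k1
    exact qe_b h k1.2.1
  have hp := afn_mem μ⁻¹ (e0_mem (K := K))
  have et : ∀ y ∈ (Qs : Subgroup (U K)), afn (μ * cQ (Xa 1) * μ⁻¹) y = afn μ (afn (cQ (Xa 1)) (afn μ⁻¹ y)) :=
    fun y hy => by rw [afn_mul _ _ hy, afn_mul _ _ (afn_mem _ hy)]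
  have ht : μ * cQ (Xa 1) * μ⁻¹ ∈ A := mul_mem (mul_mem hμ (H.cq _)) (inv_mem hμ)
  obtain ⟨a, ha⟩ := O _ ht fun k => n1 (H.semi (inv_mem hμ) (qx_Xa one_ne_zero) (by
    rwa [et _ e0_mem, ← Li_e0, ← afn_afn_inv μ e0_mem, afn_inv_afn _ hp, afn_Li_iff μ hp (afn_mem _ hp)] at k))
  have hb := Li_le (Li_symm h b0_mem (e0_not μ))
  obtain ⟨d, hd0⟩ := exists_T_ne (K := K)
  have q0 : Xd d ∈ (Qs : Subgroup (U K)) := rfl
  have hw := afn_mem μ q0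
  obtain ⟨w1, w2⟩ := Uc _ hw (by rw [afn_inv_afn _ q0]; exact ⟨rfl, rfl, rfl⟩)
  obtain ⟨d₁, e1⟩ : ∃ d₁, (afn μ (Xd d)).d = d₁ := ⟨_, rfl⟩
  have q1 : Xd d₁ ∈ (Qs : Subgroup (U K)) := rfl
  have hn := hd d₁
  have nd : d = (afn μ⁻¹ (Xd d₁)).d := by
    have k := afn_Li μ⁻¹ (afn_mem μ e0_mem) (hb (mem_Li_b0.2 (show ((Xd d₁)⁻¹ * afn μ (Xd d)).a = 0 ∧ _ by
      simp only [UC, mem_Qs.1 hw, w1, w2, e1, neg_add_cancel, and_self])))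
    rw [afn_inv_afn _ e0_mem, Li_e0, afn_map_mul _ (inv_mem q1) hw, afn_map_inv _ q1, afn_inv_afn _ q0] at k
    exact (dv_Z2 hn ⟨rfl, rfl, rfl⟩).1 k
  have e2 := afn_afn_inv μ q1
  have e3 := et _ q1
  generalize afn μ⁻¹ (Xd d₁) = n at hn nd e2 e3
  obtain ⟨m, hm⟩ : ∃ m, afn (cQ (Xa 1)) n = n * m := ⟨n⁻¹ * _, (mul_inv_cancel_left _ _).symm⟩
  have mQ : m ∈ (Qs : Subgroup (U K)) := (mul_mem_cancel_left (show n ∈ Qs from hn.1)).1 (hm ▸ afn_mem _ hn.1)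
  obtain ⟨c1, c2, c3, c4⟩ := cjQ (Xa 1) (show n ∈ Qs from hn.1)
  simp only [hm, UC, hn.1, hn.2.1, hn.2.2, ← nd, add_eq_left, add_right_inj] at c1 c2 c3 c4
  have m1 := mem_Li_b0.1 (Li_le h (afn_Li μ e0_mem ((Li_e0 (K := K)).ge ⟨mQ, c1, c2, c3⟩)))
  have m2 : (afn μ m).b ≠ 0 := fun c => hd0 (c4.symm.trans ((afn_Z1 μ mQ).1 ⟨m1.1, c, m1.2⟩).2.2.2.2)
  rw [hm, afn_map_mul _ hn.1 mQ, e2] at e3
  have k := (Uc _ (afn_mem _ q1) ((H.u3 (mul_mem (H.cq (Xa a)) ht) hμ (hb ha) (afn_mem _ q1)).1 (by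
    rw [afn_inv_afn _ q1]; exact ⟨rfl, rfl, rfl⟩))).1
  rw [afn_mul _ _ q1, (cjQ _ (afn_mem _ q1)).2.1, e3] at k
  simp only [UC, m1, neg_eq_zero] at k
  obtain rfl := (mul_eq_zero.1 k).resolve_left m2
  have k1 := hb ha
  rw [show cQ (Xa 0 : U K) = 1 from (congrArg rQ (map_one _)).trans (map_one _), one_mul, et _ e0_mem,
    afn_Li_iff μ e0_mem (afn_mem _ hp), Li_e0, afn_cQ _ hp] at k1
  have k2 := nor_Z2.mem_comm k1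
  rw [inv_mul_cancel_left] at k2
  exact n1 k2

end Cfsg.Agent.D4F
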