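import Cfsg.Agent.D4F.QX

/-! The involution `iv` in the coordinates of a conjugate of `Z2` that it fixes (odd characteristic). Inside `SQ.*` write `D4F.iv`, `D4F.hb`. -/

set_option autoImplicit false
set_option linter.unusedSectionVars false

namespace Cfsg.Agent.D4F

open Subgroup Cfsg.Agent.RFS Cfsg.Agent.U5F Cfsg.Agent.Fus

variable {K : Type*} [Field K] [Tri K] {A₀ : Subgroup (MulAut (U K))} {A : Subgroup (MulAut (Qs : Subgroup (U K)))}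
  {α β μ : MulAut (Qs : Subgroup (U K))} {u v w y : U K}

theorem qi_q (hu : u ∈ Qs) : iv K u ∈ Qs := by rw [mem_Qs, (iv_co u).1, mem_Qs.1 hu, neg_zero]

theorem qi_j (β : MulAut (Qs : Subgroup (U K))) (hu : u ∈ Qs) :
    afn (β⁻¹ * rQ (iv K) * β) u = afn β⁻¹ (iv K (afn β u)) := by
  rw [afn_mul _ _ hu, afn_mul _ _ (afn_mem β hu), U5F.afn_res _ (afn_mem β hu)]

theorem qi_b (β : MulAut (Qs : Subgroup (U K))) (hu : u ∈ Qs) :
    afn β (afn (β⁻¹ * rQ (iv K) * β) (afn β⁻¹ u)) = iv K u := by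
  rw [qi_j β (afn_mem _ hu), afn_afn_inv _ hu, afn_afn_inv _ (qi_q hu)]

theorem qi_v (β : MulAut (Qs : Subgroup (U K))) : afn β⁻¹ (afn β (e0 K)) ∈ Z3 := by
  rw [afn_inv_afn _ e0_mem]; exact Z2_le_Z3 e0_Z2

theorem qi_alg (h2 : (2 : K) ≠ 0) {ε r s : K} {f : K ≃+* K} (hε : ε * ε = 1) (e1 : ∀ x, θ x = x → N r * s * f x = ε * x)
    (e2 : N r * s ^ 2 * f 1 = -1) (e3 : ∀ d, χ r * s * f (χ r * s * f d) = d) (d : K) : χ r * s * f d = -ε * d := by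
  have a1 := e1 1 θ1
  have a3 := e3 1
  rw [map_one, mul_one] at a1 e2 a3
  rw [mul_one] at a1
  have hs : s = -ε := by linear_combination ε * e2 - ε * s * a1 - s * hε
  have hN : r * χ r = -1 := by
    rw [mul_χ]; linear_combination -ε * a1 + ε * N r * hs - (N r + 1) * hε
  have ff := gal_sq (f := f) (fun x hx => by linear_combination ε * e1 x hx - ε * f x * a1 - (f x - x) * hε)
    fun x => by
      have := e3 x
      rw [map_mul] at this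
      linear_combination this - f (f x) * a3
  rw [ff] at a3 ⊢
  have c : (χ r - 1) * (χ r + 1) = 0 := by
    rw [hs] at a3; linear_combination a3 - χ r ^ 2 * hε
  rcases mul_eq_zero.1 c with c | c
  · rw [sub_eq_zero.1 c, hs, one_mul]
  · have r1 : r = 1 := by linear_combination r * c - hN
    rw [r1, χ_one] at c
    exact (h2 (by linear_combination c)).elim

/-- Let `i = rQ (iv K) ∈ A` (`H.res H.iv`, `afn_res`, `iv_co`), `v = β e0`. Every `x ∈ Li v` has `i x ≡ ε x` in the coordinates `b, c, d, e` (the scalar passes), so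
`i v ∈ Li v` and `j = β⁻¹ * i * β ∈ A` has `j e0 ∈ Z2` (`Z2_iff`): `j = rQ (conj g * tf r s f)` (`SQ.ext'`). For `x ∈ k`: `β (Xe x) ∈ Li v` (`afn_Li`, `Li_e0`),
so `i (β (Xe x)) ≡ β ((Xe x)^{±1})` mod `Z1` and `congQ β⁻¹` gives `(j (Xe x)).e = ε x`, i.e. `N r * s * f x = ε x` (`co_form`). For `z = Xz 1`: `β z ∈ Z1`, `i (β z) = (β z)⁻¹`,
so `j z = z⁻¹`: `N r * s ^ 2 = -1`. With `x = 1`: `N r * s = ε`, so `s = -ε`, `N r = -1`, `f x = x` on `k`. `j * j = 1` (`iv * iv = 1`):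
`(conj g * tf)^2 = conj (g * tf g) * tf (r * um f r) (..) (f * f)` (`tf_mul`, `MulAut` ext), `faith_Q` against `tf 1 1 1 = 1` gives `r * f r = 1`, `f * f = 1`; `gal_sq`: `f = id`;
`r = ±1`, `N 1 = 1 ≠ -1`, so `r = -1`, `χ r = 1`. Hence `(j y).d = -ε * y.d` for `y ∈ Z3` (`co_form`). -/
theorem SQ.inv_d (H : SQ A₀ A) (h2 : (2 : K) ≠ 0) (hβ : β ∈ A) {ε : K} (hε : ε = 1 ∨ ε = -1)
    (h : (afn β (e0 K)).b = ε * (afn β (e0 K)).b ∧ -(afn β (e0 K)).c = ε * (afn β (e0 K)).c ∧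
      (afn β (e0 K)).d = ε * (afn β (e0 K)).d ∧ -(afn β (e0 K)).e = ε * (afn β (e0 K)).e) (hy : y ∈ Z3) :
    afn (β⁻¹ * rQ (D4F.iv K) * β) y ∈ Z3 ∧ (afn (β⁻¹ * rQ (D4F.iv K) * β) y).d = -ε * y.d := by
  have θε : θ ε = ε := by rcases hε with rfl | rfl <;> simp
  have εε : ε * ε = 1 := by rcases hε with rfl | rfl <;> simp
  have li : ∀ x ∈ Li (afn β (e0 K)), (D4F.iv K x).b = ε * x.b ∧ (D4F.iv K x).c = ε * x.c ∧
      (D4F.iv K x).d = ε * x.d ∧ (D4F.iv K x).e = ε * x.e := by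
    rintro x ⟨-, s, -, k1, k2, k3, k4⟩
    obtain ⟨-, i1, i2, i3, i4, -⟩ := iv_co x
    rw [i1, i2, i3, i4, k1, k2, k3, k4]
    exact ⟨by linear_combination s * h.1, by linear_combination s * h.2.1, by linear_combination s * h.2.2.1,
      by linear_combination s * h.2.2.2⟩
  have vq := afn_mem β (e0_mem (K := K))
  have j2 : afn (β⁻¹ * rQ (D4F.iv K) * β) (e0 K) ∈ Z2 := by
    rw [mul_assoc, Z2_iff, afn_mul _ _ e0_mem, U5F.afn_res _ vq]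
    exact ⟨qi_q vq, ε, θε, li _ (Li_self vq)⟩
  have je : ∀ x (hx : θ x = x), (afn (β⁻¹ * rQ (D4F.iv K) * β) (Xe x hx)).e = ε * x := fun x hx => by
    have q : Xe x hx ∈ (Qs : Subgroup (U K)) := rfl
    have w := afn_mem β q
    have k := li _ (afn_Li β e0_mem (u := Xe x hx) (Li_e0 (K := K) ▸ ⟨rfl, rfl, rfl, rfl⟩))
    rw [qi_j β q]
    rcases hε with rfl | rfl
    · simp only [one_mul] at k ⊢
      rw [(congQ β⁻¹ w (qi_q w) k).2.2.2, afn_inv_afn _ q]; rfl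
    · simp only [neg_mul, one_mul, ← inv_Q w] at k ⊢
      rw [(congQ β⁻¹ (inv_mem w) (qi_q w) k).2.2.2, afn_map_inv _ w, afn_inv_afn _ q, (inv_Q q).2.2.2]; rfl
  have jz : (afn (β⁻¹ * rQ (D4F.iv K) * β) (Xz 1 θ1)).z = -1 := by
    have q : Xz 1 θ1 ∈ (Qs : Subgroup (U K)) := rfl
    have w := mem_Z1.1 ((afn_Z1 β q).2 ⟨rfl, rfl, rfl, rfl, rfl⟩)
    have : D4F.iv K (afn β (Xz 1 θ1)) = (afn β (Xz 1 θ1))⁻¹ := by
      ext <;> simp only [iv_co, UC, w]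
    rw [qi_j β q, this, afn_map_inv _ w.1, afn_inv_afn _ q]
    simp only [UC]
  have jj : ∀ x ∈ (Qs : Subgroup (U K)), afn (β⁻¹ * rQ (D4F.iv K) * β) (afn (β⁻¹ * rQ (D4F.iv K) * β) x) = x :=
    fun x hx => by
      have w := afn_mem β hx
      have : D4F.iv K (D4F.iv K (afn β x)) = afn β x := by ext <;> simp only [iv_co, neg_neg]
      rw [qi_j β (afn_mem _ hx), qi_j β hx, afn_afn_inv _ (qi_q w), this, afn_inv_afn _ hx]
  obtain ⟨g, r, s, f, -, e⟩ := H.ext' (mul_mem (mul_mem (inv_mem hβ) (H.res H.iv)) hβ) j2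
  rw [e] at je jz jj ⊢
  have z3 : ∀ y ∈ (Z3 : Subgroup (U K)), afn (rQ (MulAut.conj g * tf r s f)) y ∈ Z3 ∧
      (afn (rQ (MulAut.conj g * tf r s f)) y).d = χ (r : K) * kv s * f y.d := fun y hy => by
    obtain ⟨c1, c2, c3, -⟩ := co_form g r s f (u := y) hy.1
    exact ⟨⟨afn_mem _ (show y ∈ Qs from hy.1), by rw [c1, hy.2.1, map_zero, mul_zero],
      by simp only [c2, hy.2.1, hy.2.2, map_zero, UC]⟩, c3 hy.2.1 hy.2.2⟩
  refine ⟨(z3 y hy).1, (z3 y hy).2.trans (qi_alg h2 εε (fun x hx => ?_) ?_ (fun d => ?_) _)⟩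
  · exact ((co_form g r s f (u := Xe x hx) rfl).2.2.2.1 ⟨rfl, rfl, rfl, rfl⟩).symm.trans (je x hx)
  · exact ((co_form g r s f (u := Xz 1 θ1) rfl).2.2.2.2.1 ⟨rfl, rfl, rfl, rfl, rfl⟩).symm.trans jz
  · have a := z3 (Xd d) ⟨rfl, rfl, rfl⟩
    have b := (z3 _ a.1).2
    rw [jj _ rfl, a.2] at b
    exact b.symm

/-- `SQ.inv_d` with `ε = 1` for `y' = β⁻¹ y`: `j y' * y' ∈ Z2 = Li e0` (`mul_Q`); apply `β` (`afn_Li`): `iv y * y ∈ Li v`, its coordinates are `(2 b, 0, 2 d, 0)`. -/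
theorem SQ.inv_pos (H : SQ A₀ A) (h2 : (2 : K) ≠ 0) (hβ : β ∈ A) (hc : (afn β (e0 K)).c = 0) (he : (afn β (e0 K)).e = 0)
    (hy : y ∈ Qs) (h : afn β⁻¹ y ∈ Z3) : ∃ s, θ s = s ∧ y.b = s * (afn β (e0 K)).b ∧ y.d = s * (afn β (e0 K)).d := by
  obtain ⟨a, b⟩ := H.inv_d h2 hβ (.inl rfl) (by simp only [hc, he, UC, and_self]) h
  have k := (dv_Z2 (inv_mem h) a).2 (by rw [b, (inv_Q h.1).2.2.1, neg_mul, one_mul])
  rw [inv_inv, ← Li_e0] at k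
  have k' := afn_Li β e0_mem k
  rw [afn_map_mul _ (afn_mem _ hy) (afn_mem _ (afn_mem _ hy)), qi_b β hy, afn_afn_inv _ hy] at k'
  obtain ⟨-, s, hs, k1, -, k2, -⟩ := k'
  simp only [mul_Q hy, iv_co] at k1 k2
  exact ⟨s / 2, by simp only [TE, hs], by field_simp; linear_combination k1, by field_simp; linear_combination k2⟩

/-- `SQ.inv_d` with `ε = -1`: `y'⁻¹ * j y' ∈ Z2` (`dv_Z2`), so `y⁻¹ * iv y ∈ Li v`, coordinates `(0, -2 c, 0, -2 e)`. -/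
theorem SQ.inv_neg (H : SQ A₀ A) (h2 : (2 : K) ≠ 0) (hβ : β ∈ A) (hb : (afn β (e0 K)).b = 0) (hd : (afn β (e0 K)).d = 0)
    (hy : y ∈ Qs) (h : afn β⁻¹ y ∈ Z3) : ∃ s, θ s = s ∧ y.c = s * (afn β (e0 K)).c ∧ y.e = s * (afn β (e0 K)).e := by
  obtain ⟨a, b⟩ := H.inv_d h2 hβ (.inr rfl) (by simp only [hb, hd, neg_mul, UC, and_self]) h
  have k := (dv_Z2 h a).2 (by rw [b, neg_neg, one_mul])
  rw [← Li_e0] at k
  have k' := afn_Li β e0_mem k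
  rw [afn_map_mul _ (inv_mem (afn_mem _ hy)) (afn_mem _ (afn_mem _ hy)), qi_b β hy, afn_map_inv _ (afn_mem _ hy),
    afn_afn_inv _ hy] at k'
  obtain ⟨-, s, hs, -, k1, -, k2⟩ := k'
  simp only [mul_Q (inv_mem hy), inv_Q hy, iv_co] at k1 k2
  exact ⟨-s / 2, by simp only [TE, hs], by field_simp; linear_combination -k1, by field_simp; linear_combination -k2⟩

/-- The subgroup `β Z3` for `v = β e0 = (0, c, 0, w)`. `mem3`: an element `y'` of `β Z3` has `y'.c = s' c`, `y'.e = s' w` (`SQ.inv_neg`) and `sf y' v = 0`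
(`mem3`, `β⁻¹ v = e0 ∈ Z3`), i.e. `y'.b w = T (c y'.d)`; then `sf y y' = s' (y.b w - T (c y.d)) - s (y'.b w - T (c y'.d)) = 0` (`T_smul`). -/
theorem SQ.uw (H : SQ A₀ A) (h2 : (2 : K) ≠ 0) (hβ : β ∈ A) (hb : (afn β (e0 K)).b = 0) (hd : (afn β (e0 K)).d = 0)
    (hy : y ∈ Qs) {s : K} (hs : θ s = s) (h1 : y.c = s * (afn β (e0 K)).c) (h3 : y.e = s * (afn β (e0 K)).e)
    (h4 : y.b * (afn β (e0 K)).e = T ((afn β (e0 K)).c * y.d)) : afn β⁻¹ y ∈ Z3 :=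
  (mem3 β hy).2 fun y' hy' k => by
    obtain ⟨s', hs', k1, k2⟩ := H.inv_neg h2 hβ hb hd hy' k
    have k3 := (mem3 β hy').1 k _ (afn_mem β e0_mem) (qi_v β)
    simp only [sf, hb, hd, UC] at k3
    rw [sf, k1, k2, h1, h3, mul_assoc s, mul_assoc s', T_smul hs, T_smul hs']
    linear_combination s' * h4 - s * k3

/-- Odd characteristic: the conjugate of `Z3` belonging to `Li b0`. `→`: `SQ.inv_pos` gives `d = 0`; `sf y (μ e0) = 0` (`mem3`) gives `e = 0` as `(μ e0).b ≠ 0`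
(`e0_not`, `mem_Li_b0`). `←`: `mem3` and `→`. -/
theorem SQ.uinf_odd (H : SQ A₀ A) (h2 : (2 : K) ≠ 0) (hμ : μ ∈ A) (h : afn μ (e0 K) ∈ Li (b0 K)) (hy : y ∈ Qs) :
    afn μ⁻¹ y ∈ Z3 ↔ y.d = 0 ∧ y.e = 0 := by
  obtain ⟨v1, v2, v3, v4⟩ := mem_Li_b0.1 h
  have k : ∀ y ∈ (Qs : Subgroup (U K)), afn μ⁻¹ y ∈ Z3 → y.d = 0 ∧ y.e = 0 := fun y hy k => by
    obtain ⟨s, -, -, k1⟩ := H.inv_pos h2 hμ v2 v4 hy k
    have k3 := (mem3 μ hy).1 k _ (afn_mem μ e0_mem) (qi_v μ)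
    simp only [sf, v2, v3, v4, UC, neg_eq_zero, mul_eq_zero] at k3
    exact ⟨by rw [k1, v3, mul_zero], k3.resolve_left fun e => e0_not μ ⟨v1, e, v2, v3, v4⟩⟩
  refine ⟨k y hy, fun a => (mem3 μ hy).2 fun y' hy' b => ?_⟩
  simp only [sf, a, k y' hy' b, UC]

end Cfsg.Agent.D4F
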