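import Cfsg.Agent.D4F.Q0

/-! Automorphisms of `Q` preserve `sf`-orthogonality and the `k`-lines of `V = Q / Z1`. -/

set_option autoImplicit false
set_option linter.unusedSectionVars false

namespace Cfsg.Agent.D4F

open Subgroup Cfsg.Agent.RFS Cfsg.Agent.U5F Cfsg.Agent.Fus

variable {K : Type*} [Field K] [Tri K] {A₀ : Subgroup (MulAut (U K))} {A : Subgroup (MulAut (Qs : Subgroup (U K)))}
  {α β : MulAut (Qs : Subgroup (U K))} {u v w : U K}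

/-- `cm_zQ`, `cm_Qs_Qs`, `eq_one_of_Z1`, `cm_eq_one`. -/
theorem sf_eq_zero (hu : u ∈ Qs) (hv : v ∈ Qs) : sf u v = 0 ↔ u * v = v * u :=
  ⟨fun h => cm_eq_one.1 (eq_one_of_Z1 (cm_Qs_Qs hu hv) ((cm_zQ hu hv).trans h)), fun h => by
    rw [← cm_zQ hu hv, cm_eq_one.2 h]; rfl⟩

/-- `sf_eq_zero`, `afn_map_mul`, `afn_injOn`. -/
theorem afn_sf (α : MulAut (Qs : Subgroup (U K))) (hu : u ∈ Qs) (hv : v ∈ Qs) : sf (afn α u) (afn α v) = 0 ↔ sf u v = 0 := by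
  rw [sf_eq_zero (afn_mem α hu) (afn_mem α hv), sf_eq_zero hu hv, ← afn_map_mul α hu hv, ← afn_map_mul α hv hu]
  exact (afn_injOn α).eq_iff (mul_mem hu hv) (mul_mem hv hu)

theorem sf_swap (u v : U K) : sf u v = -sf v u := by simp only [sf]; ring

theorem θsf (u v : U K) : θ (sf u v) = sf u v := by simp only [sf, map_add, map_sub, map_mul, θT, U.hb, U.he]

/-- Test with `e0`, `b0`, `Xd s`, `Xc s` (`eq_zero_of_T`). -/
theorem sf_nd (h : ∀ x ∈ Qs, sf u x = sf v x) : u.b = v.b ∧ u.c = v.c ∧ u.d = v.d ∧ u.e = v.e := by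
  refine ⟨?_, sub_eq_zero.1 (eq_zero_of_T fun s => ?_), sub_eq_zero.1 (eq_zero_of_T fun s => ?_), ?_⟩
  · simpa only [sf, UC] using h (Xe 1 θ1) rfl
  · rw [sub_mul, T_sub, sub_eq_zero]
    simpa only [sf, UC] using h (Xd s) rfl
  · rw [sub_mul, T_sub, sub_eq_zero]
    simpa only [sf, UC, neg_inj, mul_comm s] using h (Xc s) rfl
  · simpa only [sf, UC, neg_inj] using h (Xb 1 θ1) rfl

theorem Li_self (hv : v ∈ Qs) : v ∈ Li v := ⟨hv, 1, θ1, by simp only [one_mul, and_self]⟩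

theorem Z1_le_Li (v : U K) : Z1 ≤ Li v := fun _ hu =>
  ⟨hu.1, 0, map_zero _, by simpa only [zero_mul] using hu.2⟩

theorem Li_e0 : Li (e0 K) = Z2 := Subgroup.ext fun u =>
  ⟨fun ⟨h, _, _, a, b, c, _⟩ => ⟨h, a.trans (mul_zero _), b.trans (mul_zero _), c.trans (mul_zero _)⟩,
    fun h => ⟨h.1, u.e, u.he, h.2.1.trans (mul_zero _).symm, h.2.2.1.trans (mul_zero _).symm,
      h.2.2.2.trans (mul_zero _).symm, (mul_one _).symm⟩⟩

theorem mem_Li_b0 : u ∈ Li (b0 K) ↔ u.a = 0 ∧ u.c = 0 ∧ u.d = 0 ∧ u.e = 0 :=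
  ⟨fun ⟨h, _, _, _, a, b, c⟩ => ⟨h, a.trans (mul_zero _), b.trans (mul_zero _), c.trans (mul_zero _)⟩,
    fun h => ⟨h.1, u.b, u.hb, (mul_one _).symm, h.2.1.trans (mul_zero _).symm, h.2.2.1.trans (mul_zero _).symm,
      h.2.2.2.trans (mul_zero _).symm⟩⟩

theorem Li_le (h : u ∈ Li v) : Li u ≤ Li v := by
  obtain ⟨-, s, hs, k⟩ := h
  rintro w ⟨hw, t, ht, k'⟩
  exact ⟨hw, t * s, by rw [map_mul, hs, ht], by simp only [k', k, mul_assoc, and_self]⟩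

/-- The scalar is not zero; invert it. -/
theorem Li_symm (h : u ∈ Li v) (hv : v ∈ Qs) (hu : u ∉ Z1) : v ∈ Li u := by
  obtain ⟨h0, s, hs, k⟩ := h
  have s0 : s ≠ 0 := by
    rintro rfl
    exact hu ⟨h0, by simpa only [zero_mul] using k⟩
  exact ⟨hv, s⁻¹, by rw [map_inv₀, hs], by simp only [k, inv_mul_cancel_left₀ s0, and_self]⟩

theorem afn_Z1 (α : MulAut (Qs : Subgroup (U K))) (hu : u ∈ Qs) : afn α u ∈ Z1 ↔ u ∈ Z1 :=
  ⟨fun h => by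
    have := chQ_Z1 α⁻¹ _ (afn_mem α hu) h
    rwa [afn_inv_afn _ hu] at this, chQ_Z1 α u hu⟩

theorem e0_not (α : MulAut (Qs : Subgroup (U K))) : afn α (e0 K) ∉ Z1 := fun h =>
  one_ne_zero ((afn_Z1 α e0_mem).1 h).2.2.2.2

theorem ql_smul {s : K} (hs : θ s = s) (k : u.b = s * v.b ∧ u.c = s * v.c ∧ u.d = s * v.d ∧ u.e = s * v.e) (x : U K) :
    sf u x = s * sf v x := by
  simp only [sf, k, TE, hs]; ring

theorem ql_sub {r : K} (hr : θ r = r) (u x y : U K) :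
    sf u (Xq (x.b - r * y.b) (x.c - r * y.c) (x.d - r * y.d) (x.e - r * y.e) (by rw [map_sub, map_mul, hr, x.hb, y.hb])
      (by rw [map_sub, map_mul, hr, x.he, y.he])) = sf u x - r * sf u y := by
  simp only [sf, Xq_co, TE, hr]; ring

/-- `→`: `sf u x = s * sf v x` (`T_smul`). `←`: by `sf_nd` (against `1`) some `x` has `sf v x ≠ 0`; scaling with `Xq` gives `x₀ ∈ Qs` with
`sf v x₀ = 1`; put `s = sf u x₀`. For `x ∈ Qs` and `r = sf v x` the element `y = Xq (x.b - r x₀.b) (x.c - r x₀.c) ..` has `sf v y = 0`, so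
`sf u x = r s = sf (Xq (s v.b) (s v.c) (s v.d) (s v.e)) x`; now `sf_nd`. -/
theorem li_iff (hv : v ∈ Qs) (hv' : v ∉ Z1) (hu : u ∈ Qs) : u ∈ Li v ↔ ∀ x ∈ Qs, sf v x = 0 → sf u x = 0 := by
  refine ⟨fun ⟨_, s, hs, k⟩ x _ h => by rw [ql_smul hs k, h, mul_zero], fun h => ?_⟩
  obtain ⟨x₁, -, h1⟩ : ∃ x ∈ Qs, sf v x ≠ 0 := by
    by_contra! c
    exact hv' ⟨hv, sf_nd (v := 1) fun x hx => (c x hx).trans (by simp only [sf, UC])⟩
  have h2 : θ (sf u x₁ / sf v x₁) = sf u x₁ / sf v x₁ := by rw [map_div₀, θsf, θsf]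
  refine ⟨hu, _, h2, sf_nd (v := Xq _ _ _ _ (by rw [map_mul, h2, v.hb]) (by rw [map_mul, h2, v.he])) fun x _ => ?_⟩
  have h3 : θ (sf v x / sf v x₁) = sf v x / sf v x₁ := by rw [map_div₀, θsf, θsf]
  have h4 := h _ rfl ((ql_sub h3 v x x₁).trans (by rw [div_mul_cancel₀ _ h1, sub_self]))
  rw [ql_sub h3] at h4
  refine Eq.trans ?_ (ql_smul (v := v) h2 ⟨rfl, rfl, rfl, rfl⟩ x).symm
  rw [sub_eq_zero.1 h4]
  ring

/-- If `v ∈ Z1` then `u ∈ Z1` (`afn_Z1`, `Z1_le_Li`); else `li_iff`, write `x = afn α (afn α⁻¹ x)`, `afn_sf`. -/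
theorem afn_Li (α : MulAut (Qs : Subgroup (U K))) (hv : v ∈ Qs) (h : u ∈ Li v) : afn α u ∈ Li (afn α v) := by
  by_cases c : v ∈ Z1
  · obtain ⟨hu, s, -, k⟩ := h
    exact Z1_le_Li _ (chQ_Z1 α u hu ⟨hu, by simpa only [c.2.1, c.2.2.1, c.2.2.2.1, c.2.2.2.2, mul_zero] using k⟩)
  refine (li_iff (afn_mem α hv) (mt (afn_Z1 α hv).1 c) (afn_mem α h.1)).2 fun x hx k => ?_
  have a := afn_mem α⁻¹ hx
  rw [← afn_afn_inv α hx] at k ⊢
  exact (afn_sf α h.1 a).2 ((li_iff hv c h.1).1 h _ a ((afn_sf α hv a).1 k))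

/-- `afn_Li` for `α` and `α⁻¹`. -/
theorem afn_Li_iff (α : MulAut (Qs : Subgroup (U K))) (hv : v ∈ Qs) (hu : u ∈ Qs) : afn α u ∈ Li (afn α v) ↔ u ∈ Li v :=
  ⟨fun h => by
    have := afn_Li α⁻¹ (afn_mem α hv) h
    rwa [afn_inv_afn _ hu, afn_inv_afn _ hv] at this, afn_Li α hv⟩

/-- `afn_Li_iff β⁻¹`, `Li_e0`. -/
theorem Z2_iff : afn (β⁻¹ * α) (e0 K) ∈ Z2 ↔ afn α (e0 K) ∈ Li (afn β (e0 K)) := by
  rw [afn_mul _ _ e0_mem, ← Li_e0, ← afn_Li_iff β e0_mem (afn_mem _ (afn_mem _ e0_mem)), afn_afn_inv _ (afn_mem _ e0_mem)]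

/-- An automorphism with `α e0 ∈ Z2` keeps `Z2` (`afn_Li`, `Li_le`) . -/
theorem keep_Z2 (h : afn α (e0 K) ∈ Z2) (hu : u ∈ Z2) : afn α u ∈ Z2 := by
  rw [← Li_e0] at h hu ⊢
  exact Li_le h (afn_Li α e0_mem hu)

/-- .. and `Z4 = Z2^⊥`: `sf u e0 = u.b`; `e0 ∈ Li (α e0)` by `Li_symm`. -/
theorem keep_Z4 (h : afn α (e0 K) ∈ Z2) (hu : u ∈ Z4) : afn α u ∈ Z4 := by
  rw [← Li_e0] at h
  have a := afn_mem α hu.1
  have b := (li_iff (afn_mem α e0_mem) (e0_not α) e0_mem).1 (Li_symm h e0_mem (e0_not α)) _ a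
    ((afn_sf α e0_mem hu.1).2 (by simp only [sf, e0_co, UC, hu.2]))
  exact ⟨a, by simpa only [sf, e0_co, UC, neg_eq_zero] using b⟩

/-- `Z3` is its own centraliser (`mem_Z3_of_comm`, `com_Z3`), transported by `β`. -/
theorem mem3 (β : MulAut (Qs : Subgroup (U K))) (hu : u ∈ Qs) :
    afn β⁻¹ u ∈ Z3 ↔ ∀ y ∈ Qs, afn β⁻¹ y ∈ Z3 → sf u y = 0 := by
  refine ⟨fun h y hy k => (afn_sf β⁻¹ hu hy).1 ((sf_eq_zero h.1 k.1).2 (com_Z3 h k)), fun h =>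
    mem_Z3_of_comm fun n hn => (sf_eq_zero (afn_mem _ hu) hn.1).1 ?_⟩
  have := (afn_sf β⁻¹ hu (afn_mem β hn.1)).2 (h _ (afn_mem β hn.1) (by rwa [afn_inv_afn _ hn.1]))
  rwa [afn_inv_afn _ hn.1] at this

/-- `β Z3` is a `k`-subspace (`afn_Li β⁻¹`; `Li y ≤ Z3` for `y ∈ Z3`). -/
theorem Li3 (β : MulAut (Qs : Subgroup (U K))) (hv : v ∈ Qs) (h : afn β⁻¹ v ∈ Z3) (hu : u ∈ Li v) : afn β⁻¹ u ∈ Z3 := by
  obtain ⟨a, s, -, b, c, -⟩ := afn_Li β⁻¹ hv hu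
  exact ⟨a, by rw [b, h.2.1, mul_zero], by rw [c, h.2.2, mul_zero]⟩

/-- In characteristic two the elements of `β Z3` are involutions (`pow_p_Z3`, `two_eq_zero_iff`, `sq_zQ`). -/
theorem sing3 (h2 : (2 : K) = 0) (β : MulAut (Qs : Subgroup (U K))) (hu : u ∈ Qs) (h : afn β⁻¹ u ∈ Z3) :
    u.e * u.b + T (u.c * u.d) = 0 := by
  have a := pow_p_Z3 h
  rw [two_eq_zero_iff.1 h2, pow_two, ← afn_map_mul _ hu hu, ← (homOn_afn β⁻¹).map_one] at a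
  have b := sq_zQ hu
  rw [afn_injOn _ (mul_mem hu hu) (one_mem _) a, h2] at b
  simp only [UC] at b
  linear_combination b

/-- The action of an element of `A₀` in normal form on `V` (`afn_res`, `cj_Q`, `tf_apply`, `tfn`). -/
theorem co_form (g : U K) (r : Kˣ) (s : ku K) (f : K ≃+* K) (hu : u ∈ Qs) :
    (afn (rQ (MulAut.conj g * tf r s f)) u).b = kv s * f u.b ∧
    (afn (rQ (MulAut.conj g * tf r s f)) u).c = r * kv s * f u.c - kv s * f u.b * g.a ∧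
    (u.b = 0 → u.c = 0 → (afn (rQ (MulAut.conj g * tf r s f)) u).d = χ (r : K) * kv s * f u.d) ∧
    (u ∈ Z2 → (afn (rQ (MulAut.conj g * tf r s f)) u).e = N (r : K) * kv s * f u.e) ∧
    (u ∈ Z1 → (afn (rQ (MulAut.conj g * tf r s f)) u).z = N (r : K) * kv s ^ 2 * f u.z) ∧
    (g.a = 0 → (afn (rQ (MulAut.conj g * tf r s f)) u).d = χ (r : K) * kv s * f u.d ∧
      (afn (rQ (MulAut.conj g * tf r s f)) u).e = N (r : K) * kv s * f u.e) := by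
  have a : tfn r s f u ∈ Qs := show (r : K) * f u.a = 0 by rw [mem_Qs.1 hu, map_zero, mul_zero]
  have e : afn (rQ (MulAut.conj g * tf r s f)) u = g * tfn r s f u * g⁻¹ := afn_res _ hu
  obtain ⟨h1, h2, h3, h4⟩ := cj_Q g a
  rw [e, h1, h2, h3, h4]
  refine ⟨rfl, rfl, fun b c => ?_, fun b => ?_, fun b => ?_, fun b => ?_⟩
  · simp only [tfn, b, c, map_zero, UC]
  · simp only [tfn, b.2.1, b.2.2.1, b.2.2.2, map_zero, UC]
  · rw [com_Z1 g (z := tfn r s f u) ⟨a, by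
      simp only [tfn, b.2.1, b.2.2.1, b.2.2.2.1, b.2.2.2.2, map_zero, mul_zero, and_self]⟩, mul_inv_cancel_right]
    rfl
  · simp only [tfn, b, UC, and_self]

theorem co_form_a (g : U K) (r : Kˣ) (s : ku K) (f : K ≃+* K) (u : U K) : ((MulAut.conj g * tf r s f) u).a = r * f u.a := by
  change (g * tfn r s f u * g⁻¹).a = _
  simp only [UC, tfn]
  ring

end Cfsg.Agent.D4F
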