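import Cfsg.Agent.D4F.QW

/-! The automizer of `Q` induces `SL₂(q³)` on `Q / Z1`. -/

set_option autoImplicit false
set_option linter.unusedSectionVars false

namespace Cfsg.Agent.D4F

open Subgroup Cfsg.Agent.RFS Cfsg.Agent.U5F Cfsg.Agent.Fus

variable {K : Type*} [Field K] [Tri K] {A₀ : Subgroup (MulAut (U K))} {A : Subgroup (MulAut (Qs : Subgroup (U K)))}
  {α β : MulAut (Qs : Subgroup (U K))}

theorem OQ_of_co (h : ∀ x ∈ Qs, (afn β x).b = (afn α x).b ∧ (afn β x).c = (afn α x).c ∧ (afn β x).d = (afn α x).d ∧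
    (afn β x).e = (afn α x).e) : α⁻¹ * β ∈ OQ K := mem_OQ.2 fun x hx => by
  have := congQ α⁻¹ (afn_mem α hx) (afn_mem β hx) (h x hx)
  rwa [afn_inv_afn _ hx, ← afn_mul _ _ hx] at this

theorem nt (t : Kˣ) : (rQ (ha t) * ωQ K)⁻¹ * (cQ (Xa (t : K)) * (ωQ K * cQ (Xa (t : K)⁻¹) * (ωQ K)⁻¹) * cQ (Xa (t : K))) ∈ OQ K := by
  refine OQ_of_co fun x hx => ?_
  have h1 := afn_mem (cQ (Xa (t : K))) hx
  have h2 := afn_mem (ωQ K)⁻¹ h1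
  have h3 := afn_mem (cQ (Xa (t : K)⁻¹)) h2
  have h4 := afn_mem (ωQ K) h3
  have h5 := t.ne_zero
  have h6 := θ_ne_zero h5
  have h7 := θ_ne_zero h6
  rw [afn_mul _ _ hx, afn_mul _ _ h1, afn_mul _ _ h1, afn_mul _ _ h2, afn_mul _ _ hx, afn_res _ (afn_mem _ hx), afn_ωQ hx]
  simp only [cjQ _ h4]
  rw [afn_ωQ h3]
  simp only [ω, cjQ _ h2, afn_ωQ_inv h1, cjQ _ hx, ha, tf_apply, tfn, UV]
  simp only [UE]
  refine ⟨?_, ?_, ?_, ?_⟩ <;> field_simp <;> ring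

theorem SQ.nw (H : SQ A₀ A) (t : Kˣ) : ∃ α ∈ A, (rQ (ha t) * ωQ K)⁻¹ * α ∈ OQ K := by
  obtain ⟨y, hy, h⟩ := H.exists_y (t : K)⁻¹
  refine ⟨cQ (Xa (t : K)) * y * cQ (Xa (t : K)), mul_mem (mul_mem (H.cq _) hy) (H.cq _), ?_⟩
  have := mul_mem (nt t) (Normal.conj_mem inferInstance _ (inv_mem h) (cQ (Xa (t : K)))⁻¹)
  convert this using 1
  group

theorem ha_one : ha (1 : Kˣ) = 1 := (tf_congr (by simp only [UV]; ring) (by simp only [UV, N_one, inv_one])).trans tf_one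

theorem SQ.om (H : SQ A₀ A) : ∃ α ∈ A, (ωQ K)⁻¹ * α ∈ OQ K := by
  simpa only [ha_one, map_one, one_mul] using H.nw 1

theorem SQ.ha_mem (H : SQ A₀ A) (t : Kˣ) : ha t ∈ A₀ := by
  obtain ⟨x, hx, h⟩ := H.nw t
  obtain ⟨y, hy, h'⟩ := H.om
  have k : (rQ (ha t))⁻¹ * (x * y⁻¹) ∈ OQ K := by
    have := Normal.conj_mem inferInstance _ (mul_mem h (inv_mem h')) (ωQ K)
    convert this using 1
    group
  have e : afn (x * y⁻¹) (e0 K) ∈ Z2 := by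
    have h1 := mem_OQ.1 k _ e0_mem
    have h2 : afn ((rQ (ha t))⁻¹ * (x * y⁻¹)) (e0 K) ∈ Z2 := ⟨afn_mem _ e0_mem, h1.1, h1.2.1, h1.2.2.1⟩
    have h3 := chr_mem (ha t) h2
    rwa [← afn_res (E := Qs) _ (afn_mem _ e0_mem), ← afn_mul _ _ e0_mem, mul_inv_cancel_left] at h3
  obtain ⟨g, r, s, f, h1, h2⟩ := H.ext' (mul_mem hx (inv_mem hy)) e
  rw [h2] at k
  obtain ⟨-, rfl, rfl, rfl⟩ := faith_Q k
  exact (mul_mem_cancel_left (H.sa.conj g)).1 h1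

theorem SQ.tor (H : SQ A₀ A) : TH K ≤ A₀ := by
  rintro _ ⟨r, s, rfl⟩
  obtain ⟨t, s', e⟩ := tf_hab r s
  exact e ▸ mul_mem (H.ha_mem t) (H.hb s')

theorem SQ.gen (H : SQ A₀ A) (hω : ωQ K ∈ A) (hα : α ∈ A) : ∃ φ ∈ A₀, α = rQ φ ∨ ∃ g, α = cQ g * ωQ K * rQ φ := by
  by_cases h : afn α (e0 K) ∈ Z2
  · obtain ⟨φ, h1, h2⟩ := H.ext hα h
    exact ⟨φ, h1, .inl h2.symm⟩
  obtain ⟨a, h1⟩ := H.orb α hα h
  obtain ⟨φ, h2, h3⟩ := H.ext (mul_mem (inv_mem hω) (mul_mem (H.cq (Xa a)) hα)) (by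
    rw [afn_mul _ _ e0_mem]
    have h4 := afn_ωQ_inv (afn_mem (cQ (Xa a) * α) e0_mem)
    have h5 := mem_Li_b0.1 h1
    exact ⟨afn_mem _ (afn_mem _ e0_mem), h4.1.trans h5.2.2.2, h4.2.1.trans h5.2.2.1, by rw [h4.2.2.1, h5.2.1, neg_zero]⟩)
  exact ⟨φ, h2, .inr ⟨(Xa a)⁻¹, by rw [h3, cQ, map_inv, map_inv]; group⟩⟩

end Cfsg.Agent.D4F
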