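import Cfsg.Agent.D4F.QI

/-! The orbit of `Z2` under the automizer of `Q` in odd characteristic. Below `v = β e0 = (0, c, 0, w)`, `c ≠ 0`. Inside `SQ.*` write `D4F.iv`, `D4F.hb`. -/

set_option autoImplicit false
set_option linter.unusedSectionVars false

namespace Cfsg.Agent.D4F

open Subgroup Cfsg.Agent.RFS Cfsg.Agent.U5F Cfsg.Agent.Fus

variable {K : Type*} [Field K] [Tri K] {A₀ : Subgroup (MulAut (U K))} {A : Subgroup (MulAut (Qs : Subgroup (U K)))}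
  {α β μ : MulAut (Qs : Subgroup (U K))} {u v w y : U K}

theorem qo_hb (h2 : (2 : K) ≠ 0) (hu : u ∈ Qs) :
    (afn (rQ (hb (mkk 2 h2 (map_ofNat θ 2)))) u).b = 2 ^ 2 * u.b ∧
      (afn (rQ (hb (mkk 2 h2 (map_ofNat θ 2)))) u).c = 2 * u.c ∧
      (afn (rQ (hb (mkk 2 h2 (map_ofNat θ 2)))) u).d = u.d ∧
      (afn (rQ (hb (mkk 2 h2 (map_ofNat θ 2)))) u).e = 2⁻¹ * u.e := by
  rw [afn_res _ hu]
  obtain ⟨-, a, b, c, d, -⟩ := hb_co (mkk 2 h2 (map_ofNat θ 2)) u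
  exact ⟨a, b, c, d⟩

theorem qo_x (hu : u ∈ Z3) {t : K} (ht : θ t = t) : ∃ x ∈ Z3, x ∈ Li u ∧ x.d = t * u.d :=
  ⟨Xq 0 0 (t * u.d) (t * u.e) (map_zero θ) (by rw [map_mul, ht, u.he]), ⟨rfl, rfl, rfl⟩,
    ⟨rfl, t, ht, by rw [hu.2.1, mul_zero]; rfl, by rw [hu.2.2, mul_zero]; rfl, rfl, rfl⟩, rfl⟩

theorem qo_li (β : MulAut (Qs : Subgroup (U K))) (hu : u ∈ Z3) (hv : v ∈ Z3) (h : v.d = u.d) :
    (afn β u)⁻¹ * afn β v ∈ Li (afn β (e0 K)) := by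
  rw [← afn_dv β hu.1 hv.1]
  exact afn_Li β e0_mem (Li_e0 (K := K) ▸ (dv_Z2 hu hv).2 h)

/-- `v' = cQ (Xa a) (α e0) = (0, c, -B a c, w' - T (χ a c)) = (0, c, -B a c, w)` (`cjQ`) (here `l = 1`; in general `(0, l c, -l B a c, l w)`) satisfies `SQ.uw` with `s = l` (`T (c B a c) = 2 T (χ c a)`: `B_comm`, `T_B_self`),
so `v' ∈ Li v` (`SQ.of3'` for `cQ (Xa a) * α`), `B a c = 0`, `a = 0` (`B_inj`, `B_comm`). -/
theorem SQ.odd_a (H : SQ A₀ A) (h2 : (2 : K) ≠ 0) (hβ : β ∈ A) (hb : (afn β (e0 K)).b = 0) (hd : (afn β (e0 K)).d = 0)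
    (hc : (afn β (e0 K)).c ≠ 0) (hα : α ∈ A) (h1 : (afn α (e0 K)).b = 0) (h3 : (afn α (e0 K)).d = 0) {l a : K} (hl : θ l = l)
    (h4 : (afn α (e0 K)).c = l * (afn β (e0 K)).c) (h5 : T (χ (afn β (e0 K)).c * a) = 0)
    (h6 : (afn α (e0 K)).e - l * T (χ a * (afn β (e0 K)).c) = l * (afn β (e0 K)).e) (h0 : l ≠ 0) : a = 0 := by
  have m := afn_mem α e0_mem
  obtain ⟨a1, a2, a3, a4⟩ := cjQ (Xa a) m
  simp only [UC, h1, h3, h4] at a1 a2 a3 a4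
  have k := H.uw h2 hβ hb hd (afn_mem (cQ (Xa a)) m) hl a2
    (by rw [a4, ← h6, mul_left_comm, T_smul hl]) (by
      rw [a1, a3, B_smul hl, zero_mul, mul_neg, T_neg, mul_left_comm, T_smul hl, B_comm, T_B_self, h5]
      simp only [UC])
  rw [← afn_mul _ _ e0_mem] at k
  obtain ⟨-, s, -, -, -, e, -⟩ := H.of3' (mul_mem (H.cq _) hα) hβ k
  rw [afn_mul _ _ e0_mem, a3, hd, mul_zero, neg_eq_zero, B_comm] at e
  exact B_inj h2 (mul_ne_zero h0 hc) e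

/-- The case `w = 0`, `3 ≠ 0`. `m = mkk 2 ..`, `η = rQ (hb m) ∈ A` maps `v` to `2 v ∈ Li v` (`hb_co`), so `j = β⁻¹ * η * β = rQ (conj g * tf r s f)` (`Z2_iff`, `SQ.ext'`) acts
on `y ∈ Z3` by `d ↦ l * f d`, `l = χ r * s` (`co_form`). Take `d₁, d₂` with `wd d₁ d₂ ≠ 0`, `T (d_i c) = 0` (`Fld.two`); `u_i = β⁻¹ (Xd d_i) ∈ Z3` (`SQ.uw`, `s = 0`), `a_i = u_i.d`.
If `x ∈ Li u_i` then `β x ∈ Li (Xd d_i)` has `b = c = e = 0`, so `η` fixes its coordinates and `(j x).d = x.d` (`congQ β⁻¹`): `l * f (t a_i) = t a_i` for `t ∈ k` (`x = Xq 0 0 (t a_i) (t u_i.e)`).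
`wd a₁ a₂ ≠ 0`: else `a₁ = 0` or `a₂ = t a₁` (`of_wd`); in the first case `u₁ ∈ Z2`, `Xd d₁ ∈ Li v`, `d₁ = 0`; in the second, with `x` as above, `x⁻¹ * u₂ ∈ Z2`, so
`(β x)⁻¹ * Xd d₂ ∈ Li v` has `d = 0`: `d₂ = t' d₁`, against `wd_smul`. `fix_two`: `l = 1`, `f = id`. Now `u = β⁻¹ b0 ∈ Z3` (`SQ.uw`, `s = 0`, `w = 0`), `u⁻¹ * j u ∈ Z2`,
so `b0⁻¹ * η b0 ∈ Li v` has `b = -1 + 4 = 0`. -/
theorem SQ.odd_w (H : SQ A₀ A) (h2 : (2 : K) ≠ 0) (h3 : (3 : K) ≠ 0) (hβ : β ∈ A) (hb : (afn β (e0 K)).b = 0)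
    (hd : (afn β (e0 K)).d = 0) (he : (afn β (e0 K)).e = 0) : (afn β (e0 K)).c = 0 := by
  have hη := H.res (H.hb (mkk 2 h2 (map_ofNat θ 2)))
  have co := fun (u : U K) (hu : u ∈ Qs) => qo_hb h2 hu
  generalize rQ (D4F.hb (mkk 2 h2 (map_ofNat θ 2))) = η at hη co
  have m := afn_mem β e0_mem
  obtain ⟨g, r, s, f, -, e⟩ := H.ext' (mul_mem (inv_mem hβ) (mul_mem hη hβ)) (Z2_iff.2 (by
    rw [afn_mul _ _ e0_mem]
    exact ⟨afn_mem η m, 2, map_ofNat θ 2, by simp only [co _ m, hb, hd, he, mul_zero, and_self]⟩))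
  have j1 : ∀ y ∈ Z3, (afn (β⁻¹ * (η * β)) y).d = χ (r : K) * kv s * f y.d := fun y hy =>
    e ▸ (co_form g r s f hy.1).2.2.1 hy.2.1 hy.2.2
  have j2 : ∀ y ∈ Z3, afn (β⁻¹ * (η * β)) y ∈ Z3 := fun y hy => by
    rw [e, afn_res _ hy.1]
    exact chr_mem _ hy
  have j3 : ∀ y ∈ Qs, afn (β⁻¹ * (η * β)) y = afn β⁻¹ (afn η (afn β y)) := fun y hy => by
    rw [afn_mul _ _ hy, afn_mul _ _ hy]
  have bx : ∀ d, ∀ x ∈ Li (afn β⁻¹ (Xd d)), afn β x ∈ Li (Xd d) := fun d x hx => by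
    have := afn_Li β (afn_mem β⁻¹ (x := Xd d) rfl) hx
    rwa [afn_afn_inv _ (x := Xd d) rfl] at this
  have u3 : ∀ d, T (d * (afn β (e0 K)).c) = 0 → afn β⁻¹ (Xd d) ∈ Z3 := fun d k =>
    H.uw h2 hβ hb hd (y := Xd d) rfl (map_zero θ) (zero_mul _).symm (zero_mul _).symm
      (by rw [mul_comm _ (Xd d).d]; exact (zero_mul _).trans k.symm)
  have fx : ∀ d, T (d * (afn β (e0 K)).c) = 0 → ∀ t, θ t = t →
      χ (r : K) * kv s * f (t * (afn β⁻¹ (Xd d)).d) = t * (afn β⁻¹ (Xd d)).d := fun d k t ht => by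
    obtain ⟨x, x3, xl, xd⟩ := qo_x (u3 d k) ht
    obtain ⟨mx, t', -, b1, b2, -, b3⟩ := bx d x xl
    simp only [UC] at b1 b2 b3
    have := (congQ β⁻¹ mx (afn_mem η mx) (by simp only [co _ mx, b1, b2, b3, mul_zero, and_self])).2.2.1
    rwa [afn_inv_afn _ x3.1, ← j3 x x3.1, j1 x x3, xd] at this
  obtain ⟨d₁, d₂, hw, t1, t2⟩ := Fld.two (afn β (e0 K)).c
  have hw' : wd (afn β⁻¹ (Xd d₁)).d (afn β⁻¹ (Xd d₂)).d ≠ 0 := fun k => by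
    by_cases z : (afn β⁻¹ (Xd d₁)).d = 0
    · obtain ⟨-, t, -, -, -, b, -⟩ := qo_li β (one_mem _) (u3 d₁ t1) z
      rw [afn_afn_inv _ (x := Xd d₁) rfl, (homOn_afn β).map_one] at b
      simp only [UC, hd] at b
      exact hw (by simp only [b, wd, map_zero, zero_mul, sub_zero])
    · obtain ⟨t, ht, e2⟩ := of_wd z k
      obtain ⟨x, x3, xl, xd⟩ := qo_x (u3 d₁ t1) ht
      obtain ⟨mx, t', ht', -, -, b1, -⟩ := bx d₁ x xl
      obtain ⟨-, t, -, -, -, b, -⟩ := qo_li β x3 (u3 d₂ t2) (e2.trans xd.symm)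
      rw [afn_afn_inv _ (x := Xd d₂) rfl, (mul_Q (inv_mem mx) _).2.2.1, (inv_Q mx).2.2.1, b1, hd,
        mul_zero, neg_add_eq_zero] at b
      exact hw ((show t' * d₁ = d₂ from b) ▸ wd_smul ht' d₁)
  obtain ⟨l1, f1⟩ := fix_two hw' (fx d₁ t1) (by simpa only [one_mul] using fx d₂ t2 1 θ1)
  have ub : afn β⁻¹ (b0 K) ∈ Z3 := H.uw h2 hβ hb hd b0_mem (map_zero θ) (zero_mul _).symm
    (zero_mul _).symm (by simp only [he, b0_co, UC])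
  obtain ⟨-, t, -, b, -⟩ := qo_li β ub (j2 _ ub) (by rw [j1 _ ub, l1, f1, one_mul])
  rw [j3 _ ub.1, afn_afn_inv _ b0_mem, afn_afn_inv _ (afn_mem η b0_mem),
    (mul_Q (inv_mem b0_mem) _).1, (inv_Q b0_mem).1, (co _ b0_mem).1, hb, b0_co.2.1] at b
  exact absurd (by linear_combination b) h3

/-- Suppose `c = (α e0).c ≠ 0` (else `SQ.of3`). `β = cQ (Xa a) * α` with `B a c = d` (`B_surj`) has `v = (0, c, 0, w)`. If `3 = 0`: `SQ.odd_a` with `α := β`, `l = 1`, `a := c`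
(`T_mul_χ`). Else if `w = 0`: `SQ.odd_w`. Else `α := rQ (hb m) * β`, `m = mkk 2 ..`, `l = 2`, vector `(0, 2 c, 0, w / 2)`; `univ` gives `a` with `T (χ c a) = 0`,
`T (χ a c) = w / 4 - w`; `SQ.odd_a`: `a = 0`, so `3 w = 0`. -/
theorem SQ.odd_b (H : SQ A₀ A) (h2 : (2 : K) ≠ 0) (hα : α ∈ A) (hb : (afn α (e0 K)).b = 0) : afn α (e0 K) ∈ Z2 := by
  have m := afn_mem α e0_mem
  refine H.of3 hα ⟨m, hb, by_contra fun hc => ?_⟩
  obtain ⟨a, ha⟩ := B_surj h2 hc (afn α (e0 K)).d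
  obtain ⟨a1, a2, a3, -⟩ := cjQ (Xa a) m
  rw [← afn_mul _ _ e0_mem] at a1 a2 a3
  simp only [UC, hb, B_comm a, ha, sub_self] at a1 a2 a3
  rw [← a2] at hc
  have hβ := mul_mem (H.cq (Xa a)) hα
  generalize cQ (Xa a) * α = β at a1 a3 hc hβ
  by_cases h3 : (3 : K) = 0
  · have k : T (χ (afn β (e0 K)).c * (afn β (e0 K)).c) = 0 := by
      rw [mul_comm, T_mul_χ, h3, zero_mul]
    exact hc (H.odd_a h2 hβ a1 a3 hc hβ a1 a3 θ1 (one_mul _).symm k (by rw [k]; ring) one_ne_zero)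
  by_cases he : (afn β (e0 K)).e = 0
  · exact hc (H.odd_w h2 h3 hβ a1 a3 he)
  obtain ⟨b1, b2, b3, b4⟩ := qo_hb h2 (afn_mem β e0_mem)
  rw [← afn_mul _ _ e0_mem] at b1 b2 b3 b4
  obtain ⟨x, x1, x2⟩ := univ h2 h3 hc
    (r := (2⁻¹ * (afn β (e0 K)).e - 2 * (afn β (e0 K)).e) / 2) (by simp only [TE])
  have := H.odd_a h2 hβ a1 a3 hc (mul_mem (H.res (H.hb _)) hβ) (by rw [b1, a1, mul_zero])
    (b3.trans a3) (map_ofNat θ 2) b2 x1 (by rw [b4, x2]; field_simp; ring) h2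
  simp only [this, UC] at x2
  field_simp at x2
  exact mul_ne_zero h3 he (by linear_combination x2)

/-- `SQ.odd_b` for `β⁻¹ * α`: `sf u e0 = u.b`, `afn_sf β`, `Z2_iff`. -/
theorem SQ.odd_perp (H : SQ A₀ A) (h2 : (2 : K) ≠ 0) (hα : α ∈ A) (hβ : β ∈ A) (h : sf (afn α (e0 K)) (afn β (e0 K)) = 0) :
    afn α (e0 K) ∈ Li (afn β (e0 K)) := by
  refine Z2_iff.1 (H.odd_b h2 (mul_mem (inv_mem hβ) hα) ?_)
  have := (afn_sf β⁻¹ (afn_mem α e0_mem) (afn_mem β e0_mem)).2 h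
  rw [afn_inv_afn _ e0_mem, ← afn_mul _ _ e0_mem] at this
  simpa only [sf, e0_co, UC] using this

/-- `b = (α e0).b ≠ 0` (`SQ.odd_b`); `β = cQ (Xa (c / b)) * α` has `v = (b, 0, d, e)`. For `v' = cQ (Xa a) v = (b, -b a, d + χ a b, e + N a b + T (a d))`:
`sf v' v = -b (b N a + 2 T (a d))`. If `d ≠ 0`, `exists_NT` (`κ = -2 / b`) gives `a ≠ 0` with `sf v' v = 0`, so `v' ∈ Li v` (`SQ.odd_perp`), `b a = 0`: absurd. So `d = 0`.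
`v'' = iv v = (b, 0, 0, -e)` comes from `rQ (iv K) * β ∈ A`; `sf v' v'' = -b (2 e + b N a)`; `exists_N` gives `a` with `N a = -2 e / b`, so `v' ∈ Li v''`, `a = 0`, `e = 0`. -/
theorem SQ.orb_odd (H : SQ A₀ A) (h2 : (2 : K) ≠ 0) : Orb A := by
  intro α hα hn
  have hb : (afn α (e0 K)).b ≠ 0 := fun k => hn (H.odd_b h2 hα k)
  refine ⟨(afn α (e0 K)).c / (afn α (e0 K)).b, ?_⟩
  obtain ⟨a1, a2, -⟩ := cjQ (Xa ((afn α (e0 K)).c / (afn α (e0 K)).b)) (afn_mem α e0_mem)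
  rw [← afn_mul _ _ e0_mem] at a1 a2
  simp only [UC, mul_div_cancel₀ _ hb, sub_self] at a2
  rw [← a1] at hb
  have hβ := mul_mem (H.cq (Xa ((afn α (e0 K)).c / (afn α (e0 K)).b))) hα
  generalize cQ (Xa ((afn α (e0 K)).c / (afn α (e0 K)).b)) * α = β at a2 hb hβ ⊢
  have m := afn_mem β e0_mem
  have key : ∀ a, ∀ γ ∈ A, (afn γ (e0 K)).c = 0 →
      sf (afn (cQ (Xa a)) (afn β (e0 K))) (afn γ (e0 K)) = 0 → a = 0 := fun a γ hγ c k => by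
    rw [← afn_mul _ _ e0_mem] at k
    obtain ⟨-, s, -, -, e, -⟩ := H.odd_perp h2 (mul_mem (H.cq _) hβ) hγ k
    rw [afn_mul _ _ e0_mem, (cjQ _ m).2.1, c, a2, mul_zero, zero_sub, neg_eq_zero] at e
    exact (mul_eq_zero.1 e).resolve_left hb
  have hd : (afn β (e0 K)).d = 0 := by_contra fun k => by
    obtain ⟨a, a0, ha⟩ := exists_NT h2 (κ := -2 / (afn β (e0 K)).b) (by simp only [TE])
      (div_ne_zero (neg_ne_zero.2 h2) hb) k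
    refine a0 (key a β hβ a2 ?_)
    simp only [sf, cjQ _ m, UC, a2, ha, neg_mul, T_neg, mul_assoc, T_smul (U.hb _)]
    field_simp
    ring
  obtain ⟨a, ha⟩ := exists_N (r := -2 * (afn β (e0 K)).e / (afn β (e0 K)).b) (by simp only [TE])
  have e : afn (rQ (D4F.iv K) * β) (e0 K) = D4F.iv K (afn β (e0 K)) := by
    rw [afn_mul _ _ e0_mem, afn_res _ m]
  have := key a _ (mul_mem (H.res H.iv) hβ) (by rw [e, (iv_co _).2.2.1, a2, neg_zero]) (by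
    simp only [e, sf, iv_co, cjQ _ m, UC, a2, hd, ha]
    field_simp
    ring)
  rw [this, N_zero, eq_comm, div_eq_zero_iff, mul_eq_zero] at ha
  exact mem_Li_b0.2 ⟨m, a2, hd, (ha.resolve_right hb).resolve_left (neg_ne_zero.2 h2)⟩

end Cfsg.Agent.D4F
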