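import Cfsg.Agent.D4F.Fin
import Cfsg.Agent.D4F.Ess
import Cfsg.Agent.D4F.Q0

/-! The automizers of a saturated fusion system satisfy `SQ` and `SR`. -/

set_option autoImplicit false
set_option linter.unusedSectionVars false

namespace Cfsg.Agent.D4F

open Subgroup Cfsg.Agent.RFS Cfsg.Agent.U5F Cfsg.Agent.Fus Cfsg.FusionSystem Cfsg.Agent.SpF

variable {K : Type*} [Field K] [Tri K] {F : FusionSystem (⊤ : Subgroup (U K))}

/-- Let `P = Qs ⊔ zpowers g`. As in `U5F.lc_AS.ext`: `P ≤ Fus.Nf ⊤ Qs (afn α)` (`Qs`: `aut_conj`, `inn_le_Tn`, `Tn_eq`, `mem_Nf_afn`; `g`: `h`), so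
`sat_extend_of_centric` gives `f` with `IsMap F P f` extending `afn α`. `alperin_induction pT hF` with `M f := ∃ φ ∈ AS F, ∀ x ∈ P, f x = φ x`:
in the step `R = ⊤` (`exists_AS`, compose), since `R = Qs` gives `φ g ∈ Qs`, so `g ∈ Qs` (`chr_mem φ⁻¹`), and `R = Rs` gives `b0 = φ (φ⁻¹ b0) ∈ Rs`
(`D4F.ess_QR`). Then `aut_ext`, `afn_res`. -/
theorem ti_of (hF : F.IsSaturated (Tri.p K)) (hE : F.IsEssential (Tri.p K) Qs) {α : MulAut (Qs : Subgroup (U K))}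
    (hα : α ∈ F.autGroup Qs) {g : U K} (hg : g ∉ Qs) (h : α * cQ g * α⁻¹ ∈ Tn Qs) : ∃ φ ∈ AS F, rQ φ = α := by
  have k : ∀ s, α * cQ s * α⁻¹ ∈ U5F.Tn Qs → s ∈ Fus.Nf ⊤ Qs (afn α) := fun s hs => by
    have n : s ∈ normalizerIn ⊤ (Qs : Subgroup (U K)) :=
      mem_normalizerIn_of_conj trivial fun _ hx => Normal.conj_mem inferInstance _ hx s
    rw [U5F.Tn_eq, show cQ s = conjAut Qs s n.2 from
      aut_ext fun x hx => (afn_cQ s hx).trans (afn_conjAut _ hx).symm] at hs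
    exact mem_Nf_afn n hs
  obtain ⟨f, hf, e⟩ := sat_extend_of_centric (R := Qs ⊔ zpowers g) D4F.pT hF ((mem_autGroup le_top).1 hα) hE.1
    (sup_le (fun s hs => k s ⟨afn α s, (U5F.aut_conj α hs).symm⟩) (zpowers_le.2 (k g h)))
  obtain ⟨φ, h1, h2⟩ := alperin_induction D4F.pT hF (M := fun f => ∃ φ ∈ AS F, ∀ x ∈ Qs ⊔ zpowers g, f x = φ x)
    (fun f e => ⟨1, one_mem _, e⟩) (by
      rintro f f' f'' R - ⟨φ, h1, h2⟩ hR h3 - h4 h5
      have m : ∀ L : Subgroup (U K), L.Characteristic → R = L → ∀ x ∈ Qs ⊔ zpowers g, x ∈ L := fun L _ e x hx => by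
        have := U5F.chr_mem φ⁻¹ (e ▸ h2 x hx ▸ h4 x hx : φ x ∈ L)
        rwa [MulAut.inv_apply_self] at this
      rcases hR with rfl | hR
      · obtain ⟨ψ, a1, a2⟩ := exists_AS h3
        exact ⟨ψ * φ, mul_mem a1 h1, fun x hx => by rw [h5 x hx, h2 x hx, ← a2]; rfl⟩
      rcases D4F.ess_QR hF hR with e | e
      · exact absurd (m _ inferInstance e g (mem_sup_right (mem_zpowers g))) hg
      · exact absurd (m _ inferInstance e _ (mem_sup_left b0_mem)) one_ne_zero) hf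
  exact ⟨φ, h1, aut_ext fun x hx => (U5F.afn_res φ hx).trans ((h2 x (mem_sup_left hx)).symm.trans (e x hx))⟩

theorem sq_of (H : D4F.Nf F) (hE : F.IsEssential (Tri.p K) Qs) (hb : ∀ s, hb s ∈ AS F) : SQ (AS F) (F.autGroup Qs) :=
  ⟨sa_AS D4F.pT H.sat, H.form, lc_AS D4F.pT H.sat hE, fun _ hα _ hg h => ti_of H.sat hE hα hg h, hb⟩

theorem sr_of (H : D4F.Nf F) (hE : F.IsEssential (Tri.p K) Rs) : SR (AS F) (F.autGroup Rs) :=
  ⟨sa_AS D4F.pT H.sat, H.form, lc_AS D4F.pT H.sat hE⟩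

end Cfsg.Agent.D4F
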