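import Cfsg.Agent.D4F.QE
import Cfsg.Agent.D4F.QO

/-! The conjugate of `Z3` belonging to `Li b0`. -/

set_option autoImplicit false
set_option linter.unusedSectionVars false

namespace Cfsg.Agent.D4F

open Subgroup Cfsg.Agent.RFS Cfsg.Agent.U5F Cfsg.Agent.Fus

variable {K : Type*} [Field K] [Tri K] {A₀ : Subgroup (MulAut (U K))} {A : Subgroup (MulAut (Qs : Subgroup (U K)))}
  {α β μ σ : MulAut (Qs : Subgroup (U K))} {u v w y : U K}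

theorem SQ.orb (H : SQ A₀ A) : Orb A := (eq_or_ne (2 : K) 0).elim H.orb_two H.orb_odd

theorem qu_n (h : afn μ (e0 K) ∈ Li (b0 K)) : afn μ (e0 K) ∉ Z2 := fun k =>
  e0_not μ ⟨k.1, k.2.1, k.2.2.1, k.2.2.2, (mem_Li_b0.1 h).2.2.2⟩

/-- If `d ≠ 0`, then for `d' ≠ 0` `SQ.trans_d` (`β = μ`; `μ e0 ∉ Z2` by `e0_not`, `mem_Li_b0`), `SQ.keepU`, `co_form` give `(0, 0, s t d', 0) ∈ U = μ Z3`, so `Xd d' ∈ U` (`Li3`);
`Xd 0 = 1`. Against `SQ.not_all_d`. -/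
theorem SQ.two_d (H : SQ A₀ A) (h2 : (2 : K) = 0) (hμ : μ ∈ A) (h : afn μ (e0 K) ∈ Li (b0 K)) (hy : y ∈ Qs) (h3 : afn μ⁻¹ y ∈ Z3)
    (hb : y.b = 0) (hc : y.c = 0) (he : y.e = 0) : y.d = 0 := by
  by_contra hd
  refine H.not_all_d (H.orb_two h2) hμ h fun d' => ?_
  by_cases hd' : d' = 0
  · exact Li3 μ hy h3 ⟨rfl, 0, map_zero _, by simp only [UC, hd', and_self]⟩
  obtain ⟨g, r, s, f, t, hA, ht, t0, e, k⟩ := H.trans_d h2 hμ (qu_n h) hd hd'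
  obtain ⟨ga, kp⟩ := H.keepU hμ h hA k
  obtain ⟨c1, c2, -, -, -, c6⟩ := co_form g r s f hy
  obtain ⟨c3, c4⟩ := c6 ga
  have s0 := kv_ne s
  refine Li3 μ (afn_mem _ hy) (kp y hy h3) ⟨rfl, (kv s * t)⁻¹, by rw [map_inv₀, map_mul, θkv, ht], ?_⟩
  rw [c1, c2, c3, c4, mul_right_comm _ (kv s) (f y.d), e]
  simp only [UC, hb, hc, he, map_zero, true_and, and_true]
  field_simp

/-- `SQ.trans2` (`a = y.c`, `a' = c`), `SQ.keepU`, `co_form`: `(0, s c, χ r s f y.d, 0) ∈ U`; scale by `s⁻¹` (`Li3`). -/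
theorem SQ.two_c (H : SQ A₀ A) (h2 : (2 : K) = 0) (hμ : μ ∈ A) (h : afn μ (e0 K) ∈ Li (b0 K)) (hy : y ∈ Qs) (h3 : afn μ⁻¹ y ∈ Z3)
    (hb : y.b = 0) (hc : y.c ≠ 0) (he : y.e = 0) {c : K} (h0 : c ≠ 0) :
    ∃ d, (y.d = 0 → d = 0) ∧ afn μ⁻¹ (Xr 0 c d) ∈ Z3 := by
  obtain ⟨g, r, s, f, hA, e, k⟩ := H.trans2 h2 hμ (qu_n h) hc h0
  obtain ⟨ga, kp⟩ := H.keepU hμ h hA k
  obtain ⟨c1, c2, -, -, -, c6⟩ := co_form g r s f hy
  obtain ⟨c3, c4⟩ := c6 ga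
  have s0 := kv_ne s
  refine ⟨χ (r : K) * f y.d, fun z => by rw [z, map_zero, mul_zero],
    Li3 μ (afn_mem _ hy) (kp y hy h3) ⟨rfl, (kv s)⁻¹, by rw [map_inv₀, θkv], ?_⟩⟩
  rw [c1, c2, c3, c4, mul_right_comm _ (kv s) (f y.c), e]
  simp only [UC, Xr_co, hb, he, map_zero, true_and, and_true]
  constructor <;> field_simp

/-- `U = μ Z3` is closed under products (`afn_map_mul`, `mul_Q`) and lines (`Li3`), has `e = 0` and contains `Li b0` (`mem3`, `Li3`, `Li_symm`). Some `y ∈ U` has `c ≠ 0`: else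
`Xd 1 ∈ U` (`mem3`), against `SQ.two_d`; multiply by `Xb` to get `b = 0`. So for all `c` there is `φ c` with `Xr 0 c (φ c) ∈ U` (`SQ.two_c`), unique (`SQ.two_d` for the quotient), hence additive and
`k`-homogeneous, `T (c φ c) = 0` (`sing3`). `alt_ker`: `φ x = 0`, `x ≠ 0`; `SQ.two_c`: all `Xr 0 c 0 ∈ U`. So `y ∈ U` has `T (c y.d) = 0` for all `c` (`mem3`). `←`: `mem3` and `→`. -/
theorem SQ.uinf_two (H : SQ A₀ A) (h2 : (2 : K) = 0) (hμ : μ ∈ A) (h : afn μ (e0 K) ∈ Li (b0 K)) (hy : y ∈ Qs) :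
    afn μ⁻¹ y ∈ Z3 ↔ y.d = 0 ∧ y.e = 0 := by
  obtain ⟨v1, v2, v3, v4⟩ := mem_Li_b0.1 h
  have E : ∀ y ∈ (Qs : Subgroup (U K)), afn μ⁻¹ y ∈ Z3 → y.e = 0 := fun y hy k => by
    have k3 := (mem3 μ hy).1 k _ (afn_mem μ e0_mem) (qi_v μ)
    simp only [sf, v2, v3, v4, UC, neg_eq_zero, mul_eq_zero] at k3
    exact k3.resolve_left fun e => e0_not μ ⟨v1, e, v2, v3, v4⟩
  have M : ∀ u ∈ (Qs : Subgroup (U K)), ∀ v ∈ (Qs : Subgroup (U K)), afn μ⁻¹ u ∈ Z3 → afn μ⁻¹ v ∈ Z3 →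
      afn μ⁻¹ (u * v) ∈ Z3 := fun u hu v hv a b => by
    rw [afn_map_mul _ hu hv]; exact mul_mem a b
  have z0 : afn μ⁻¹ (Xr (0 : K) 0 0) ∈ Z3 :=
    Li3 μ (afn_mem μ e0_mem) (qi_v μ) ⟨rfl, 0, map_zero _, by simp only [UC, Xr_co, and_self]⟩
  obtain ⟨x, hx, x3, xc⟩ : ∃ x ∈ (Qs : Subgroup (U K)), afn μ⁻¹ x ∈ Z3 ∧ x.c ≠ 0 := by
    by_contra! c
    exact one_ne_zero (H.two_d h2 hμ h (y := Xd 1) rfl ((mem3 μ (u := Xd 1) rfl).2 fun y hy k => by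
      simp only [sf, UC, c y hy k]) rfl rfl rfl)
  have ex : ∀ c, ∃ d, afn μ⁻¹ (Xr (0 : K) c d) ∈ Z3 := fun c => by
    by_cases h0 : c = 0
    · exact ⟨0, h0 ▸ z0⟩
    have q : Xb (-x.b) (by rw [map_neg, x.hb]) ∈ (Qs : Subgroup (U K)) := rfl
    have m := M _ hx _ q x3 (Li3 μ (afn_mem μ e0_mem) (qi_v μ)
      (Li_le (Li_symm h b0_mem (e0_not μ)) (mem_Li_b0.2 ⟨rfl, rfl, rfl, rfl⟩)))
    obtain ⟨d, -, k⟩ := H.two_c h2 hμ h (mul_mem hx q) m (by rw [(mul_Q hx _).1]; exact add_neg_cancel _)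
      (by rw [(mul_Q hx _).2.1]; exact (add_zero x.c).symm ▸ xc) (E _ (mul_mem hx q) m) h0
    exact ⟨d, k⟩
  choose φ hφ using ex
  have un : ∀ y ∈ (Qs : Subgroup (U K)), afn μ⁻¹ y ∈ Z3 → y.b = 0 → φ y.c = y.d := fun y hy k b => by
    have q : Xr 0 y.c (φ y.c) ∈ (Qs : Subgroup (U K)) := rfl
    have m := M _ (inv_mem hy) _ q (by rw [afn_map_inv _ hy]; exact inv_mem k) (hφ _)
    have := H.two_d h2 hμ h (mul_mem (inv_mem hy) q) m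
      (by simp only [mul_Q (inv_mem hy), inv_Q hy, Xr_co, b, neg_zero, add_zero])
      (by simp only [mul_Q (inv_mem hy), inv_Q hy, Xr_co, neg_add_cancel]) (E _ (mul_mem (inv_mem hy) q) m)
    simp only [mul_Q (inv_mem hy), inv_Q hy, Xr_co] at this
    linear_combination this
  obtain ⟨x', x0, x1⟩ := alt_ker h2 (φ := φ) (fun a b => by
      have := un (Xr 0 a (φ a) * Xr 0 b (φ b)) (mul_mem rfl rfl) (M _ rfl _ rfl (hφ a) (hφ b))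
        (by simp only [UC, Xr_co])
      simpa only [UC, Xr_co] using this)
    (fun r a hr => un (Xr 0 (r * a) (r * φ a)) rfl
      (Li3 μ (v := Xr 0 a (φ a)) rfl (hφ a) ⟨rfl, r, hr, by simp only [Xr_co, mul_zero, and_self]⟩) rfl)
    (fun a => by simpa only [UC, Xr_co] using sing3 h2 μ (u := Xr 0 a (φ a)) rfl (hφ a))
  have al : ∀ c, afn μ⁻¹ (Xr (0 : K) c 0) ∈ Z3 := fun c => by
    by_cases h0 : c = 0
    · exact h0 ▸ z0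
    obtain ⟨d, a, k⟩ := H.two_c h2 hμ h (y := Xr 0 x' (φ x')) rfl (hφ x') rfl x0 rfl h0
    exact a x1 ▸ k
  have k : ∀ y ∈ (Qs : Subgroup (U K)), afn μ⁻¹ y ∈ Z3 → y.d = 0 ∧ y.e = 0 := fun y hy k =>
    ⟨eq_zero_of_T fun c => by
      simpa only [sf, UC, Xr_co, mul_comm c] using (mem3 μ (u := Xr 0 c 0) rfl).1 (al c) y hy k, E y hy k⟩
  refine ⟨k y hy, fun a => (mem3 μ hy).2 fun y' hy' b => ?_⟩
  simp only [sf, a, k y' hy' b, UC]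

theorem SQ.uinf (H : SQ A₀ A) (hμ : μ ∈ A) (h : afn μ (e0 K) ∈ Li (b0 K)) (hy : y ∈ Qs) : afn μ⁻¹ y ∈ Z3 ↔ y.d = 0 ∧ y.e = 0 :=
  (eq_or_ne (2 : K) 0).elim (fun h2 => H.uinf_two h2 hμ h hy) fun h2 => H.uinf_odd h2 hμ h hy

end Cfsg.Agent.D4F
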