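import Cfsg.Agent.D4F.QU

/-! The opposite root group lies in the automizer of `Q` modulo `OQ`. -/

set_option autoImplicit false
set_option linter.unusedSectionVars false

namespace Cfsg.Agent.D4F

open Subgroup Cfsg.Agent.RFS Cfsg.Agent.U5F Cfsg.Agent.Fus

variable {K : Type*} [Field K] [Tri K] {A₀ : Subgroup (MulAut (U K))} {A : Subgroup (MulAut (Qs : Subgroup (U K)))}
  {α β μ σ : MulAut (Qs : Subgroup (U K))} {u v w y : U K}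

/-- The points of the orbit. `afn (cQ (Xa a)) b0 = (1, -a, χ a, N a)` (`cjQ`). -/
def Pt (v : U K) : Prop := v ∉ Z1 ∧ (v ∈ Z2 ∨ ∃ a, v ∈ Li (afn (cQ (Xa a)) (b0 K)))

theorem qw_co (a : K) : (afn (cQ (Xa a)) (b0 K)).b = 1 ∧ (afn (cQ (Xa a)) (b0 K)).c = -a ∧
    (afn (cQ (Xa a)) (b0 K)).d = χ a ∧ (afn (cQ (Xa a)) (b0 K)).e = N a := by
  simp only [cjQ _ (b0_mem (K := K)), b0_co, UC, and_self]

theorem qw_li {a : K} : v ∈ Li (afn (cQ (Xa a)) (b0 K)) ↔ v ∈ Qs ∧ v.c = -(v.b * a) ∧ v.d = v.b * χ a ∧ v.e = v.b * N a := by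
  simp only [mem_Li, qw_co, mul_one, mul_neg]
  exact and_congr_right fun _ => ⟨fun ⟨_, _, h, k⟩ => h ▸ k, fun k => ⟨v.b, v.hb, rfl, k⟩⟩

theorem Pt.mem (h : Pt v) : v ∈ Qs := h.2.elim (fun k => k.1) fun ⟨_, k⟩ => k.1

theorem qw_pt (a : K) : Pt (afn (cQ (Xa a)) (b0 K)) :=
  ⟨fun h => one_ne_zero ((qw_co a).1.symm.trans h.2.1), .inr ⟨a, Li_self (afn_mem _ b0_mem)⟩⟩

/-- `v ∈ Li (γ e0)` for some `γ ∈ A` (`γ = 1`, `Li_e0`; or `γ = cQ (Xa a) * μ` with `μ` from `SQ.swap H H.orb`, `Li_symm`, `afn_Li`, `Li_le`), so `α v ∈ Li ((α γ) e0)`; if `(α γ) e0 ∉ Z2`,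
`H.orb` gives `a'` with `(α γ) e0 ∈ Li (cQ (Xa (-a')) b0)` (`Xa (-a') * Xa a' = 1`). `afn_Z1`. -/
theorem SQ.pt (H : SQ A₀ A) (hα : α ∈ A) (h : Pt v) : Pt (afn α v) := by
  obtain ⟨γ, hγ, k⟩ : ∃ γ ∈ A, v ∈ Li (afn γ (e0 K)) := by
    rcases h.2 with k | ⟨a, k⟩
    · exact ⟨1, one_mem _, by rwa [afn_one, Li_e0]⟩
    · obtain ⟨μ, hμ, h1, -⟩ := H.swap H.orb
      refine ⟨cQ (Xa a) * μ, mul_mem (H.cq _) hμ, Li_le ?_ k⟩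
      rw [afn_mul _ _ e0_mem]
      exact afn_Li _ (afn_mem _ e0_mem) (Li_symm h1 b0_mem (e0_not μ))
  have k' := afn_Li α (afn_mem γ e0_mem) k
  rw [← afn_mul _ _ e0_mem] at k'
  refine ⟨fun c => h.1 ((afn_Z1 α h.mem).1 c), ?_⟩
  by_cases c : afn (α * γ) (e0 K) ∈ Z2
  · rw [← Li_e0] at c ⊢
    exact .inl (Li_le c k')
  · obtain ⟨a, ha⟩ := H.orb _ (mul_mem hα hγ) c
    refine .inr ⟨-a, Li_le ?_ k'⟩
    have e : Xa (-a) * Xa a = 1 := by ext <;> simp only [UC, neg_add_cancel]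
    have := afn_Li (cQ (Xa (-a))) b0_mem ha
    rwa [← afn_mul _ _ e0_mem, ← mul_assoc, ← map_mul, ← map_mul, e, map_one, map_one, one_mul] at this

/-- `ω (b, c, d, e) = (-e, -d, c, b)`: `ω Z2 ⊆ Li b0` (`a = 0`), `ω (Li b0) ⊆ Z2`, and `ω (s (1, -a, χ a, N a)) = -s N a (1, a⁻¹, χ (-a⁻¹), N (-a⁻¹))` for `a ≠ 0`
(`mul_χ`; `χ a⁻¹ = a / N a`). -/
theorem pt_ω (h : Pt v) : Pt (afn (ωQ K) v) := by
  refine ⟨fun c => h.1 ((afn_Z1 _ h.mem).1 c), ?_⟩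
  rw [afn_ωQ h.mem]
  rcases h.2 with k | ⟨a, k⟩
  · refine .inr ⟨0, qw_li.2 ⟨rfl, ?_⟩⟩
    simp only [ω, UC, k.2.1, k.2.2.1, k.2.2.2, and_self]
  · obtain ⟨-, k1, k2, k3⟩ := qw_li.1 k
    by_cases c : a = 0
    · left
      simp only [mem_Z2, ω, k1, k2, k3, c, UC, and_self]
    · refine .inr ⟨-a⁻¹, qw_li.2 ⟨rfl, ?_⟩⟩
      have h1 := θ_ne_zero c
      have h2 := θ_ne_zero h1
      simp only [ω, k1, k2, k3, TE]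
      refine ⟨?_, ?_, ?_⟩ <;> field_simp

/-- `(ωQ K)⁻¹ = ωQ K * ωQ K * ωQ K` (`ω4`). -/
theorem pt_ω' (h : Pt v) : Pt (afn (ωQ K)⁻¹ v) := by
  have e : afn (ωQ K)⁻¹ v = afn (ωQ K) (afn (ωQ K) (afn (ωQ K) v)) := by
    rw [afn_ωQ h.mem, afn_ωQ (ω_mem _), afn_ωQ (ω_mem _), afn_apply _ h.mem]
    rfl
  rw [e]
  exact pt_ω (pt_ω (pt_ω h))

/-- `mem_St`, `afn_cQ`, `com_Z1`, `cm_S_Z2`, `cm_S_Z3`, `cm_S_Z4`, `cm_S_S` (or `cjQ` and `dv_*`). -/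
theorem cQ_St (g : U K) : cQ g ∈ St Qs [Z1, Z2, Z3, Z4] := by
  have k : ∀ (L M : Subgroup (U K)) [L.Normal] [M.Normal] (x : U K), x ∈ M → cm g x ∈ L →
      g * x * g⁻¹ ∈ M ∧ x⁻¹ * (g * x * g⁻¹) ∈ L := fun L M hL hM x hx h =>
    ⟨hM.conj_mem x hx g, by simpa [cm, mul_assoc] using hL.conj_mem _ h x⁻¹⟩
  intro i x hx h
  rw [afn_cQ g hx]
  rcases i with _ | _ | _ | _ | _ | i
  · exact k ⊥ Z1 x h (cm_eq_one.2 (com_Z1 g h))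
  · exact k Z1 Z2 x h (cm_S_Z2 g h)
  · exact k Z2 Z3 x h (cm_S_Z3 g h)
  · exact k Z3 Z4 x h (cm_S_Z4 g h)
  · exact k Z4 ⊤ x h (cm_S_S g x)
  · exact ⟨trivial, trivial⟩

/-- The elements whose coordinates modulo `Z1` are fixed. -/
def qwF (σ : MulAut (Qs : Subgroup (U K))) : Subgroup (U K) where
  carrier := {x | x ∈ Qs ∧ (afn σ x).b = x.b ∧ (afn σ x).c = x.c ∧ (afn σ x).d = x.d ∧ (afn σ x).e = x.e}
  one_mem' := ⟨one_mem _, by rw [(homOn_afn σ).map_one]; exact ⟨rfl, rfl, rfl, rfl⟩⟩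
  mul_mem' {x y} hx hy := ⟨mul_mem hx.1 hy.1, by
    rw [afn_map_mul σ hx.1 hy.1]
    simp only [mul_Q hx.1, mul_Q (afn_mem σ hx.1), hx.2, hy.2, and_self]⟩
  inv_mem' {x} hx := ⟨inv_mem hx.1, by
    rw [afn_map_inv σ hx.1]
    simp only [inv_Q hx.1, inv_Q (afn_mem σ hx.1), hx.2, and_self]⟩

/-- `Fx = {x ∈ Qs | σ x and x have the same b, c, d, e}` is a subgroup (`mul_Q`, `inv_Q`) containing `Z2` (`mem_St` at `1`); `σ` keeps `b` on `Qs` (at `4`) and `c` on `Z4` (at `3`). `Xb x ∈ Fx`: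
`σ (Xb x) ∈ Li (σ b0) ≤ Li b0`. `y = cQ (Xa a) b0 ∈ Fx`: `σ y` is a point with `b = 1`, so `σ y = (1, -a', χ a', N a')`, and `b0⁻¹ * y ∈ Z4` gives `(σ y).c = -a`. So
`Xr 0 (-a) (χ a) ∈ Fx`; `χ_add` gives `Xd (B a a') ∈ Fx`, `B_span` all `Xd d`, then all `Xc c`, then all of `Qs` (`decomp`, `Xa 0 = 1`); `mem_OQ`. -/
theorem OQ_of_pt (h : σ ∈ St Qs [Z1, Z2, Z3, Z4]) (h1 : ∀ v, Pt v → Pt (afn σ v)) (h2 : afn σ (b0 K) ∈ Li (b0 K)) : σ ∈ OQ K := by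
  have z2 : ∀ x ∈ Z2, x ∈ qwF σ := fun x hx => ⟨hx.1, (dv_Z1 hx.1 (afn_mem σ hx.1)).1 (h 1 x hx.1 hx).2⟩
  have cg : ∀ u ∈ qwF σ, ∀ v ∈ Qs, v.b = u.b → v.c = u.c → v.d = u.d → v ∈ qwF σ := fun u hu v hv a b c => by
    rw [← mul_inv_cancel_left u v]
    refine mul_mem hu (z2 _ ⟨mul_mem (inv_mem hu.1) hv, ?_⟩)
    simp only [mul_Q (inv_mem hu.1), inv_Q hu.1, a, b, c, neg_add_cancel, and_self]
  have hb : ∀ x ∈ Qs, (afn σ x).b = x.b := fun x hx => (dv_Z4.1 (h 4 x hx trivial).2).2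
  have hc : ∀ x ∈ Z4, (afn σ x).c = x.c := fun x hx =>
    ((dv_Z3 hx.2 (h 3 x hx.1 hx).1.2).1 (h 3 x hx.1 hx).2).2
  have xb : ∀ x ∈ Li (b0 K), x ∈ qwF σ := fun x hx => by
    have a := mem_Li_b0.1 hx
    have b := mem_Li_b0.1 (Li_le h2 (afn_Li σ b0_mem hx))
    exact ⟨hx.1, hb x hx.1, b.2.1.trans a.2.1.symm, b.2.2.1.trans a.2.2.1.symm, b.2.2.2.trans a.2.2.2.symm⟩
  have b0F := xb _ (Li_self b0_mem)
  have xy : ∀ a, afn (cQ (Xa a)) (b0 K) ∈ qwF σ := fun a => by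
    obtain ⟨c1, c2, c3, c4⟩ := qw_co a
    have p := qw_pt a
    generalize afn (cQ (Xa a)) (b0 K) = y at *
    have m := p.mem
    have e1 := hb y m
    obtain ⟨a', k⟩ := (h1 y p).2.resolve_left fun c => one_ne_zero (c1.symm.trans (e1.symm.trans c.2.1))
    obtain ⟨-, k1, k2, k3⟩ := qw_li.1 k
    have e2 := hc _ (dv_Z4.2 ⟨(mem_Qs.1 m).trans b0_co.1.symm, c1.trans b0_co.2.1.symm⟩)
    rw [afn_dv σ b0_mem m, (mul_Q (inv_mem (afn_mem σ b0_mem)) _).2.1, (mul_Q (inv_mem b0_mem) _).2.1,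
      (inv_Q (afn_mem σ b0_mem)).2.1, (inv_Q b0_mem).2.1, b0F.2.2.1, add_right_inj] at e2
    rw [e1, c1, one_mul] at k1 k2 k3
    obtain rfl : a = a' := neg_injective (c2.symm.trans (e2.symm.trans k1))
    exact ⟨m, e1, e2, k2.trans c3.symm, k3.trans c4.symm⟩
  have xr : ∀ a, Xr 0 (-a) (χ a) ∈ qwF σ := fun a =>
    cg _ (mul_mem (inv_mem b0F) (xy a)) _ rfl (by simp only [UC, qw_co, b0_co, Xr_co, neg_add_cancel])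
      (by simp only [UC, qw_co, b0_co, Xr_co]) (by simp only [UC, qw_co, b0_co, Xr_co])
  have xB : ∀ a a', Xd (B a a') ∈ qwF σ := fun a a' =>
    cg _ (mul_mem (mul_mem (inv_mem (xr a)) (inv_mem (xr a'))) (xr (a + a'))) _ rfl (by simp only [UC, Xr_co])
      (by simp only [UC, Xr_co]; ring) (by simp only [UC, Xr_co, χ_add]; ring)
  have xd : ∀ d, Xd d ∈ qwF σ := fun d => by
    obtain ⟨a, a', c, c', rfl⟩ := B_span d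
    exact cg _ (mul_mem (xB a c) (xB a' c')) _ rfl (by simp only [UC]) (by simp only [UC]) (by simp only [UC])
  refine mem_OQ.2 fun x hx => (cg _ (mul_mem (mul_mem (xb (Xb x.b x.hb) (mem_Li_b0.2 ⟨rfl, rfl, rfl, rfl⟩)) (xr (-x.c)))
    (xd (x.d - χ (-x.c)))) x hx (by simp only [UC, Xr_co]) (by simp only [UC, Xr_co]) ?_).2
  simp only [UC, Xr_co]
  ring

/-- `μ` from `SQ.swap H H.orb`, `ν = ωQ⁻¹ * μ`. `ν e0 ∈ Z2`, `ν b0 ∈ Li b0` (`afn_ωQ_inv`), so `ν⁻¹ e0 ∈ Z2`, `ν⁻¹ b0 ∈ Li b0` (`Li_symm`, `afn_Li ν⁻¹`); `ν` and `ν⁻¹` keep `Z1, Z2, Z4` (`afn_Z1`,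
`keep_Z2`, `keep_Z4`), and `ν⁻¹ y = μ⁻¹ (ω y) ∈ Z3 ↔ y ∈ Z3` (`SQ.uinf`): `St_conj` applies to `ν`. `v = cQ (Xa a) b0` is a point, `ν⁻¹ v = μ⁻¹ (ω v)` is a point outside `Z2`:
`ν⁻¹ v ∈ Li (cQ (Xa a') b0)`. `σ = (cQ (Xa a))⁻¹ * (ν * cQ (Xa a') * ν⁻¹)` satisfies `OQ_of_pt` (`SQ.pt`, `pt_ω`, `pt_ω'`; `σ = (cQ _)⁻¹ * ωQ⁻¹ * t * ωQ`, `t = μ * cQ (Xa a') * μ⁻¹`), and
`t⁻¹ * (ωQ * cQ (Xa a) * ωQ⁻¹) = ωQ * σ⁻¹ * ωQ⁻¹`. -/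
theorem SQ.exists_y (H : SQ A₀ A) (a : K) : ∃ t ∈ A, t⁻¹ * (ωQ K * cQ (Xa a) * (ωQ K)⁻¹) ∈ OQ K := by
  obtain ⟨μ, hμ, m1, m2⟩ := H.swap H.orb
  obtain ⟨ν, hν⟩ : ∃ ν, ν = (ωQ K)⁻¹ * μ := ⟨_, rfl⟩
  have iν : ∀ y ∈ Qs, afn ν⁻¹ y = afn μ⁻¹ (afn (ωQ K) y) := fun y hy => by rw [hν, mul_inv_rev, inv_inv, afn_mul _ _ hy]
  have n1 : afn ν (e0 K) ∈ Z2 := by
    obtain ⟨a1, a2, a3, -⟩ := afn_ωQ_inv (afn_mem μ e0_mem)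
    obtain ⟨-, b1, b2, b3⟩ := mem_Li_b0.1 m1
    rw [hν, afn_mul _ _ e0_mem]
    exact ⟨afn_mem _ (afn_mem μ e0_mem), a1.trans b3, a2.trans b2, by rw [a3, b1, neg_zero]⟩
  have n2 : afn ν (b0 K) ∈ Li (b0 K) := by
    obtain ⟨-, a2, a3, a4⟩ := afn_ωQ_inv (afn_mem μ b0_mem)
    rw [hν, afn_mul _ _ b0_mem]
    exact mem_Li_b0.2 ⟨afn_mem _ (afn_mem μ b0_mem), a2.trans m2.2.2.2, by rw [a3, m2.2.2.1, neg_zero],
      by rw [a4, m2.2.1, neg_zero]⟩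
  have n3 := qx_inv n1
  have n4 : afn ν⁻¹ (b0 K) ∈ Li (b0 K) := by
    have := afn_Li ν⁻¹ (afn_mem ν b0_mem) (Li_symm n2 b0_mem fun c => one_ne_zero ((afn_Z1 ν b0_mem).1 c).2.1)
    rwa [afn_inv_afn _ b0_mem] at this
  have st : ∀ i, ∀ x ∈ Qs, x ∈ [Z1, Z2, Z3, Z4].getD i ⊤ ↔ afn ν x ∈ [Z1, Z2, Z3, Z4].getD i ⊤ := fun i x hx => by
    rcases i with _ | _ | _ | _ | i
    · exact (afn_Z1 ν hx).symm
    · exact ⟨keep_Z2 n1, fun k => afn_inv_afn ν hx ▸ keep_Z2 n3 k⟩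
    · have m := afn_mem ν hx
      have := H.uinf hμ m1 (afn_mem (ωQ K) m)
      rw [← iν _ m, afn_inv_afn _ hx, afn_ωQ m] at this
      exact this.trans ⟨fun k => ⟨m, k.2, k.1⟩, fun k => ⟨k.2.2, k.2.1⟩⟩
    · exact ⟨keep_Z4 n1, fun k => afn_inv_afn ν hx ▸ keep_Z4 n3 k⟩
    · exact ⟨fun _ => trivial, fun _ => trivial⟩
  have p := qw_pt a
  have p' : Pt (afn ν⁻¹ (afn (cQ (Xa a)) (b0 K))) := iν _ p.mem ▸ H.pt (inv_mem hμ) (pt_ω p)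
  obtain ⟨a', k⟩ := p'.2.resolve_left fun c => by
    have := keep_Z2 n1 c
    rw [afn_afn_inv _ p.mem] at this
    exact one_ne_zero ((qw_co a).1.symm.trans this.2.1)
  have ht : μ * cQ (Xa a') * μ⁻¹ ∈ A := mul_mem (mul_mem hμ (H.cq _)) (inv_mem hμ)
  have e : (cQ (Xa a))⁻¹ * (ν * cQ (Xa a') * ν⁻¹) = (cQ (Xa a))⁻¹ * ((ωQ K)⁻¹ * (μ * cQ (Xa a') * μ⁻¹ * ωQ K)) := by
    rw [hν]; group
  have o : (cQ (Xa a))⁻¹ * (ν * cQ (Xa a') * ν⁻¹) ∈ OQ K := by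
    refine OQ_of_pt (mul_mem (inv_mem (cQ_St _)) (St_conj st (cQ_St _))) (fun v hv => ?_) ?_
    · rw [e, afn_mul _ _ hv.mem, afn_mul _ _ hv.mem, afn_mul _ _ hv.mem]
      exact H.pt (inv_mem (H.cq _)) (pt_ω' (H.pt ht (pt_ω hv)))
    · have k1 := Li_le (Li_symm k (afn_mem _ b0_mem) p'.1) (afn_Li (cQ (Xa a')) b0_mem n4)
      have k2 := afn_Li ν p'.mem k1
      rw [afn_afn_inv _ p.mem] at k2
      have k3 := afn_Li (cQ (Xa a))⁻¹ p.mem k2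
      rw [afn_inv_afn _ b0_mem] at k3
      rwa [afn_mul _ _ b0_mem, afn_mul _ _ b0_mem, afn_mul _ _ (afn_mem _ b0_mem)]
  refine ⟨_, ht, ?_⟩
  have := (inferInstance : (OQ K).Normal).conj_mem _ (inv_mem o) (ωQ K)
  rw [e] at this
  convert this using 1
  group

end Cfsg.Agent.D4F
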