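import Cfsg.Agent.D4F.QL
import Cfsg.Agent.D4F.Dc3

/-! The stabiliser of `Z2` in the automizer of `Q`; `S / Q` acts semiregularly on the other conjugates of `Z2`. -/

set_option autoImplicit false
set_option linter.unusedSectionVars false

namespace Cfsg.Agent.D4F

open Subgroup Cfsg.Agent.RFS Cfsg.Agent.U5F Cfsg.Agent.Fus

variable {K : Type*} [Field K] [Tri K] {A₀ : Subgroup (MulAut (U K))} {A : Subgroup (MulAut (Qs : Subgroup (U K)))}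
  {α β : MulAut (Qs : Subgroup (U K))} {u v w : U K}

theorem qx_cen (x : U K) (hx : ∀ y ∈ (Qs : Subgroup (U K)), y * x = x * y) : x ∈ Qs :=
  eq_zero_of_T fun s => by
    have := cm_e3 x (n := Xd s) ⟨rfl, rfl, rfl⟩
    rw [cm_eq_one.2 (hx _ rfl).symm] at this
    exact this.symm

theorem qx_inv (h : afn α (e0 K) ∈ Z2) : afn α⁻¹ (e0 K) ∈ Z2 :=
  inv_pres (P := Z2) (fun _ _ hx => keep_Z2 h hx) _ e0_mem e0_Z2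

theorem qx_res (φ : MulAut (U K)) : afn (rQ φ) (e0 K) ∈ Z2 := by
  rw [afn_res _ e0_mem]
  exact chr_mem φ e0_Z2

/-- The stabiliser of `Z2` in `A`. -/
def qxG (A : Subgroup (MulAut (Qs : Subgroup (U K)))) : Subgroup (MulAut (Qs : Subgroup (U K))) where
  carrier := {γ | γ ∈ A ∧ afn γ (e0 K) ∈ Z2}
  one_mem' := ⟨one_mem _, by rw [afn_one]; exact e0_Z2⟩
  mul_mem' ha hb := ⟨mul_mem ha.1 hb.1, by rw [afn_mul _ _ e0_mem]; exact keep_Z2 ha.2 hb.2⟩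
  inv_mem' ha := ⟨inv_mem ha.1, qx_inv ha.2⟩

theorem qx_Xa {a : K} (h : a ≠ 0) : Xa a ∉ (Qs : Subgroup (U K)) := h

theorem qx_sec (A : Subgroup (MulAut (Qs : Subgroup (U K)))) : Sec (qxG A) Rs Z2 Z4 ⊤ where
  iM _ hγ _ _ hy := keep_Z2 hγ.2 hy
  iL _ hγ _ _ hy := keep_Z4 hγ.2 hy
  iT _ _ _ _ _ := trivial
  ML _ _ hy := Z3_le_Z4 (Z2_le_Z3 hy)
  top := sc_top
  nle h := qx_Xa one_ne_zero (h (x := Xa 1) rfl)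
  nm b _ y hy := nor_Qs.conj_mem y hy b
  ab _ hy _ _ hy' _ := Z1_le_Z2 (cm_Qs_Qs hy hy')
  h0 _ hb _ _ hy := com_Z2 hb hy
  h1 _ _ _ _ _ _ hy := cm_S_Z3 _ (cm_S_Z4 _ hy)
  h2 _ _ _ _ _ := cm_S_S _ _

theorem qx_Cq {y : U K} : Cq Qs Rs Z2 Z4 y ↔ y ∈ Z3 := by
  refine ⟨fun h => ⟨h.2.1.1, h.2.1.2, eq_zero_of_B fun s => ?_⟩,
    fun h => ⟨h.1, Z3_le_Z4 h, fun b _ => cm_S_Z3 b h⟩⟩
  have h1 : (cm (Xa s) y).d = 0 := (h.2.2 (Xa s) rfl).2.2.2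
  rw [cm_d4 _ h.2.1, neg_eq_zero] at h1
  rw [B_comm]
  exact h1

/-- Let `G = {γ ∈ A | afn γ e0 ∈ Z2}` (a subgroup: `keep_Z2`, `inv_pres`), `M₀ = A₀.map rQ ≤ G` (`afn_res`, `chr_mem`). Suppose `¬ G ≤ M₀`.
`dc_of_ti isPGroup_U cen_Q' H.sa H.lc H.ti ..` gives `Dc p Qs G M₀` (`cen_Q'`: copy `cen_Q` of `D4F/Fin`, 4 lines), and `Sec G Rs Z2 Z4 ⊤` holds:
`keep_Z2`, `keep_Z4`, `sc_top`, `Xa 1 ∉ Qs`, normality, `cm_Qs_Qs`, `com_Z2`, `cm_S_Z4` + `cm_S_Z3`, `cm_S_S`.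
`2 = 0`: `Dc.m0` gives `e ∈ Z4`; if `e.c ≠ 0` take `b = Xa e.c`: `cm b e ∈ Z3` has `d = -B c c = -2 χ c = 0` (`cm_d4`, `B_self`), so `Xa e.c ∈ Qs`;
if `e.c = 0` take `b = Xa 1` (`cm_S_Z3`).
`2 ≠ 0`: `Dc.jj` with `f y = Xa y.c`, `x = Xa 1`. `f2`: `y.c = y'.c` gives `y⁻¹ y' ∈ Z3` (`aS_dv3`-like), `cm_S_Z3`. `hE`: `cm_Qs_Qs`. For `y ∈ Z4`,
`Cq Qs Rs Z2 Z4 y ↔ y.c = 0` (`cm_d4` with `Xa s`, `eq_zero_of_B`, `B_comm`; `cm_S_Z3`). `hH`: `b = Xa a` with `B v.c a = -c.d` (`B_surj`), `dv_Z2`.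
The conclusion for `y = Xd d` (`com_Z3`), `e`-coordinate (`cm_e3`, `(x g).a = 1`; the inverse of an element of `Z2` has `e = -e`): `T d = -T d` for all `d`,
against `exists_T_ne`. -/
theorem SQ.ext (H : SQ A₀ A) (hα : α ∈ A) (h : afn α (e0 K) ∈ Z2) : ∃ φ ∈ A₀, rQ φ = α := by
  by_contra hn
  have D : Dc (Tri.p K) Qs (qxG A) (A₀.map rQ) :=
    dc_of_ti isPGroup_U qx_cen H.sa H.lc H.ti (fun _ k => k.1)
      (by rintro _ ⟨φ, hφ, rfl⟩; exact ⟨H.res hφ, qx_res φ⟩) fun k => hn (k (x := α) ⟨hα, h⟩)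
  have S := qx_sec A
  by_cases h2 : (2 : K) = 0
  · obtain ⟨e, -, he, hb⟩ := D.m0 S
    by_cases hc : e.c = 0
    · exact qx_Xa one_ne_zero (hb (Xa 1) rfl (cm_S_Z3 _ ⟨he.1, he.2, hc⟩))
    · have k := cm_S_Z4 (Xa e.c) he
      refine qx_Xa hc (hb (Xa e.c) rfl ⟨k.1, k.2.1, k.2.2, ?_⟩)
      rw [cm_d4 _ he]
      change -B e.c e.c = 0
      rw [B_self, h2, zero_mul, neg_zero]
  · obtain ⟨g, hg, k⟩ := D.jj S (fun y => Xa y.c) (fun _ _ _ => rfl)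
      (fun y hy hy4 y' hy' hy4' k b _ => cm_S_Z3 b ((dv_Z3 hy4.2 hy4'.2).2
        ⟨hy4'.1.trans hy4.1.symm, by
          have k' : -y.c + y'.c = 0 := k
          linear_combination k'⟩))
      (fun b _ hb y hy _ => Z1_le_Z2 (cm_Qs_Qs hb hy))
      (fun v _ hv hn c hc => by
        obtain ⟨a, ha⟩ := B_surj h2 (a := v.c) (fun e => hn (qx_Cq.2 ⟨hv.1, hv.2, e⟩)) (-c.d)
        refine ⟨Xa a, rfl, (dv_Z2 (cm_S_Z4 _ hv) (qx_Cq.1 hc)).2 ?_⟩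
        rw [cm_d4 _ hv]
        change c.d = -B a v.c
        rw [B_comm, ha, neg_neg])
      (x := Xa 1) rfl
    obtain ⟨d, hd⟩ := exists_T_ne (K := K)
    have y3 : Xd d ∈ (Z3 : Subgroup (U K)) := ⟨rfl, rfl, rfl⟩
    have k1 := congrArg U.e (k (Xd d) (qx_Cq.2 y3) fun m _ hm => com_Z3 y3 (Z2_le_Z3 hm))
    have k2 := cm_e3 (Xa 1) y3
    rw [cm_e3 _ y3] at k1
    simp only [UC, cm_a, k2, mem_Qs.1 hg] at k1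
    exact mul_ne_zero h2 hd (by linear_combination k1)

/-- `SQ.ext` and `H.form`. -/
theorem SQ.ext' (H : SQ A₀ A) (hα : α ∈ A) (h : afn α (e0 K) ∈ Z2) :
    ∃ g r s f, MulAut.conj g * tf r s f ∈ A₀ ∧ α = rQ (MulAut.conj g * tf r s f) := by
  obtain ⟨φ, hφ, rfl⟩ := H.ext hα h
  obtain ⟨g, r, s, f, rfl⟩ := H.form φ hφ
  exact ⟨g, r, s, f, hφ, rfl⟩

/-- The elements of `A` keeping `Z2` keep `Z3`: `SQ.ext` for `β⁻¹ * α` (`Z2_iff`), `afn_res`, `chr_mem`. -/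
theorem SQ.u3 (H : SQ A₀ A) (hα : α ∈ A) (hβ : β ∈ A) (h : afn α (e0 K) ∈ Li (afn β (e0 K))) (hu : u ∈ Qs) :
    afn α⁻¹ u ∈ Z3 ↔ afn β⁻¹ u ∈ Z3 := by
  obtain ⟨φ, -, e⟩ := H.ext (mul_mem (inv_mem hβ) hα) (Z2_iff.2 h)
  have e' : α⁻¹ = rQ φ⁻¹ * β⁻¹ := by rw [map_inv, e]; group
  rw [e', afn_mul _ _ hu, afn_res _ (afn_mem _ hu)]
  exact ⟨fun k => by simpa using chr_mem φ k, chr_mem φ⁻¹⟩

/-- A `p`-element `rQ φ`, `φ ∈ A₀`, lies in `Tn Qs`: `N = zpowers α ⊔ Tn Qs` is a `p`-group (`res_conj`: `α` normalises `Tn Qs`;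
`IsPGroup.to_sup_of_normal_right'`-type lemma) inside `A`; `H.lc.syl.eq_of_le`. -/
theorem SQ.mem_Tn (H : SQ A₀ A) (hα : α ∈ A) (h : afn α (e0 K) ∈ Z2) {n : ℕ} (hp : α ^ Tri.p K ^ n = 1) : α ∈ Tn Qs := by
  obtain ⟨φ, hφ, rfl⟩ := H.ext hα h
  have h1 : IsPGroup (Tri.p K) (zpowers (rQ φ)) := by
    rintro ⟨_, k, rfl⟩
    refine ⟨n, Subtype.ext ?_⟩
    simp only [SubmonoidClass.coe_pow, OneMemClass.coe_one]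
    rw [← zpow_natCast, ← zpow_mul, mul_comm, zpow_mul, zpow_natCast, hp, one_zpow]
  have hT := H.lc.Tn_le H.sa
  have h2 : zpowers (rQ φ) ≤ normalizer (Tn (Qs : Subgroup (U K)) : Set _) := by
    rw [zpowers_le, mem_normalizer_iff]
    intro t
    constructor
    · rintro ⟨g, rfl⟩
      exact ⟨φ g, (res_conj φ g).symm⟩
    · rintro ⟨g, e⟩
      refine ⟨φ⁻¹ g, (res_conj φ⁻¹ g).symm.trans ?_⟩
      have e' : cQ g = rQ φ * t * (rQ φ)⁻¹ := e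
      change rQ φ⁻¹ * cQ g * (rQ φ⁻¹)⁻¹ = t
      rw [e', map_inv]
      group
  rw [← H.lc.syl.eq_of_le hT (h1.to_sup_of_normal_right' (H.lc.syl.isPGroup hT) h2) le_sup_right
    (sup_le (zpowers_le.2 hα) hT)]
  exact mem_sup_left (mem_zpowers _)

/-- Semiregularity. `γ = α⁻¹ * cQ g * α ∈ A` has `afn γ e0 ∈ Z2` (`Z2_iff`) and `p`-power order (`isPGroup_U g`, `conj_pow`, `map_pow`), so `γ ∈ Tn Qs`
(`SQ.mem_Tn`); `H.ti α⁻¹` gives `α⁻¹ = rQ φ`, so `α = rQ φ⁻¹` keeps `Z2`. -/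
theorem SQ.semi (H : SQ A₀ A) (hα : α ∈ A) {g : U K} (hg : g ∉ Qs)
    (h : afn (cQ g) (afn α (e0 K)) ∈ Li (afn α (e0 K))) : afn α (e0 K) ∈ Z2 := by
  obtain ⟨n, hn⟩ := isPGroup_U g
  have h1 : α⁻¹ * cQ g * α⁻¹⁻¹ ∈ Tn Qs := by
    refine H.mem_Tn (mul_mem (mul_mem (inv_mem hα) (H.cq g)) (inv_mem (inv_mem hα))) ?_ (n := n) ?_
    · rw [inv_inv, mul_assoc, Z2_iff, afn_mul _ _ e0_mem]
      exact h
    · rw [conj_pow, ← map_pow, ← map_pow, hn, map_one, map_one, mul_one, mul_inv_cancel]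
  obtain ⟨φ, -, e⟩ := H.ti α⁻¹ (inv_mem hα) g hg h1
  rw [← inv_inv α, ← e, ← map_inv]
  exact qx_res _

/-- `v = α e0 = (0, 0, d, e)`; `a ≠ 0` with `T (a d) = 0` (`exists_perp`) : `cQ (Xa a)` fixes the coordinates of `v` (`cjQ`); `SQ.semi`. -/
theorem SQ.of3 (H : SQ A₀ A) (hα : α ∈ A) (h : afn α (e0 K) ∈ Z3) : afn α (e0 K) ∈ Z2 := by
  obtain ⟨a, ha, h1, -⟩ := exists_perp (afn α (e0 K)).d (afn α (e0 K)).d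
  refine H.semi hα (qx_Xa ha) ⟨afn_mem _ h.1, 1, θ1, ?_⟩
  rw [mul_comm] at h1
  simp only [cjQ _ (show afn α (e0 K) ∈ Qs from h.1), UC, h.2.1, h.2.2, h1, and_self]

/-- `SQ.of3` for `β⁻¹ * α`, `Z2_iff`. -/
theorem SQ.of3' (H : SQ A₀ A) (hα : α ∈ A) (hβ : β ∈ A) (h : afn β⁻¹ (afn α (e0 K)) ∈ Z3) :
    afn α (e0 K) ∈ Li (afn β (e0 K)) := 
  Z2_iff.1 (H.of3 (mul_mem (inv_mem hβ) hα) (by rwa [afn_mul _ _ e0_mem]))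

/-- `H.lc.exists_not_res` and `SQ.ext`. -/
theorem SQ.exists_move (H : SQ A₀ A) : ∃ α ∈ A, afn α (e0 K) ∉ Z2 := by
  obtain ⟨α, hα, hn⟩ := H.lc.exists_not_res
  exact ⟨α, hα, fun h => hn (H.ext hα h)⟩

/-- An element swapping `Z2` and `Li b0`. `μ₁ = cQ (Xa a) * α` (`SQ.exists_move`, `O`) has `μ₁ e0 ∈ Li b0`. `μ₁⁻¹ e0 ∉ Z2` (else `keep_Z2`/`Z2_iff`: `μ₁ e0 ∈ Z2 ⊓ Li b0 = Z1`,
`e0_not`), so `cQ (Xa a') * μ₁⁻¹` maps `e0` into `Li b0`; `μ = μ₁ * (cQ (Xa a'))⁻¹`: `μ⁻¹ e0 ∈ Li b0`, `Li_symm`, `afn_Li μ` give `μ b0 ∈ Li e0`;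
`(cQ _)⁻¹ e0 ∈ Z2 = Li e0`, `afn_Li μ₁`, `Li_le`. -/
theorem SQ.swap (H : SQ A₀ A) (O : Orb A) : ∃ μ ∈ A, afn μ (e0 K) ∈ Li (b0 K) ∧ afn μ (b0 K) ∈ Z2 := by
  obtain ⟨α, hα, hn⟩ := H.exists_move
  obtain ⟨a, ha⟩ := O α hα hn
  have hμ : cQ (Xa a) * α ∈ A := mul_mem (H.cq _) hα
  generalize cQ (Xa a) * α = μ at ha hμ
  have h1 : afn μ⁻¹ (e0 K) ∉ Z2 := fun k => by
    have k1 := qx_inv k
    rw [inv_inv] at k1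
    have k2 := mem_Li_b0.1 ha
    exact e0_not μ ⟨k1.1, k1.2.1, k1.2.2.1, k1.2.2.2, k2.2.2.2⟩
  obtain ⟨a', ha'⟩ := O μ⁻¹ (inv_mem hμ) h1
  refine ⟨(cQ (Xa a') * μ⁻¹)⁻¹, inv_mem (mul_mem (H.cq _) (inv_mem hμ)), ?_, ?_⟩
  · rw [mul_inv_rev, inv_inv, afn_mul _ _ e0_mem]
    refine Li_le ha (afn_Li μ e0_mem ?_)
    rw [Li_e0]
    exact qx_inv (qx_res _)
  · have k := afn_Li (cQ (Xa a') * μ⁻¹)⁻¹ (afn_mem _ e0_mem) (Li_symm ha' b0_mem (e0_not _))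
    rwa [afn_inv_afn _ e0_mem, Li_e0] at k

end Cfsg.Agent.D4F
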