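import Cfsg.Agent.D4F.Q0

/-! Automorphisms of `R = Rs` permute the lines `Ln s t` of `Z2`; the automizer of `R`. -/

set_option autoImplicit false
set_option linter.unusedSectionVars false

namespace Cfsg.Agent.D4F

open Subgroup Cfsg.Agent.RFS Cfsg.Agent.U5F Cfsg.Agent.Fus

variable {K : Type*} [Field K] [Tri K] {A₀ : Subgroup (MulAut (U K))} {B₀ : Subgroup (MulAut (Rs : Subgroup (U K)))}
  {α β : MulAut (Rs : Subgroup (U K))} {s t : K} {g y : U K}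

theorem r1_ch {L : Subgroup (U K)} (hL : Ch Rs L) (α : MulAut (Rs : Subgroup (U K))) (hy : y ∈ Rs) : y ∈ L ↔ afn α y ∈ L :=
  ⟨hL α y hy, fun h => by
    have := hL α⁻¹ _ (afn_mem α hy) h
    rwa [afn_inv_afn α hy] at this⟩

theorem r1_cm (α : MulAut (Rs : Subgroup (U K))) (hg : g ∈ Rs) (hy : y ∈ Rs) :
    (∃ n ∈ Z3, y = cm g n) ↔ ∃ n ∈ Z3, afn α y = cm (afn α g) n := by
  constructor
  · rintro ⟨n, hn, rfl⟩
    exact ⟨_, chR_Z3 α n hn.2.1 hn, afn_cm α hg hn.2.1⟩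
  · rintro ⟨n, hn, e⟩
    refine ⟨_, chR_Z3 α⁻¹ n hn.2.1 hn, ?_⟩
    rw [← afn_inv_afn α hy, e, afn_cm α⁻¹ (afn_mem α hg) hn.2.1, afn_inv_afn α hg]

theorem r1_psi (hy : y ∈ Z2) (hz : y.z = 0) : afn (ψR K)⁻¹ y ∈ Z1 := by
  rw [afn_apply _ (show y ∈ Rs from hy.2.1)]
  change ψ (ψ (ψ y)) ∈ Z1
  rw [mem_Z2] at hy
  simp only [mem_Z1, ψ, UC, hy, hz, and_self]

theorem Ln01 (ht : t ≠ 0) : Ln (0 : K) t = Z1 := by
  ext y
  simp only [mem_Ln, mem_Z1, mem_Z2, zero_mul, mul_eq_zero, ht, false_or, and_assoc]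

theorem P01 (ht : t ≠ 0) : P (0 : K) t = Z4 := by
  ext y
  simp only [mem_P, mem_Z4, zero_mul, mul_eq_zero, ht, false_or, and_comm]

/-- For `n ∈ Z3`, `cm g n ∈ Z2` has `e = T (g.a n.d) = s T (u n.d)`, `z = t T (u n.d)` (`cm_S_Z3`, `cm_e3`, `cm_zR3`, `T_smul`); an element `y` of
`Ln s t` has `(e, z) = (s x, t x)` with `θ x = x`, and `x = T (u d)` (`exists_T`). -/
theorem ln_iff (hs : θ s = s) (ht : θ t = t) (h0 : s ≠ 0 ∨ t ≠ 0) {u : K} (hu : u ≠ 0) (hg : g ∈ Rs) (ha : g.a = s * u)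
    (hc : g.c = t * u) : y ∈ Ln s t ↔ ∃ n ∈ Z3, y = cm g n := by
  constructor
  · rintro ⟨h2, h⟩
    obtain ⟨x, hx, he, hz⟩ : ∃ x, θ x = x ∧ y.e = s * x ∧ y.z = t * x := by
      rcases h0 with h0 | h0
      · refine ⟨y.e / s, by rw [map_div₀, y.he, hs], by field_simp, ?_⟩
        field_simp
        linear_combination -h
      · refine ⟨y.z / t, by rw [map_div₀, y.hz, ht], ?_, by field_simp⟩
        field_simp
        linear_combination h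
    obtain ⟨d, hd⟩ := exists_T hu hx
    have h3 : Xd d ∈ (Z3 : Subgroup (U K)) := ⟨rfl, rfl, rfl⟩
    have k := cm_S_Z3 g h3
    refine ⟨Xd d, h3, ?_⟩
    ext
    · exact h2.1.trans k.1.symm
    · exact h2.2.1.trans k.2.1.symm
    · exact h2.2.2.1.trans k.2.2.1.symm
    · exact h2.2.2.2.trans k.2.2.2.symm
    · rw [cm_e3 g h3, ha, mul_assoc, T_smul hs, he, ← hd]; rfl
    · rw [cm_zR3 hg h3, hc, mul_assoc, T_smul ht, hz, ← hd]; rfl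
  · rintro ⟨n, hn, rfl⟩
    refine ⟨cm_S_Z3 g hn, ?_⟩
    rw [cm_e3 g hn, cm_zR3 hg hn, ha, hc, mul_assoc, mul_assoc, T_smul hs, T_smul ht]
    ring

/-- `t T (a d) = s T (c d)` for all `d` iff `t a = s c` (`eq_zero_of_T`). -/
theorem P_iff (hs : θ s = s) (ht : θ t = t) (hg : g ∈ Rs) : g ∈ P s t ↔ ∀ n ∈ Z3, cm g n ∈ Ln s t := by
  constructor
  · intro h n hn
    refine ⟨cm_S_Z3 g hn, ?_⟩
    rw [cm_e3 g hn, cm_zR3 hg hn, ← T_smul hs, ← T_smul ht, ← mul_assoc, ← mul_assoc, h.2]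
  · intro h
    refine ⟨hg, sub_eq_zero.1 (eq_zero_of_T fun d => ?_)⟩
    have h3 : Xd d ∈ (Z3 : Subgroup (U K)) := ⟨rfl, rfl, rfl⟩
    have k := (h _ h3).2
    rw [cm_e3 g h3, cm_zR3 hg h3] at k
    rw [sub_mul, T_sub, mul_assoc, mul_assoc, T_smul hs, T_smul ht, sub_eq_zero]
    exact k

/-- `g = Xr s t 0`, `g' = afn α g ∉ Z3` (`chR_Z3 α⁻¹`). If `wd g'.a g'.c ≠ 0`, every `y ∈ Z2` is `cm g' n` (`dual2`), so (apply `α⁻¹`, `afn_cm`, `chR_Z2`,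
`chR_Z3`, `ln_iff` with `u = 1`) `Z2 ≤ Ln s t`, false for `Xe 1` or `Xz 1`. So `dep_of_wd` gives `s', t', u`; `ln_iff` on both sides, then `P_iff`. -/
theorem lnR (α : MulAut (Rs : Subgroup (U K))) (hs : θ s = s) (ht : θ t = t) (h0 : s ≠ 0 ∨ t ≠ 0) :
    ∃ s' t', θ s' = s' ∧ θ t' = t' ∧ (s' ≠ 0 ∨ t' ≠ 0) ∧
      ∀ y ∈ Rs, (y ∈ Ln s t ↔ afn α y ∈ Ln s' t') ∧ (y ∈ P s t ↔ afn α y ∈ P s' t') := by
  have hg : Xr s t 0 ∈ (Rs : Subgroup (U K)) := rfl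
  have hg' := afn_mem α hg
  have k : ∀ y ∈ Rs, y ∈ Ln s t ↔ ∃ n ∈ Z3, afn α y = cm (afn α (Xr s t 0)) n := fun y hy =>
    (ln_iff hs ht h0 one_ne_zero hg (mul_one s).symm (mul_one t).symm).trans (r1_cm α hg hy)
  by_cases hw : wd (afn α (Xr s t 0)).a (afn α (Xr s t 0)).c = 0
  · have h3 : (afn α (Xr s t 0)).a ≠ 0 ∨ (afn α (Xr s t 0)).c ≠ 0 := by
      by_contra! c
      have := (r1_ch chR_Z3 α hg).2 ⟨c.1, hg', c.2⟩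
      exact h0.elim (fun h => h this.1) fun h => h this.2.2
    obtain ⟨s', t', u, hs', ht', h0', hu, ha, hc⟩ := dep_of_wd hw h3
    have k' : ∀ y ∈ Rs, y ∈ Ln s t ↔ afn α y ∈ Ln s' t' := fun y hy =>
      (k y hy).trans (ln_iff hs' ht' h0' hu hg' ha hc).symm
    refine ⟨s', t', hs', ht', h0', fun y hy => ⟨k' y hy, ?_⟩⟩
    rw [P_iff hs ht hy, P_iff hs' ht' (afn_mem α hy)]
    constructor
    · intro h n hn
      have h1 : n ∈ Rs := hn.2.1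
      have h2 := afn_mem α⁻¹ h1
      have := (k' _ (cm_mem hy h2)).1 (h _ (chR_Z3 α⁻¹ n h1 hn))
      rwa [afn_cm α hy h2, afn_afn_inv α h1] at this
    · intro h n hn
      have h1 : n ∈ Rs := hn.2.1
      rw [k' _ (cm_mem hy h1), afn_cm α hy h1]
      exact h _ (chR_Z3 α n h1 hn)
  · exfalso
    have k' : ∀ y ∈ Z2, y ∈ Ln s t := fun y hy => by
      have h2 := chR_Z2 α y hy.2.1 hy
      obtain ⟨d, h3, h4⟩ := dual2 hw (afn α y).he (afn α y).hz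
      have h5 : Xd d ∈ (Z3 : Subgroup (U K)) := ⟨rfl, rfl, rfl⟩
      have h6 := cm_S_Z3 (afn α (Xr s t 0)) h5
      refine (k y hy.2.1).2 ⟨Xd d, h5, ?_⟩
      ext
      · exact h2.1.trans h6.1.symm
      · exact h2.2.1.trans h6.2.1.symm
      · exact h2.2.2.1.trans h6.2.2.1.symm
      · exact h2.2.2.2.trans h6.2.2.2.symm
      · rw [cm_e3 _ h5, ← h3]; rfl
      · rw [cm_zR3 hg' h5, ← h4]; rfl
    have a := (k' (Xe 1 θ1) ⟨rfl, rfl, rfl, rfl⟩).2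
    have b := (k' (Xz 1 θ1) ⟨rfl, rfl, rfl, rfl⟩).2
    simp only [UC] at a b
    exact h0.elim (fun h => h b.symm) fun h => h a

/-- `lnR α` for `(0, 1)`; `afn α (Xz 1) ≠ 1` lies in `Z1 ⊓ Ln s' t'`, so `s' = 0` (`eq_one_of_Z1`). -/
theorem keepR (h : afn α (Xz 1 θ1) ∈ Z1) (hy : y ∈ Rs) : (y ∈ Z1 ↔ afn α y ∈ Z1) ∧ (y ∈ Z4 ↔ afn α y ∈ Z4) := by
  obtain ⟨s', t', -, -, h0, k⟩ := lnR α (map_zero θ) θ1 (Or.inr one_ne_zero)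
  have hz : Xz (1 : K) θ1 ∈ (Rs : Subgroup (U K)) := rfl
  have a := ((k _ hz).1.1 (by rw [Ln01 one_ne_zero]; exact ⟨rfl, rfl, rfl, rfl, rfl⟩)).2
  rw [h.2.2.2.2, mul_zero, eq_comm, mul_eq_zero] at a
  obtain rfl | a := a
  · have h1 : t' ≠ 0 := h0.resolve_left fun h => h rfl
    have := k y hy
    rwa [Ln01 one_ne_zero, Ln01 h1, P01 one_ne_zero, P01 h1] at this
  · have b := afn_inv_afn α hz
    rw [eq_one_of_Z1 h a, (homOn_afn α⁻¹).map_one] at b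
    exact absurd (congrArg U.z b) zero_ne_one

/-- `keepR`, `chR_Z2`, `chR_Z3` (for `α` and `α⁻¹`), `St_conj`. -/
theorem St_keep (h : afn α (Xz 1 θ1) ∈ Z1) (hβ : β ∈ St Rs [Z1, Z2, Z3, Z4]) : α * β * α⁻¹ ∈ St Rs [Z1, Z2, Z3, Z4] := by
  refine St_conj (fun i x hx => ?_) hβ
  rcases i with _ | _ | _ | _ | i
  exacts [(keepR h hx).1, r1_ch chR_Z2 α hx, r1_ch chR_Z3 α hx, (keepR h hx).2, Iff.rfl]

/-- `mem_St`, `afn_cR`, `com_Z1`, `cm_S_Z2`, `cm_S_Z3`, `cm_S_Z4`, `cm_S_S` (`x⁻¹ * (g * x * g⁻¹) = cm x⁻¹ g`, `cm_swap`/normality). -/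
theorem cR_St (g : U K) : cR g ∈ St Rs [Z1, Z2, Z3, Z4] := by
  intro i x hx h
  have e : x⁻¹ * (g * x * g⁻¹) = cm x⁻¹ g := by simp only [cm, inv_inv, mul_assoc]
  rw [afn_cR g hx, e]
  rcases i with _ | _ | _ | _ | _ | i
  · exact ⟨nor_Z1.conj_mem x h g, cm_eq_one.2 (com_Z1 g (inv_mem h)).symm⟩
  · exact ⟨nor_Z2.conj_mem x h g, cm_comm (cm_S_Z2 g (inv_mem h))⟩
  · exact ⟨nor_Z3.conj_mem x h g, cm_comm (cm_S_Z3 g (inv_mem h))⟩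
  · exact ⟨nor_Z4.conj_mem x h g, cm_comm (cm_S_Z4 g (inv_mem h))⟩
  · exact ⟨trivial, cm_S_S _ _⟩
  · exact ⟨trivial, trivial⟩

/-- `H.lc.ext' H.sa (isPGroup_St ..) ..`. -/
theorem SR.ext (H : SR A₀ B₀) (hα : α ∈ B₀) (h : afn α (Xz 1 θ1) ∈ Z1) : ∃ φ ∈ A₀, rR φ = α :=
  H.lc.ext' H.sa (isPGroup_St (isPGroup_U.to_subgroup Rs) [Z1, Z2, Z3, Z4]) (fun _ ⟨g, e⟩ => e ▸ cR_St g) hα
    fun _ ht => St_keep h ht

/-- `y = afn α (Xz 1) ∈ Z2` has `y.e ≠ 0`; `g = Xb (-y.z / y.e)` kills `z` (`cjZ`); `ψ⁻¹ = ψ³` maps `(e, z)` to `(z, -e)`. -/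
theorem orbR (h : afn α (Xz 1 θ1) ∉ Z1) : ∃ g, afn ((ψR K)⁻¹ * cR g * α) (Xz 1 θ1) ∈ Z1 := by
  have hz : Xz (1 : K) θ1 ∈ (Rs : Subgroup (U K)) := rfl
  have h1 := afn_mem α hz
  have h2 := chR_Z2 α _ hz ⟨rfl, rfl, rfl, rfl⟩
  generalize hy : afn α (Xz 1 θ1) = y at h h1 h2
  have he : y.e ≠ 0 := fun e => h ⟨h2.1, h2.2.1, h2.2.2.1, h2.2.2.2, e⟩
  have hb : θ (-y.z / y.e) = -y.z / y.e := by rw [map_div₀, map_neg, y.he, y.hz]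
  refine ⟨Xb _ hb, ?_⟩
  rw [afn_mul _ _ hz, hy, afn_mul _ _ h1, afn_cR _ h1]
  refine r1_psi (nor_Z2.conj_mem y h2 _) ?_
  rw [(cjZ _ h2).2]
  change y.z + -y.z / y.e * y.e = 0
  field_simp
  ring

/-- `SR.ext`, `orbR`, `H.lc.cj H.sa`. -/
theorem SR.gen (H : SR A₀ B₀) (hψ : ψR K ∈ B₀) (hα : α ∈ B₀) : ∃ φ ∈ A₀, α = rR φ ∨ ∃ g, α = cR g * ψR K * rR φ := by
  by_cases h : afn α (Xz 1 θ1) ∈ Z1
  · obtain ⟨φ, hφ, e⟩ := H.ext hα h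
    exact ⟨φ, hφ, Or.inl e.symm⟩
  · obtain ⟨g, hg⟩ := orbR h
    obtain ⟨φ, hφ, e⟩ := H.ext (B₀.mul_mem (B₀.mul_mem (B₀.inv_mem hψ) (H.lc.cj H.sa g)) hα) hg
    refine ⟨φ, hφ, Or.inr ⟨g⁻¹, ?_⟩⟩
    rw [e, cR, map_inv, map_inv]
    group

end Cfsg.Agent.D4F
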