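import Cfsg.Agent.D4F.Ess
import Cfsg.Agent.D4F.Fin

/-! The Sylow subgroups of `Out_F(Q)` have trivial intersections. -/

set_option autoImplicit false
set_option linter.unusedSectionVars false

namespace Cfsg.Agent.D4F

open Subgroup Cfsg.Agent.RFS Cfsg.Agent.U5F Cfsg.Agent.Fus Cfsg.FusionSystem Cfsg.Agent.SpF

variable {K : Type*} [Field K] [Tri K] {F : FusionSystem (⊤ : Subgroup (U K))}

/-- A morphism defined on a subgroup outside `Qs` and `Rs` is the restriction of an automorphism of `S`. -/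
theorem ext_of_not_le (hF : F.IsSaturated (Tri.p K)) {P : Subgroup (U K)} (hQ : ¬ P ≤ Qs) (hR : ¬ P ≤ Rs) {f : U K → U K}
    (hf : IsMap F P f) : ∃ φ ∈ AS F, ∀ x ∈ P, φ x = f x := by
  refine alperin_induction pT hF (M := fun f => ∃ φ ∈ AS F, ∀ x ∈ P, φ x = f x)
    (fun f e => ⟨1, one_mem _, fun x hx => (e x hx).symm⟩) ?_ hf
  rintro f g h E - ⟨φ, h1, h2⟩ (rfl | hE) h3 - h4 h5
  · obtain ⟨χ, h6, h7⟩ := exists_AS h3
    exact ⟨χ * φ, mul_mem h6 h1, fun x hx => by rw [MulAut.mul_apply, h7, h2 x hx, h5 x hx]⟩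
  obtain rfl | rfl := ess_QR hF hE
  · exact (hQ fun x hx => φ.symm_apply_apply x ▸ chr_mem φ.symm (x := φ x) (h2 x hx ▸ h4 x hx)).elim
  · exact (hR fun x hx => φ.symm_apply_apply x ▸ chr_mem φ.symm (x := φ x) (h2 x hx ▸ h4 x hx)).elim

theorem tiQ (hF : F.IsSaturated (Tri.p K)) (hE : F.IsEssential (Tri.p K) Qs) : ∀ α ∈ F.autGroup Qs, ∀ g ∉ (Qs : Subgroup (U K)),
    α * cQ g * α⁻¹ ∈ Tn Qs → ∃ φ ∈ AS F, rQ φ = α := fun α hα g hg h => by
  have n : ∀ s, s ∈ normalizerIn ⊤ (Qs : Subgroup (U K)) := fun s =>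
    mem_normalizerIn_of_conj trivial fun _ hx => Normal.conj_mem inferInstance _ hx s
  have k : ∀ s, α * cQ s * α⁻¹ ∈ Tn Qs → s ∈ Fus.Nf ⊤ Qs (afn α) := fun s h => mem_Nf_afn (n s) (by
    rwa [Tn_eq, show cQ s = conjAut Qs s (n s).2 from aut_ext fun x hx => by rw [afn_cQ s hx, afn_conjAut _ hx]] at h)
  obtain ⟨f, hf, e⟩ := sat_extend_of_centric (R := Qs ⊔ zpowers g) pT hF ((mem_autGroup le_top).1 hα) hE.1
    (sup_le (fun s hs => k s (by rw [aut_conj α hs]; exact ⟨_, rfl⟩)) (zpowers_le.2 (k g h)))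
  obtain ⟨φ, h1, h2⟩ := ext_of_not_le hF (fun c => hg (c (mem_sup_right (mem_zpowers g))))
    (fun c => one_ne_zero (c (mem_sup_left (show Xb (1 : K) θ1 ∈ Qs from rfl)) : (1 : K) = 0)) hf
  exact ⟨φ, h1, aut_ext fun x hx => (afn_res φ hx).trans ((h2 x (mem_sup_left hx)).trans (e x hx))⟩

end Cfsg.Agent.D4F
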