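import Cfsg.Agent.D4F.Lin

/-!
The case `q = 2`: subgroups of odd order of `GL₃(2)`.  Read the first half of `D4F/U`.
-/

set_option autoImplicit false
set_option linter.unusedSectionVars false
set_option linter.unusedSimpArgs false
set_option linter.unnecessarySeqFocus false

namespace Cfsg.Agent.D4F

open Subgroup Cfsg.Agent.RFS Cfsg.Agent.U5F Cfsg.Agent.Fus

variable {K : Type*} [Field K] [Tri K]

/-- The semilinear map `t ↦ r * f t`. -/
def sl (r : Kˣ) (f : K ≃+* K) : Equiv.Perm K := f.toEquiv.trans (Units.mulLeft r)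

theorem sl_apply (r : Kˣ) (f : K ≃+* K) (t : K) : sl r f t = r * f t := rfl

/-- `card_kk`, `two_le_qq`; `Tri.p K ∣ qq K`. -/
theorem qq_two (h2 : ∀ s : K, θ s = s → s = 0 ∨ s = 1) : qq K = 2 ∧ Tri.p K = 2 ∧ Nat.card K = 8 := by
  have h1 : Nat.card (kk K) ≤ 2 := (Set.ncard_le_ncard (s := (kk K : Set K)) (t := {0, 1}) fun s hs => h2 s hs).trans
    (Set.ncard_pair zero_ne_one).le
  have h3 : qq K = 2 := le_antisymm (card_kk (K := K) ▸ h1) two_le_qq
  refine ⟨h3, (Nat.prime_dvd_prime_iff_eq Tri.pp Nat.prime_two).1 (h3 ▸ dvd_pow_self _ ?_), by rw [card_K, h3]; rfl⟩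
  have := Tri.n1 (K := K)
  omega

/-- PROOF.  `K` is a vector space of dimension three over `ZMod 2` (`ZMod.algebra`, `Module.card_eq_pow_finrank`); additive
permutations are linear (`AddMonoidHom.toZModLinearMap`), so `Γ` embeds in `GL (Fin 3) (ZMod 2)` (`Module.finBasisOfFinrankEq`,
`LinearMap.toMatrix`, or `Matrix.GeneralLinearGroup.toLin'`), of order `168` (`Matrix.card_GL_field`). -/
theorem card_dvd_168 (h2 : ∀ s : K, θ s = s → s = 0 ∨ s = 1) {Γ : Subgroup (Equiv.Perm K)}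
    (hΓ : ∀ g ∈ Γ, ∀ x y, g (x + y) = g x + g y) : Nat.card Γ ∣ 168 := by
  obtain ⟨-, hp, hc⟩ := qq_two h2
  have : CharP K 2 := hp ▸ Tri.ch
  let _ := ZMod.algebra K 2
  have h3 : Module.finrank (ZMod 2) K = 3 := by
    rw [Module.natCard_eq_pow_finrank (K := ZMod 2), Nat.card_zmod] at hc
    exact Nat.pow_right_injective le_rfl hc
  let φ : Γ →* Module.End (ZMod 2) K :=
    { toFun := fun g => (AddMonoidHom.mk' g.1 (hΓ g g.2)).toZModLinearMap 2
      map_one' := LinearMap.ext fun _ => rfl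
      map_mul' := fun _ _ => LinearMap.ext fun _ => rfl }
  have h4 := card_dvd_of_injective φ.toHomUnits fun a b e =>
    Subtype.ext (Equiv.ext fun x => LinearMap.congr_fun (congrArg Units.val e) x)
  rw [← Nat.card_congr (Matrix.GeneralLinearGroup.toLin' (Module.finBasisOfFinrankEq _ _ h3)).toEquiv,
    Matrix.card_GL_field] at h4
  simpa [Fin.prod_univ_succ] using h4

theorem two_syl {G : Type*} [Group G] [Finite G] {p : ℕ} [Fact p.Prime] {A Γ : Subgroup G} (h : Nat.card Γ ∣ 168)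
    (h1 : A ≤ Γ) (h2 : Nat.card A = p) (h3 : ¬ p * p ∣ 168) : SylIn p A Γ :=
  sylIn_of_not_dvd_relIndex (IsPGroup.of_card (n := 1) (by rw [h2, pow_one])) fun k => h3 (by
    refine Dvd.dvd.trans ?_ h
    rw [← (A.subgroupOf Γ).card_mul_index, Nat.card_congr (subgroupOfEquivOfLe h1).toEquiv, h2]
    exact Nat.mul_dvd_mul_left p k)

/-- PROOF.  `#H ∣ 21`.  `P = {sl r 1}` has order `7`, `C = zpowers (sl 1 (θe K))` has order `3`; both are Sylow subgroups of `Γ` as
`49, 9 ∤ 168` (`Fus.SylIn` with `SylIn.exists_conj`, or `Sylow` of `↥Γ`).  If `7 ∤ #H` then `H` is a `3`-group, conjugate into `C`.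
Otherwise an element `g ∈ H` of order `7` generates a normal subgroup of `H` (index `1` or `3`; Sylow count, or
`Subgroup.normal_of_index_eq_minFac_card`), and `γ (zpowers g) γ⁻¹ = P`.  For `h ∈ H`, `h' = γ h γ⁻¹` normalises `P`:
`h' (x * y) = m x * h' y` with `m x = h' x / h' 1` (also for `x = 0`); `U5F.isot` with `f = m`, `g = h = h'`. -/
theorem two_conj (h2 : ∀ s : K, θ s = s → s = 0 ∨ s = 1) {Γ H : Subgroup (Equiv.Perm K)}
    (hΓ : ∀ g ∈ Γ, ∀ x y, g (x + y) = g x + g y) (hs : ∀ r f, sl r f ∈ Γ) (hH : H ≤ Γ) (ho : ¬ 2 ∣ Nat.card H) :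
    ∃ γ ∈ Γ, ∀ h ∈ H, ∃ r f, γ * h * γ⁻¹ = sl r f := by
  have hc := (qq_two h2).2.2
  have h1 := card_dvd_168 h2 hΓ
  have : Fact (Nat.Prime 7) := ⟨by norm_num⟩
  have h3 : Nat.card H ∣ 21 := Nat.Coprime.dvd_of_dvd_mul_left (m := 2 ^ 3)
    (((Nat.Prime.coprime_iff_not_dvd Nat.prime_two).2 ho).symm.pow_right 3) ((card_dvd_of_le hH).trans h1)
  by_cases h7 : 7 ∣ Nat.card H
  · obtain ⟨g, hg⟩ := exists_prime_orderOf_dvd_card' 7 h7
    have h4 := (zpowers g).card_mul_index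
    rw [Nat.card_zpowers, hg] at h4
    have n : (zpowers g).Normal := by
      rw [← h4] at h3
      rcases (Nat.dvd_prime Nat.prime_three).1 ((Nat.mul_dvd_mul_iff_left (by norm_num : 0 < 7)).1 h3) with e | e
      · rw [index_eq_one.1 e]; infer_instance
      · exact normal_of_index_eq_minFac_card (by rw [← h4, e]; norm_num)
    have h5 : (MulAction.toPermHom Kˣ K).range ≤ Γ := by
      rintro _ ⟨r, rfl⟩
      exact hs r (RingEquiv.refl K)
    have h6 : (zpowers g).map H.subtype ≤ Γ := (map_subtype_le _).trans hH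
    obtain ⟨γ, hγ, e⟩ := (two_syl h1 h5 (p := 7) (by
      rw [← Nat.card_congr (MonoidHom.ofInjective MulAction.toPerm_injective).toEquiv, Nat.card_units, hc])
      (by norm_num)).exists_conj_eq h5 (two_syl h1 h6 (by
        rw [card_map_of_injective H.subtype_injective, Nat.card_zpowers, hg]) (by norm_num)) h6
    refine ⟨γ, hγ, fun h hh => ?_⟩
    have ad := hΓ _ (mul_mem (mul_mem hγ (hH hh)) (inv_mem hγ))
    have k : ∀ r : Kˣ, ∃ s : Kˣ, ∀ y, (γ * h * γ⁻¹) (r * y) = s * (γ * h * γ⁻¹) y := fun r => by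
      obtain ⟨_, ⟨b, hb, rfl⟩, k1⟩ := e.ge ⟨r, rfl⟩
      obtain ⟨s, k2⟩ := e.le (mem_map_of_mem _ (mem_map_of_mem _ (n.conj_mem b hb ⟨h, hh⟩)))
      have k3 : γ * h * γ⁻¹ * MulAction.toPermHom Kˣ K r = MulAction.toPermHom Kˣ K s * (γ * h * γ⁻¹) := by
        rw [← k1, k2]
        change _ * (γ * b * γ⁻¹) = γ * (h * b * h⁻¹) * γ⁻¹ * _
        group
      exact ⟨s, fun y => Equiv.congr_fun k3 y⟩
    generalize γ * h * γ⁻¹ = u at ad k
    have u0 : u 0 = 0 := by simpa using ad 0 0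
    have u1 : u 1 ≠ 0 := fun e => one_ne_zero (u.injective (e.trans u0.symm))
    obtain ⟨φ, -, k1, -⟩ := isot (f := fun x => u x / u 1) (g := u) ad (by simpa using u1) u1 fun x y => by
      rcases eq_or_ne x 0 with rfl | hx
      · rw [zero_mul, u0, zero_div, zero_mul]
      obtain ⟨s, k1⟩ := k (Units.mk0 x hx)
      have k2 := k1 1
      rw [Units.val_mk0, mul_one] at k2
      rw [k2, mul_div_cancel_right₀ _ u1]
      exact k1 y
    exact ⟨Units.mk0 _ u1, φ, Equiv.ext k1⟩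
  · obtain ⟨k, -, hk⟩ := (Nat.dvd_prime_pow Nat.prime_three (m := 1)).1 (Nat.Coprime.dvd_of_dvd_mul_left (m := 7)
      ((Nat.Prime.coprime_iff_not_dvd this.out).2 h7).symm h3)
    obtain ⟨γ, hγ, e⟩ := (two_syl h1 (zpowers_le.2 (hs 1 (θe K))) (p := 3) (by
      rw [Nat.card_zpowers]
      refine orderOf_eq_prime (Equiv.ext fun x => ?_) fun e => ?_
      · simp [pow_three, sl_apply, θe_apply]
      · obtain ⟨s, k⟩ := exists_θ_ne (K := K)
        exact k (by simpa [sl_apply, θe_apply] using Equiv.congr_fun e s)) (by norm_num)).exists_conj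
      (IsPGroup.of_card hk) hH
    refine ⟨γ, hγ, fun h hh => ?_⟩
    obtain ⟨f, k⟩ := (zpowers_le (H := (MulAction.toPermHom (RingAut K) K).range)).2
      ⟨θe K, Equiv.ext fun x => (one_mul _).symm⟩ (e h hh)
    exact ⟨1, f, k ▸ Equiv.ext fun x => (one_mul _).symm⟩

end Cfsg.Agent.D4F
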