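import Cfsg.Agent.RFS.Es

/-!
The Sylow `p`-subgroup `S = U K` of `³D₄(q)` in coordinates (`K` has `q³` elements, `θ t = t ^ q`, `k` is the fixed field of `θ`).

`s ∈ k` is `θ s = s` (the subfield is `kk K`).  `T` is the trace, `N` the norm, `χ s = θ s * θ (θ s)`, `B` its polarisation.
Roots: `a`, `b`, `c = a + b`, `d = 2a + b`, `e = 3a + b`, `z = 3a + 2b`; the coordinates `b, e, z` lie in `k`; an element is
`Xb b * Xc c * Xz z * Xd d * Xe e * Xa a`.  The homomorphisms `a, b : S → K` have kernels `Qs` (`q^{1+8}`), `Rs` (`q^{2+3+6}`).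
Upper central series `Z1 < Z2 < Z3 < Z4 < S`, `Z2 = Z(Rs)`, `Z4 = Qs ⊓ Rs`.
Commutators `cm g h = g h g⁻¹ h⁻¹`: see `cm_c`, `cm_d4`, `cm_e3`, `cm_z2`, `cm_dR`, `cm_zQ`, ...
Coordinates: `ext <;> simp only [UE, h..] <;> ring` (`UE` unfolds `T N χ B`; `UC` is the part that does not).
-/

set_option autoImplicit false
set_option linter.unusedSectionVars false
set_option linter.unusedSimpArgs false
set_option linter.unnecessarySeqFocus false

namespace Cfsg.Agent.D4F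

open Subgroup Cfsg.Agent.RFS

/-- A field with `q³` elements, `q = p ^ n`. -/
class Tri (K : Type*) [Field K] where
  p : ℕ
  n : ℕ
  pp : p.Prime
  n1 : 1 ≤ n
  ch : CharP K p
  fin : Finite K
  card : Nat.card K = (p ^ n) ^ 3

variable {K : Type*} [Field K] [Tri K]

instance Tri.instFact : Fact (Tri.p K).Prime := ⟨Tri.pp⟩
instance (priority := 50) Tri.instCharP : CharP K (Tri.p K) := Tri.ch
instance (priority := 50) Tri.instFinite : Finite K := Tri.fin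

/-- The order of the small field. -/
def qq (K : Type*) [Field K] [Tri K] : ℕ := Tri.p K ^ Tri.n K

theorem card_K : Nat.card K = qq K ^ 3 := Tri.card

theorem two_le_qq : 2 ≤ qq K :=
  (Tri.pp (K := K)).two_le.trans (Nat.le_self_pow (by have := Tri.n1 (K := K); omega) _)

/-- The automorphism of order three. -/
def θ : K →+* K := iterateFrobenius K (Tri.p K) (Tri.n K)

theorem θ_def (t : K) : θ t = t ^ qq K := rfl

@[simp] theorem θθθ (t : K) : θ (θ (θ t)) = t := by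
  have := Fintype.ofFinite K
  rw [θ_def, θ_def, θ_def, ← pow_mul, ← pow_mul, ← pow_three, ← card_K, Nat.card_eq_fintype_card, FiniteField.pow_card]

theorem θ_eq_zero {t : K} : θ t = 0 ↔ t = 0 := map_eq_zero _

theorem θ_ne_zero {t : K} (h : t ≠ 0) : θ t ≠ 0 := (map_ne_zero _).2 h

theorem θ_inj {s t : K} : θ s = θ t ↔ s = t := (θ (K := K)).injective.eq_iff

/-- Field automorphisms commute with `θ`. -/
theorem fθ (f : K ≃+* K) (t : K) : f (θ t) = θ (f t) := map_pow f t _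

/-- The trace. -/
def T (s : K) : K := s + θ s + θ (θ s)
/-- The norm. -/
def N (s : K) : K := s * θ s * θ (θ s)
/-- The adjoint of the norm. -/
def χ (s : K) : K := θ s * θ (θ s)
/-- The polarisation of `χ`. -/
def B (s u : K) : K := θ s * θ (θ u) + θ (θ s) * θ u

theorem θT (s : K) : θ (T s) = T s := by simp only [T, map_add, θθθ]; ring
theorem θN (s : K) : θ (N s) = N s := by simp only [N, map_mul, θθθ]; ring
theorem T_add (s t : K) : T (s + t) = T s + T t := by simp only [T, map_add]; ring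
theorem T_sub (s t : K) : T (s - t) = T s - T t := by simp only [T, map_sub]; ring
theorem T_neg (s : K) : T (-s) = -T s := by simp only [T, map_neg]; ring
theorem T_zero : T (0 : K) = 0 := by simp [T]
theorem T_θ (s : K) : T (θ s) = T s := by simp only [T, θθθ]; ring
theorem T_smul {r : K} (h : θ r = r) (s : K) : T (r * s) = r * T s := by simp only [T, map_mul, h]; ring
theorem N_mul (s t : K) : N (s * t) = N s * N t := by simp only [N, map_mul]; ring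
theorem N_one : N (1 : K) = 1 := by simp [N]
theorem N_zero : N (0 : K) = 0 := by simp [N]
theorem N_fix {r : K} (h : θ r = r) : N r = r ^ 3 := by simp only [N, h]; ring
theorem mul_χ (s : K) : s * χ s = N s := by simp only [N, χ]; ring
theorem χ_mul (s t : K) : χ (s * t) = χ s * χ t := by simp only [χ, map_mul]; ring
theorem χ_add (s t : K) : χ (s + t) = χ s + B s t + χ t := by simp only [χ, B, map_add]; ring
theorem χ_zero : χ (0 : K) = 0 := by simp [χ]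
theorem χ_one : χ (1 : K) = 1 := by simp [χ]
theorem χ_ne_zero {s : K} (h : s ≠ 0) : χ s ≠ 0 := mul_ne_zero (θ_ne_zero h) (θ_ne_zero (θ_ne_zero h))
theorem N_ne_zero {s : K} (h : s ≠ 0) : N s ≠ 0 := mul_χ s ▸ mul_ne_zero h (χ_ne_zero h)
theorem N_eq_zero {s : K} : N s = 0 ↔ s = 0 := ⟨fun h => by_contra fun k => N_ne_zero k h, fun h => by rw [h, N_zero]⟩
theorem N_add (s t : K) : N (s + t) = N s + T (χ s * t) + T (s * χ t) + N t := by
  simp only [N, T, χ, map_add, map_mul, θθθ]; ring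
theorem B_comm (s t : K) : B s t = B t s := by simp only [B]; ring
theorem B_self (s : K) : B s s = 2 * χ s := by simp only [B, χ]; ring
theorem B_zero (s : K) : B s 0 = 0 := by simp [B]
theorem zero_B (s : K) : B 0 s = 0 := by simp [B]
theorem B_add (s t u : K) : B s (t + u) = B s t + B s u := by simp only [B, map_add]; ring
theorem T_B (s t u : K) : T (s * B t u) = T (t * B s u) := by simp only [T, B, map_add, map_mul, θθθ]; ring

/-- The fixed field. -/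
def kk (K : Type*) [Field K] [Tri K] : Subfield K := RingHom.eqLocusField θ (RingHom.id K)

theorem mem_kk {s : K} : s ∈ kk K ↔ θ s = s := Iff.rfl

theorem card_root_le (n : ℕ) (h : 2 ≤ n) (S : Set K) (hS : ∀ s ∈ S, s ^ n = s) : Nat.card S ≤ n := by
  classical
  have := Fintype.ofFinite K
  have h0 : (Polynomial.X ^ n - Polynomial.X : Polynomial K) ≠ 0 := FiniteField.X_pow_card_sub_X_ne_zero K h
  rw [← FiniteField.X_pow_card_sub_X_natDegree_eq K (p := n) h, Nat.card_coe_set_eq]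
  refine le_trans ?_ ((Multiset.toFinset_card_le _).trans (Polynomial.card_roots' _))
  rw [← Set.ncard_coe_finset]
  exact Set.ncard_le_ncard (fun s hs => by simp [h0, hS s hs]) (Finset.finite_toSet _)

theorem exists_θ_ne : ∃ s : K, θ s ≠ s := by
  by_contra! h
  have h1 := card_root_le _ (two_le_qq (K := K)) (Set.univ : Set K) fun s _ => h s
  rw [Nat.card_univ, card_K] at h1
  have := two_le_qq (K := K)
  nlinarith [Nat.mul_le_mul this this]

/-- `T` as a homomorphism. -/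
def Th : K →+ K := AddMonoidHom.mk' T T_add

theorem card_kk : Nat.card (kk K) = qq K := by
  have h2 := two_le_qq (K := K)
  refine le_antisymm (card_root_le _ h2 (kk K : Set K) fun s hs => hs) ?_
  let f : Kˣ →* Kˣ := powMonoidHom (qq K - 1)
  have h3 : Nat.card f.ker = qq K - 1 := by
    rw [IsCyclic.card_powMonoidHom_ker, Nat.card_units, card_K]
    exact Nat.gcd_eq_right (by simpa using Nat.sub_dvd_pow_sub_pow (qq K) 1 3)
  have h4 : Nat.card f.ker ≤ Nat.card (kk K)ˣ := Nat.card_le_card_of_injective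
    (fun x => Units.mk0 ⟨x.1, by
      have hx : (x.1 : K) ^ (qq K - 1) = 1 := congrArg Units.val (show x.1 ^ (qq K - 1) = 1 from x.2)
      rw [mem_kk, θ_def, ← Nat.sub_add_cancel (by omega : 1 ≤ qq K), pow_succ, hx, one_mul]⟩
      fun e => x.1.ne_zero (congrArg Subtype.val e))
    fun x y e => Subtype.ext (Units.ext (congrArg (fun u : (kk K)ˣ => (u.1 : K)) e))
  rw [Nat.card_units] at h4
  have := Nat.card_pos (α := kk K)
  omega

theorem exists_T_ne : ∃ s : K, T s ≠ 0 := by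
  by_contra! h
  obtain ⟨s, hs⟩ := exists_θ_ne (K := K)
  have k : θ (θ s) ≠ s := fun e => hs ((congrArg θ e).symm.trans (θθθ s))
  have k1 : θ (θ s) ≠ θ s := fun e => hs (θ_inj.1 e)
  have h6 := h (s * s * θ s)
  have h7 := h (s * s * θ (θ s))
  simp only [T, map_mul, θθθ] at h6 h7
  have : ((θ s - s) * (θ (θ s) - s) * (θ (θ s) - θ s)) = 0 := by linear_combination h7 - h6
  exact mul_ne_zero (mul_ne_zero (sub_ne_zero.2 hs) (sub_ne_zero.2 k)) (sub_ne_zero.2 k1) this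

/-- The trace form is onto `k`. -/
theorem exists_T {a r : K} (ha : a ≠ 0) (hr : θ r = r) : ∃ s, T (a * s) = r := by
  obtain ⟨s, hs⟩ := exists_T_ne (K := K)
  refine ⟨r / T s * s / a, ?_⟩
  rw [mul_div_cancel₀ _ ha, T_smul (by rw [map_div₀, hr, θT]), div_mul_cancel₀ _ hs]

/-- The trace form is non-degenerate. -/
theorem eq_zero_of_T {a : K} (h : ∀ s, T (a * s) = 0) : a = 0 := by_contra fun ha =>
  let ⟨s, hs⟩ := exists_T ha (map_one θ); one_ne_zero (hs.symm.trans (h s))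

theorem eq_zero_of_B {a : K} (h : ∀ s, B a s = 0) : a = 0 := by_contra fun ha => by
  obtain ⟨s, hs⟩ := exists_θ_ne (K := K)
  have h1 := h a
  have h2 := h (a * s)
  simp only [B, map_mul] at h1 h2
  exact mul_ne_zero (χ_ne_zero ha) (sub_ne_zero.2 fun e => hs (θ_inj.1 e))
    (by rw [χ]; linear_combination h2 - θ s * h1 : χ a * (θ (θ s) - θ s) = 0)

theorem B_eq_zero {a c : K} (ha : a ≠ 0) (h : B a c = 0) : ∃ r, θ r = r ∧ 2 * r = 0 ∧ c = r * a := by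
  obtain ⟨r, rfl⟩ : ∃ r, c = r * a := ⟨c / a, by field_simp⟩
  have h1 : θ (θ r) + θ r = 0 := mul_left_cancel₀ (χ_ne_zero ha) (by
    simp only [B, χ, map_mul] at h ⊢; linear_combination h)
  have h2 := congrArg θ h1
  have h3 := congrArg θ h2
  simp only [map_add, map_zero, θθθ] at h2 h3
  exact ⟨r, by linear_combination h1 - h2, by linear_combination h2 + h3 - h1, rfl⟩

theorem B_smul {r : K} (h : θ r = r) (s t : K) : B s (r * t) = r * B s t := by simp only [B, map_mul, h]; ring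

theorem exists_of_T {s : K} (h : T s = 0) : ∃ t, s = θ t - t := by
  obtain ⟨u, hu⟩ := exists_T (one_ne_zero (α := K)) (map_one θ)
  refine ⟨-(s * θ u + (s + θ s) * θ (θ u)), ?_⟩
  simp only [T, one_mul, map_add, map_mul, map_neg, θθθ] at h hu ⊢
  linear_combination (u : K) * h - s * hu

theorem exists_pow_of_pow {m l : ℕ} (h : m * l = qq K ^ 3 - 1) {s : K} (hs : s ^ m = 1) (hm : 0 < m) :
    ∃ t : K, t ≠ 0 ∧ t ^ l = s := by
  obtain ⟨g, hg⟩ := IsCyclic.exists_monoid_generator (α := Kˣ)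
  have s0 : s ≠ 0 := by rintro rfl; simp [hm.ne'] at hs
  obtain ⟨j, hj⟩ := hg (Units.mk0 s s0)
  have ho : orderOf g = m * l := by
    rw [h, ← card_K, ← Nat.card_units, orderOf_eq_card_of_forall_mem_powers hg]
  have h1 : g ^ (m * j) = 1 := Units.ext (by
    rw [mul_comm, pow_mul, show g ^ j = _ from hj]; simpa using hs)
  obtain ⟨i, rfl⟩ := Nat.dvd_of_mul_dvd_mul_left hm (ho ▸ orderOf_dvd_of_pow_eq_one h1)
  exact ⟨(g ^ i : Kˣ), Units.ne_zero _, by simpa [← pow_mul, mul_comm] using congrArg Units.val hj⟩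

theorem qq_fac : (qq K - 1) * (qq K ^ 2 + qq K + 1) = qq K ^ 3 - 1 := by
  obtain ⟨r, hr⟩ := Nat.exists_eq_add_of_le' (two_le_qq (K := K))
  rw [hr]
  exact (Nat.sub_eq_of_eq_add (by rw [show r + 2 - 1 = r + 1 by omega]; ring)).symm

theorem N_def (s : K) : N s = s ^ (qq K ^ 2 + qq K + 1) := by simp only [N, θ_def]; ring

theorem θ_eq_mul (s : K) : θ s = s ^ (qq K - 1) * s := by
  rw [θ_def, ← pow_succ, Nat.sub_add_cancel (one_le_two.trans two_le_qq)]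

/-- The norm is onto `k`. -/
theorem exists_N {r : K} (h : θ r = r) : ∃ s, N s = r := by
  by_cases h0 : r = 0
  · exact ⟨0, by rw [h0, N_zero]⟩
  obtain ⟨t, -, e⟩ := exists_pow_of_pow qq_fac (s := r) (mul_right_cancel₀ h0 (by rw [← θ_eq_mul, h, one_mul]))
    (by have := two_le_qq (K := K); omega)
  exact ⟨t, (N_def t).trans e⟩

/-- Hilbert's theorem 90. -/
theorem exists_h90 {s : K} (h : N s = 1) : ∃ t : K, t ≠ 0 ∧ θ t = s * t := by
  obtain ⟨t, h0, e⟩ := exists_pow_of_pow ((mul_comm _ _).trans qq_fac) (s := s) ((N_def s).symm.trans h) (by omega)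
  exact ⟨t, h0, by rw [θ_eq_mul, e]⟩

/-- Coordinates. -/
@[ext] structure U (K : Type*) [Field K] [Tri K] where
  a : K
  b : K
  c : K
  d : K
  e : K
  z : K
  hb : θ b = b
  he : θ e = e
  hz : θ z = z

instance : Mul (U K) := ⟨fun g h =>
  { a := g.a + h.a
    b := g.b + h.b
    c := g.c + h.c - h.b * g.a
    d := g.d + h.d + χ g.a * h.b - B g.a h.c
    e := g.e + h.e + N g.a * h.b - T (χ g.a * h.c) + T (g.a * h.d)
    z := g.z + h.z + N g.a * h.b ^ 2 + T (χ h.c * g.a) - h.b * T (h.c * χ g.a) - g.e * h.b - T (h.c * g.d) +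
      h.b * T (g.a * g.d)
    hb := by simp only [map_add, g.hb, h.hb]
    he := by simp only [map_add, map_sub, map_mul, θT, θN, g.he, h.he, h.hb]
    hz := by simp only [map_add, map_sub, map_mul, map_pow, θT, θN, g.hz, h.hz, g.he, h.hb] }⟩

instance : One (U K) := ⟨⟨0, 0, 0, 0, 0, 0, by simp, by simp, by simp⟩⟩

instance : Inv (U K) := ⟨fun g =>
  { a := -g.a
    b := -g.b
    c := -g.c - g.b * g.a
    d := -g.d - χ g.a * g.b - B g.a g.c
    e := -g.e + N g.a * g.b + T (χ g.a * g.c) + T (g.a * g.d)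
    z := -g.z - N g.a * g.b ^ 2 - T (χ g.c * g.a) - g.b * T (χ g.a * g.c) - g.e * g.b - T (g.c * g.d)
    hb := by simp only [map_neg, g.hb]
    he := by simp only [map_add, map_neg, map_mul, θT, θN, g.he, g.hb]
    hz := by simp only [map_neg, map_sub, map_mul, map_pow, θT, θN, g.hz, g.he, g.hb] }⟩

/-- Root elements. -/
def Xa (t : K) : U K := ⟨t, 0, 0, 0, 0, 0, by simp, by simp, by simp⟩
/-- Root elements. -/
def Xb (t : K) (h : θ t = t) : U K := ⟨0, t, 0, 0, 0, 0, h, by simp, by simp⟩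
/-- Root elements. -/
def Xc (t : K) : U K := ⟨0, 0, t, 0, 0, 0, by simp, by simp, by simp⟩
/-- Root elements. -/
def Xd (t : K) : U K := ⟨0, 0, 0, t, 0, 0, by simp, by simp, by simp⟩
/-- Root elements. -/
def Xe (t : K) (h : θ t = t) : U K := ⟨0, 0, 0, 0, t, 0, by simp, h, by simp⟩
/-- Root elements. -/
def Xz (t : K) (h : θ t = t) : U K := ⟨0, 0, 0, 0, 0, t, by simp, by simp, h⟩

/-- The simp set for coordinates, `T N χ B` not unfolded. -/
theorem UC :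
    ((∀ g h : U K, (g * h).a = g.a + h.a) ∧ (∀ g h : U K, (g * h).b = g.b + h.b) ∧
      (∀ g h : U K, (g * h).c = g.c + h.c - h.b * g.a) ∧
      (∀ g h : U K, (g * h).d = g.d + h.d + χ g.a * h.b - B g.a h.c) ∧
      (∀ g h : U K, (g * h).e = g.e + h.e + N g.a * h.b - T (χ g.a * h.c) + T (g.a * h.d)) ∧
      ∀ g h : U K, (g * h).z = g.z + h.z + N g.a * h.b ^ 2 + T (χ h.c * g.a) - h.b * T (h.c * χ g.a) - g.e * h.b -
        T (h.c * g.d) + h.b * T (g.a * g.d)) ∧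
    ((∀ g : U K, g⁻¹.a = -g.a) ∧ (∀ g : U K, g⁻¹.b = -g.b) ∧ (∀ g : U K, g⁻¹.c = -g.c - g.b * g.a) ∧
      (∀ g : U K, g⁻¹.d = -g.d - χ g.a * g.b - B g.a g.c) ∧
      (∀ g : U K, g⁻¹.e = -g.e + N g.a * g.b + T (χ g.a * g.c) + T (g.a * g.d)) ∧
      ∀ g : U K, g⁻¹.z = -g.z - N g.a * g.b ^ 2 - T (χ g.c * g.a) - g.b * T (χ g.a * g.c) - g.e * g.b - T (g.c * g.d)) ∧
    ((1 : U K).a = 0 ∧ (1 : U K).b = 0 ∧ (1 : U K).c = 0 ∧ (1 : U K).d = 0 ∧ (1 : U K).e = 0 ∧ (1 : U K).z = 0) ∧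
    (∀ t : K, (Xa t).a = t ∧ (Xa t).b = 0 ∧ (Xa t).c = 0 ∧ (Xa t).d = 0 ∧ (Xa t).e = 0 ∧ (Xa t).z = 0) ∧
    (∀ (t : K) h, (Xb t h).a = 0 ∧ (Xb t h).b = t ∧ (Xb t h).c = 0 ∧ (Xb t h).d = 0 ∧ (Xb t h).e = 0 ∧ (Xb t h).z = 0) ∧
    (∀ t : K, (Xc t).a = 0 ∧ (Xc t).b = 0 ∧ (Xc t).c = t ∧ (Xc t).d = 0 ∧ (Xc t).e = 0 ∧ (Xc t).z = 0) ∧
    (∀ t : K, (Xd t).a = 0 ∧ (Xd t).b = 0 ∧ (Xd t).c = 0 ∧ (Xd t).d = t ∧ (Xd t).e = 0 ∧ (Xd t).z = 0) ∧
    (∀ (t : K) h, (Xe t h).a = 0 ∧ (Xe t h).b = 0 ∧ (Xe t h).c = 0 ∧ (Xe t h).d = 0 ∧ (Xe t h).e = t ∧ (Xe t h).z = 0) ∧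
    (∀ (t : K) h, (Xz t h).a = 0 ∧ (Xz t h).b = 0 ∧ (Xz t h).c = 0 ∧ (Xz t h).d = 0 ∧ (Xz t h).e = 0 ∧ (Xz t h).z = t) ∧
    ((∀ s : K, s + 0 = s) ∧ (∀ s : K, 0 + s = s) ∧ (∀ s : K, s - 0 = s) ∧ (∀ s : K, 0 - s = -s) ∧ (∀ s : K, s * 0 = 0) ∧
      (∀ s : K, 0 * s = 0) ∧ (∀ s : K, s * 1 = s) ∧ (∀ s : K, 1 * s = s) ∧ -(0 : K) = 0 ∧ (∀ s : K, - -s = s) ∧
      (0 : K) ^ 2 = 0) ∧
    T (0 : K) = 0 ∧ N (0 : K) = 0 ∧ χ (0 : K) = 0 ∧ (∀ s : K, B s 0 = 0) ∧ ∀ s : K, B 0 s = 0 :=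
  ⟨⟨fun _ _ => rfl, fun _ _ => rfl, fun _ _ => rfl, fun _ _ => rfl, fun _ _ => rfl, fun _ _ => rfl⟩,
    ⟨fun _ => rfl, fun _ => rfl, fun _ => rfl, fun _ => rfl, fun _ => rfl, fun _ => rfl⟩,
    ⟨rfl, rfl, rfl, rfl, rfl, rfl⟩, fun _ => ⟨rfl, rfl, rfl, rfl, rfl, rfl⟩,
    fun _ _ => ⟨rfl, rfl, rfl, rfl, rfl, rfl⟩, fun _ => ⟨rfl, rfl, rfl, rfl, rfl, rfl⟩,
    fun _ => ⟨rfl, rfl, rfl, rfl, rfl, rfl⟩, fun _ _ => ⟨rfl, rfl, rfl, rfl, rfl, rfl⟩,
    fun _ _ => ⟨rfl, rfl, rfl, rfl, rfl, rfl⟩,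
    ⟨add_zero, zero_add, sub_zero, zero_sub, mul_zero, zero_mul, mul_one, one_mul, neg_zero, neg_neg,
      zero_pow two_ne_zero⟩, T_zero, N_zero, χ_zero, B_zero, zero_B⟩

/-- The simp set that unfolds `T N χ B` and pushes `θ` inside. -/
theorem TE :
    ((∀ s : K, T s = s + θ s + θ (θ s)) ∧ (∀ s : K, N s = s * θ s * θ (θ s)) ∧ (∀ s : K, χ s = θ s * θ (θ s)) ∧
      ∀ s u : K, B s u = θ s * θ (θ u) + θ (θ s) * θ u) ∧
    ((∀ g : U K, θ g.b = g.b) ∧ (∀ g : U K, θ g.e = g.e) ∧ ∀ g : U K, θ g.z = g.z) ∧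
    (∀ s t : K, θ (s + t) = θ s + θ t) ∧ (∀ s t : K, θ (s - t) = θ s - θ t) ∧ (∀ s t : K, θ (s * t) = θ s * θ t) ∧
      (∀ s : K, θ (-s) = -θ s) ∧ (∀ s : K, θ s⁻¹ = (θ s)⁻¹) ∧ (∀ s t : K, θ (s / t) = θ s / θ t) ∧
      (∀ (s : K) (n : ℕ), θ (s ^ n) = θ s ^ n) ∧ θ (0 : K) = 0 ∧ θ (1 : K) = 1 ∧ θ (2 : K) = 2 ∧ θ (3 : K) = 3 ∧
      ∀ s : K, θ (θ (θ s)) = s :=
  ⟨⟨fun _ => rfl, fun _ => rfl, fun _ => rfl, fun _ _ => rfl⟩, ⟨U.hb, U.he, U.hz⟩, map_add θ, map_sub θ, map_mul θ,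
    map_neg θ, map_inv₀ θ, map_div₀ θ, map_pow θ, map_zero θ, map_one θ, map_ofNat θ 2, map_ofNat θ 3, θθθ⟩

/-- The full simp set. -/
theorem UE : type_of% (UC (K := K)) ∧ type_of% (TE (K := K)) := ⟨UC, TE⟩

instance : Group (U K) :=
  Group.ofLeftAxioms (fun _ _ _ => by ext <;> simp only [UE] <;> ring) (fun _ => by ext <;> simp only [UC])
    fun _ => by ext <;> simp only [UE] <;> ring

/-- The centre. -/
def Z1 : Subgroup (U K) where
  carrier := {g | g.a = 0 ∧ g.b = 0 ∧ g.c = 0 ∧ g.d = 0 ∧ g.e = 0}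
  mul_mem' h k := by simp only [Set.mem_ofPred_eq] at h k; simp only [Set.mem_ofPred_eq, UC, h, k, and_self]
  one_mem' := by simp only [Set.mem_ofPred_eq, UC, and_self]
  inv_mem' h := by simp only [Set.mem_ofPred_eq] at h; simp only [Set.mem_ofPred_eq, UC, h, and_self]

/-- The second centre. -/
def Z2 : Subgroup (U K) where
  carrier := {g | g.a = 0 ∧ g.b = 0 ∧ g.c = 0 ∧ g.d = 0}
  mul_mem' h k := by simp only [Set.mem_ofPred_eq] at h k; simp only [Set.mem_ofPred_eq, UC, h, k, and_self]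
  one_mem' := by simp only [Set.mem_ofPred_eq, UC, and_self]
  inv_mem' h := by simp only [Set.mem_ofPred_eq] at h; simp only [Set.mem_ofPred_eq, UC, h, and_self]

/-- The third centre. -/
def Z3 : Subgroup (U K) where
  carrier := {g | g.a = 0 ∧ g.b = 0 ∧ g.c = 0}
  mul_mem' h k := by simp only [Set.mem_ofPred_eq] at h k; simp only [Set.mem_ofPred_eq, UC, h, k, and_self]
  one_mem' := by simp only [Set.mem_ofPred_eq, UC, and_self]
  inv_mem' h := by simp only [Set.mem_ofPred_eq] at h; simp only [Set.mem_ofPred_eq, UC, h, and_self]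

/-- The fourth centre. -/
def Z4 : Subgroup (U K) where
  carrier := {g | g.a = 0 ∧ g.b = 0}
  mul_mem' h k := by simp only [Set.mem_ofPred_eq] at h k; simp only [Set.mem_ofPred_eq, UC, h, k, and_self]
  one_mem' := by simp only [Set.mem_ofPred_eq, UC, and_self]
  inv_mem' h := by simp only [Set.mem_ofPred_eq] at h; simp only [Set.mem_ofPred_eq, UC, h, and_self]

/-- The unipotent radical `q^{1+8}`. -/
def Qs : Subgroup (U K) where
  carrier := {g | g.a = 0}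
  mul_mem' h k := by simp only [Set.mem_ofPred_eq] at h k; simp only [Set.mem_ofPred_eq, UC, h, k]
  one_mem' := by simp only [Set.mem_ofPred_eq, UC]
  inv_mem' h := by simp only [Set.mem_ofPred_eq] at h; simp only [Set.mem_ofPred_eq, UC, h]

/-- The unipotent radical `q^{2+3+6}`. -/
def Rs : Subgroup (U K) where
  carrier := {g | g.b = 0}
  mul_mem' h k := by simp only [Set.mem_ofPred_eq] at h k; simp only [Set.mem_ofPred_eq, UC, h, k]
  one_mem' := by simp only [Set.mem_ofPred_eq, UC]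
  inv_mem' h := by simp only [Set.mem_ofPred_eq] at h; simp only [Set.mem_ofPred_eq, UC, h]

theorem mem_Z1 {g : U K} : g ∈ Z1 ↔ g.a = 0 ∧ g.b = 0 ∧ g.c = 0 ∧ g.d = 0 ∧ g.e = 0 := Iff.rfl
theorem mem_Z2 {g : U K} : g ∈ Z2 ↔ g.a = 0 ∧ g.b = 0 ∧ g.c = 0 ∧ g.d = 0 := Iff.rfl
theorem mem_Z3 {g : U K} : g ∈ Z3 ↔ g.a = 0 ∧ g.b = 0 ∧ g.c = 0 := Iff.rfl
theorem mem_Z4 {g : U K} : g ∈ Z4 ↔ g.a = 0 ∧ g.b = 0 := Iff.rfl
theorem mem_Qs {g : U K} : g ∈ Qs ↔ g.a = 0 := Iff.rfl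
theorem mem_Rs {g : U K} : g ∈ Rs ↔ g.b = 0 := Iff.rfl

theorem decomp (g : U K) : g = Xb g.b g.hb * Xc g.c * Xz g.z g.hz * Xd g.d * Xe g.e g.he * Xa g.a := by
  ext <;> simp only [UC]

theorem cm_a (g h : U K) : (cm g h).a = 0 := by simp only [cm, UC]; ring
theorem cm_b (g h : U K) : (cm g h).b = 0 := by simp only [cm, UC]; ring
theorem cm_c (g h : U K) : (cm g h).c = g.b * h.a - h.b * g.a := by simp only [cm, UC]; ring

theorem cm_d4 (g : U K) {n : U K} (h : n ∈ Z4) : (cm g n).d = -B g.a n.c := by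
  simp only [cm, UE, h.1, h.2]; ring

theorem cm_e3 (g : U K) {n : U K} (h : n ∈ Z3) : (cm g n).e = T (g.a * n.d) := by
  simp only [cm, UE, h.1, h.2.1, h.2.2]; ring

theorem cm_z2 (g : U K) {n : U K} (h : n ∈ Z2) : (cm g n).z = g.b * n.e := by
  rw [mem_Z2] at h
  simp only [cm, UE, h]; ring

theorem cm_dR {g h : U K} (hg : g ∈ Rs) (hh : h ∈ Rs) : (cm g h).d = B h.a g.c - B g.a h.c := by
  simp only [cm, UE, mem_Rs.1 hg, mem_Rs.1 hh]; ring

theorem cm_zR3 {g n : U K} (hg : g ∈ Rs) (h : n ∈ Z3) : (cm g n).z = T (g.c * n.d) := by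
  simp only [cm, UE, mem_Rs.1 hg, h.1, h.2.1, h.2.2]; ring

/-- The symplectic form on `Qs / Z1`. -/
def sf (g h : U K) : K := g.b * h.e - h.b * g.e + T (g.c * h.d) - T (h.c * g.d)

theorem cm_zQ {g h : U K} (hg : g ∈ Qs) (hh : h ∈ Qs) : (cm g h).z = sf g h := by
  simp only [cm, sf, UE, mem_Qs.1 hg, mem_Qs.1 hh]; ring

theorem cm_S_S (g h : U K) : cm g h ∈ Z4 := ⟨cm_a g h, cm_b g h⟩

theorem cm_S_Z4 (g : U K) {n : U K} (h : n ∈ Z4) : cm g n ∈ Z3 :=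
  ⟨cm_a _ _, cm_b _ _, by simp only [cm_c, h.1, h.2, UC]⟩

theorem cm_S_Z3 (g : U K) {n : U K} (h : n ∈ Z3) : cm g n ∈ Z2 :=
  ⟨cm_a _ _, cm_b _ _, by simp only [cm_c, h.1, h.2.1, UC], by simp only [cm_d4 g ⟨h.1, h.2.1⟩, h.2.2, UC]⟩

theorem cm_S_Z2 (g : U K) {n : U K} (h : n ∈ Z2) : cm g n ∈ Z1 :=
  have := cm_S_Z3 g (n := n) ⟨h.1, h.2.1, h.2.2.1⟩
  ⟨this.1, this.2.1, this.2.2.1, this.2.2.2, by simp only [cm_e3 g ⟨h.1, h.2.1, h.2.2.1⟩, h.2.2.2, UC]⟩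

theorem cm_Rs_Rs {g h : U K} (hg : g ∈ Rs) (hh : h ∈ Rs) : cm g h ∈ Z3 :=
  ⟨cm_a _ _, cm_b _ _, by simp only [cm_c, mem_Rs.1 hg, mem_Rs.1 hh, UC]⟩

theorem cm_Qs_Qs {g h : U K} (hg : g ∈ Qs) (hh : h ∈ Qs) : cm g h ∈ Z1 := by
  simp only [mem_Z1, cm, UE, mem_Qs.1 hg, mem_Qs.1 hh]
  refine ⟨trivial, ?_, ?_, ?_, ?_⟩ <;> ring

theorem com_Z1 (g : U K) {z : U K} (h : z ∈ Z1) : g * z = z * g := by
  rw [mem_Z1] at h
  ext <;> simp only [UC, h] <;> ring

theorem com_Z2 {g n : U K} (hg : g ∈ Rs) (h : n ∈ Z2) : g * n = n * g := by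
  rw [mem_Z2] at h
  ext <;> simp only [UC, h, mem_Rs.1 hg] <;> ring

theorem com_Z3 {g n : U K} (hg : g ∈ Z3) (h : n ∈ Z3) : g * n = n * g := by
  rw [mem_Z3] at h hg
  ext <;> simp only [UC, h, hg] <;> ring

theorem normal_of_cm {Ω : Type*} [Group Ω] {L : Subgroup Ω} (h : ∀ g, ∀ n ∈ L, cm g n ∈ L) : L.Normal :=
  ⟨fun n hn g => by simpa [cm] using mul_mem (h g n hn) hn⟩

instance nor_Z1 : (Z1 : Subgroup (U K)).Normal := ⟨fun n hn g => by rwa [com_Z1 g hn, mul_inv_cancel_right]⟩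
instance nor_Z2 : (Z2 : Subgroup (U K)).Normal := normal_of_cm fun g _ h =>
  have k := cm_S_Z2 g h; ⟨k.1, k.2.1, k.2.2.1, k.2.2.2.1⟩
instance nor_Z3 : (Z3 : Subgroup (U K)).Normal := normal_of_cm fun g _ h =>
  have k := cm_S_Z3 g h; ⟨k.1, k.2.1, k.2.2.1⟩
instance nor_Z4 : (Z4 : Subgroup (U K)).Normal := normal_of_cm fun g n _ => cm_S_S g n
instance nor_Qs : (Qs : Subgroup (U K)).Normal := normal_of_cm fun g n _ => cm_a g n
instance nor_Rs : (Rs : Subgroup (U K)).Normal := normal_of_cm fun g n _ => cm_b g n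

theorem Z1_le_Z2 : (Z1 : Subgroup (U K)) ≤ Z2 := fun _ h => ⟨h.1, h.2.1, h.2.2.1, h.2.2.2.1⟩
theorem Z2_le_Z3 : (Z2 : Subgroup (U K)) ≤ Z3 := fun _ h => ⟨h.1, h.2.1, h.2.2.1⟩
theorem Z3_le_Z4 : (Z3 : Subgroup (U K)) ≤ Z4 := fun _ h => ⟨h.1, h.2.1⟩
theorem Z4_le_Qs : (Z4 : Subgroup (U K)) ≤ Qs := fun _ h => h.1
theorem Z4_le_Rs : (Z4 : Subgroup (U K)) ≤ Rs := fun _ h => h.2

/-- Coordinates as a bijection. -/
def U.equiv : U K ≃ (K × K × K) × kk K × kk K × kk K where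
  toFun g := ((g.a, g.c, g.d), ⟨g.b, g.hb⟩, ⟨g.e, g.he⟩, ⟨g.z, g.hz⟩)
  invFun t := ⟨t.1.1, t.2.1, t.1.2.1, t.1.2.2, t.2.2.1, t.2.2.2, t.2.1.2, t.2.2.1.2, t.2.2.2.2⟩
  left_inv _ := rfl
  right_inv _ := rfl

instance : Finite (U K) := Finite.of_equiv _ U.equiv.symm

theorem card_U : Nat.card (U K) = qq K ^ 12 := by
  rw [Nat.card_congr U.equiv]
  simp only [Nat.card_prod, card_kk, card_K]
  ring

theorem isPGroup_U : IsPGroup (Tri.p K) (U K) :=
  IsPGroup.of_card (n := Tri.n K * 12) (by rw [card_U, qq, pow_mul])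

end Cfsg.Agent.D4F
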